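import Mathlib

/-!
# Groups containing the linear group of an extension field: basic tools

`V` is a `K`-space, `K/F` an extension of finite fields of prime degree, `X` a subgroup of the
`F`-linear automorphisms of `V` containing the `K`-linear ones of determinant one.
-/

set_option autoImplicit false

namespace CfsgLib.ExtField

open Module

variable {F K V : Type*} [Field F] [Field K] [Algebra F K] [AddCommGroup V] [Module F V]
  [Module K V] [IsScalarTower F K V]

/-- `1 + N` lies in `X`. -/
def MemOne (X : Subgroup (V ≃ₗ[F] V)) (N : V →ₗ[F] V) : Prop :=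
  ∃ g ∈ X, ∀ x, g x = x + N x

theorem MemOne.zero (X : Subgroup (V ≃ₗ[F] V)) : MemOne X 0 :=
  ⟨1, X.one_mem, fun x => by simp⟩

theorem MemOne.add {X : Subgroup (V ≃ₗ[F] V)} {N M : V →ₗ[F] V} (hN : MemOne X N)
    (hM : MemOne X M) (h : N ∘ₗ M = 0) : MemOne X (N + M) := by
  obtain ⟨g, hg, hgN⟩ := hN
  obtain ⟨g', hg', hgM⟩ := hM
  refine ⟨g * g', X.mul_mem hg hg', fun x => ?_⟩
  have h0 : N (M x) = 0 := LinearMap.congr_fun h x
  show g (g' x) = x + (N + M) x
  rw [hgN, hgM, map_add, h0, LinearMap.add_apply]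
  abel

theorem MemOne.neg {X : Subgroup (V ≃ₗ[F] V)} {N : V →ₗ[F] V} (hN : MemOne X N)
    (h : N ∘ₗ N = 0) : MemOne X (-N) := by
  obtain ⟨g, hg, hgN⟩ := hN
  refine ⟨g⁻¹, X.inv_mem hg, fun x => ?_⟩
  apply g.injective
  have h0 : N (N x) = 0 := LinearMap.congr_fun h x
  have hx : g (g⁻¹ x) = x := g.apply_symm_apply x
  rw [hx, hgN, LinearMap.neg_apply, map_add, map_neg, h0]
  abel

theorem MemOne.conj {X : Subgroup (V ≃ₗ[F] V)} {N : V →ₗ[F] V} (hN : MemOne X N)
    {g : V ≃ₗ[F] V} (hg : g ∈ X) :
    MemOne X (g.toLinearMap ∘ₗ N ∘ₗ g.symm.toLinearMap) := by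
  obtain ⟨h, hh, hhN⟩ := hN
  refine ⟨g * h * g⁻¹, X.mul_mem (X.mul_mem hg hh) (X.inv_mem hg), fun x => ?_⟩
  show g (h (g.symm x)) = x + g (N (g.symm x))
  rw [hhN, map_add, g.apply_symm_apply]

theorem MemOne.commutator {X : Subgroup (V ≃ₗ[F] V)} {N M : V →ₗ[F] V} (hN : MemOne X N)
    (hM : MemOne X M) (hNN : N ∘ₗ N = 0) (hMM : M ∘ₗ M = 0)
    (hNMN : N ∘ₗ M ∘ₗ N = 0) (hMNM : M ∘ₗ N ∘ₗ M = 0) :
    MemOne X (N ∘ₗ M - M ∘ₗ N) := by
  obtain ⟨g, hg, hgN⟩ := hN
  obtain ⟨g', hg', hgM⟩ := hM
  refine ⟨g * g' * g⁻¹ * g'⁻¹, X.mul_mem (X.mul_mem (X.mul_mem hg hg') (X.inv_mem hg))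
    (X.inv_mem hg'), fun x => ?_⟩
  have e1 : ∀ y, N (N y) = 0 := LinearMap.congr_fun hNN
  have e2 : ∀ y, M (M y) = 0 := LinearMap.congr_fun hMM
  have e3 : ∀ y, N (M (N y)) = 0 := LinearMap.congr_fun hNMN
  have e4 : ∀ y, M (N (M y)) = 0 := LinearMap.congr_fun hMNM
  have i1 : ∀ y, g⁻¹ y = y - N y := fun y => by
    apply g.injective
    rw [show g (g⁻¹ y) = y from g.apply_symm_apply y, hgN, map_sub, e1]
    abel
  have i2 : ∀ y, g'⁻¹ y = y - M y := fun y => by
    apply g'.injective
    rw [show g' (g'⁻¹ y) = y from g'.apply_symm_apply y, hgM, map_sub, e2]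
    abel
  show g (g' (g⁻¹ (g'⁻¹ x))) = x + (N ∘ₗ M - M ∘ₗ N) x
  simp only [hgN, hgM, i1, i2, LinearMap.sub_apply, LinearMap.comp_apply, map_add, map_sub,
    e1, e2, e3, e4, map_zero]
  abel

/-- The map `x ↦ ψ x • u`. -/
def rootMap (ψ : V →ₗ[K] K) (u : V) : V →ₗ[F] V :=
  (ψ.smulRight u).restrictScalars F

@[simp] theorem rootMap_apply (ψ : V →ₗ[K] K) (u x : V) :
    rootMap (F := F) ψ u x = ψ x • u := rfl

/-- `X` contains the `K`-linear automorphisms of determinant one. -/
def ContainsSL (K : Type*) [Field K] [Module K V] (X : Subgroup (V ≃ₗ[F] V)) : Prop :=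
  ∀ g : V ≃ₗ[F] V, (∀ (k : K) x, g (k • x) = k • g x) → LinearEquiv.det g = 1 → g ∈ X

variable [FiniteDimensional F K] [FiniteDimensional K V]

theorem det_dilatransvection {ψ : V →ₗ[K] K} {u : V} (h : IsUnit (1 + ψ u)) :
    ((LinearEquiv.dilatransvection h).restrictScalars F).toLinearMap.det
      = Algebra.norm F (1 + ψ u) := by
  haveI : FiniteDimensional F V := Module.Finite.trans K V
  have e : ((LinearEquiv.dilatransvection h).restrictScalars F).toLinearMap
      = (LinearMap.transvection ψ u).restrictScalars F := rfl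
  rw [e, LinearMap.det_restrictScalars, LinearMap.transvection.det]

theorem ContainsSL.dilatransvection {X : Subgroup (V ≃ₗ[F] V)} (hX : ContainsSL K X)
    {ψ : V →ₗ[K] K} {u : V} (h : IsUnit (1 + ψ u)) (hn : Algebra.norm F (1 + ψ u) = 1) :
    (LinearEquiv.dilatransvection h).restrictScalars F ∈ X := by
  apply hX
  · intro k x
    exact map_smul (LinearEquiv.dilatransvection h) k x
  · apply Units.ext
    rw [LinearEquiv.coe_det, det_dilatransvection, hn, Units.val_one]

theorem ContainsSL.root {X : Subgroup (V ≃ₗ[F] V)} (hX : ContainsSL K X)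
    {ψ : V →ₗ[K] K} {u : V} (hu : ψ u = 0) : MemOne X (rootMap ψ u) := by
  have h : IsUnit (1 + ψ u) := by rw [hu, add_zero]; exact isUnit_one
  refine ⟨_, hX.dilatransvection h (by rw [hu, add_zero, map_one]), fun x => ?_⟩
  exact LinearEquiv.dilatransvection.apply (h := h)

/-- The element fixing `ker ψ` pointwise and multiplying `u` by `d`, for `ψ u = 1`, `N d = 1`. -/
theorem ContainsSL.torus {X : Subgroup (V ≃ₗ[F] V)} (hX : ContainsSL K X)
    {ψ : V →ₗ[K] K} {u : V} (hu : ψ u = 1) {d : K} (hd : Algebra.norm F d = 1) :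
    ∃ g ∈ X, ∀ x, g x = x + ((d - 1) * ψ x) • u := by
  have hd0 : d ≠ 0 := by
    intro h0; rw [h0, Algebra.norm_zero] at hd; exact zero_ne_one hd
  have hval : 1 + ψ ((d - 1) • u) = d := by rw [map_smul, hu]; simp
  have h : IsUnit (1 + ψ ((d - 1) • u)) := by rw [hval]; exact isUnit_iff_ne_zero.mpr hd0
  refine ⟨_, hX.dilatransvection h (by rw [hval, hd]), fun x => ?_⟩
  show LinearEquiv.dilatransvection h x = _
  rw [LinearEquiv.dilatransvection.apply, smul_smul, mul_comm]

omit [FiniteDimensional F K] [Module F V] [IsScalarTower F K V] in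
/-- A functional that is zero on `u` and one on `w`. -/
theorem exists_dual_zero_one {u w : V} (h : w ∉ Submodule.span K {u}) :
    ∃ ψ : V →ₗ[K] K, ψ u = 0 ∧ ψ w = 1 := by
  obtain ⟨f, hf, hfu⟩ := Submodule.exists_dual_map_eq_bot_of_notMem h inferInstance
  refine ⟨(f w)⁻¹ • f, ?_, ?_⟩
  · have : f u ∈ (Submodule.span K {u}).map f :=
      Submodule.mem_map_of_mem (Submodule.mem_span_singleton_self u)
    rw [hfu, Submodule.mem_bot] at this
    simp [this]
  · simp [inv_mul_cancel₀ hf]

omit [FiniteDimensional F K] [Module F V] [IsScalarTower F K V] [FiniteDimensional K V] in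
theorem exists_notMem_span_pair {u w : V} [FiniteDimensional K V]
    (hm : 3 ≤ Module.finrank K V) : ∃ z : V, z ∉ Submodule.span K ({u, w} : Set V) := by
  classical
  by_contra h
  push Not at h
  have htop : Submodule.span K ({u, w} : Set V) = ⊤ := Submodule.eq_top_iff'.2 h
  have h2 := finrank_span_finset_le_card ({u, w} : Finset V) (R := K)
  rw [Finset.coe_insert, Finset.coe_singleton, Set.finrank, htop, finrank_top] at h2
  have h3 : ({u, w} : Finset V).card ≤ 2 := Finset.card_le_two
  omega

omit [FiniteDimensional F K] [Module F V] [IsScalarTower F K V] in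
theorem exists_notMem_span_singleton {u : V}
    (hm : 2 ≤ Module.finrank K V) : ∃ z : V, z ∉ Submodule.span K ({u} : Set V) := by
  by_contra h
  push Not at h
  have htop : Submodule.span K ({u} : Set V) = ⊤ := Submodule.eq_top_iff'.2 h
  rcases eq_or_ne u 0 with rfl | hu
  · have := finrank_bot K V
    rw [← Submodule.span_zero_singleton K, htop, finrank_top] at this
    omega
  · have := finrank_span_singleton (K := K) hu
    rw [htop, finrank_top] at this
    omega

variable [FiniteDimensional F V]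

omit [FiniteDimensional K V] in
/-- every `F`-functional is `lam ∘ ψ` -/
theorem exists_dual_comp {lam : K →ₗ[F] F} (hlam : lam ≠ 0) (χ : V →ₗ[F] F) :
    ∃ ψ : V →ₗ[K] K, ∀ x, lam (ψ x) = χ x := by
  haveI : FiniteDimensional K V := Module.Finite.right F K V
  let T : (V →ₗ[K] K) →ₗ[F] (V →ₗ[F] F) :=
    { toFun := fun ψ => lam ∘ₗ ψ.restrictScalars F
      map_add' := fun a b => by ext x; simp
      map_smul' := fun c a => by ext x; simp }
  have hinj : Function.Injective T := by
    rw [← LinearMap.ker_eq_bot, Submodule.eq_bot_iff]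
    intro ψ hψ
    rw [LinearMap.mem_ker] at hψ
    have h0 : ∀ x, lam (ψ x) = 0 := fun x => LinearMap.congr_fun hψ x
    by_contra hne
    obtain ⟨x, hx⟩ : ∃ x, ψ x ≠ 0 := by
      by_contra h
      push Not at h
      exact hne (LinearMap.ext h)
    apply hlam
    ext k
    have := h0 ((k / ψ x) • x)
    rw [map_smul, smul_eq_mul, div_mul_cancel₀ k hx] at this
    simpa using this
  have hdim : Module.finrank F (V →ₗ[K] K) = Module.finrank F (V →ₗ[F] F) := by
    rw [← Module.finrank_mul_finrank F K (V →ₗ[K] K), Module.finrank_linearMap_self,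
      Module.finrank_linearMap_self, Module.finrank_mul_finrank]
  haveI : FiniteDimensional F (V →ₗ[K] K) := Module.Finite.trans K _
  obtain ⟨ψ, hψ⟩ := (LinearMap.injective_iff_surjective_of_finrank_eq_finrank hdim).mp hinj χ
  exact ⟨ψ, fun x => LinearMap.congr_fun hψ x⟩

omit [FiniteDimensional F K] [FiniteDimensional K V] [FiniteDimensional F V] in
theorem exists_functional_one : ∃ π : K →ₗ[F] F, ∀ x : F, π (algebraMap F K x) = x := by
  obtain ⟨π, hπ⟩ := (Algebra.linearMap F K).exists_leftInverse_of_injective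
    (LinearMap.ker_eq_bot.mpr (algebraMap F K).injective)
  exact ⟨π, fun x => LinearMap.congr_fun hπ x⟩

omit [FiniteDimensional K V] [FiniteDimensional F V] in
/-- The elements of norm one generate `K` additively. -/
theorem norm_one_closure [Finite K] (hr : 2 ≤ Module.finrank F K) :
    AddSubgroup.closure {d : K | Algebra.norm F d = 1} = ⊤ := by
  classical
  haveI : Finite F := Finite.of_injective _ (algebraMap F K).injective
  set U : Set K := {d : K | Algebra.norm F d = 1} with hU
  let M : Submonoid K :=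
    { carrier := U
      mul_mem' := fun {a b} ha hb => by
        simp only [hU, Set.mem_ofPred_eq] at ha hb ⊢
        rw [map_mul, ha, hb, one_mul]
      one_mem' := by simp [hU] }
  let R : Subring K := Subring.closure U
  have hR : (R.toAddSubgroup : AddSubgroup K) = AddSubgroup.closure U := by
    apply SetLike.ext
    intro x
    show x ∈ Subring.closure U ↔ x ∈ AddSubgroup.closure U
    rw [Subring.mem_closure_iff, show Submonoid.closure U = M from Submonoid.closure_eq M]
    rfl
  rw [← hR]
  suffices h : R = ⊤ by rw [h]; rfl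
  haveI : Fintype K := Fintype.ofFinite K
  letI : Field R := (Finite.isDomain_to_isField R).toField
  by_contra hne
  have hd : 2 ≤ Module.finrank R K := by
    by_contra hlt
    have h1 : Module.finrank R K = 1 := by
      have := Module.finrank_pos (R := R) (M := K)
      omega
    apply hne
    rw [eq_top_iff]
    intro x _
    obtain ⟨c, hc⟩ := (finrank_eq_one_iff_of_nonzero' (1 : K) one_ne_zero).mp h1 x
    rw [← hc]
    show (c : K) * 1 ∈ R
    rw [mul_one]
    exact c.2
  have hcard : Nat.card K = Nat.card R ^ Module.finrank R K :=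
    Module.natCard_eq_pow_finrank
  have hcardK : Nat.card K = Nat.card F ^ Module.finrank F K :=
    Module.natCard_eq_pow_finrank
  have hsurj : Function.Surjective (Units.map (Algebra.norm F (S := K) : K →* F)) :=
    FiniteField.unitsMap_norm_surjective F K
  have hker := Subgroup.card_eq_card_quotient_mul_card_subgroup
    (Units.map (Algebra.norm F (S := K) : K →* F)).ker
  rw [Nat.card_congr (QuotientGroup.quotientKerEquivOfSurjective _ hsurj).toEquiv,
    Nat.card_units, Nat.card_units] at hker
  have hle : Nat.card (Units.map (Algebra.norm F (S := K) : K →* F)).ker < Nat.card R := by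
    let f : (Units.map (Algebra.norm F (S := K) : K →* F)).ker → R := fun d =>
      ⟨((d : Kˣ) : K), Subring.subset_closure (by
        have := congrArg Units.val (MonoidHom.mem_ker.mp d.2)
        simpa [hU] using this)⟩
    have hf : Function.Injective f := fun a b h =>
      Subtype.ext (Units.ext (congrArg (fun t : R => (t : K)) h))
    rw [Nat.card_eq_fintype_card, Nat.card_eq_fintype_card]
    refine Fintype.card_lt_of_injective_of_notMem f hf (b := 0) ?_
    rintro ⟨d, hd0⟩
    exact (d : Kˣ).ne_zero (congrArg (fun t : R => (t : K)) hd0)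
  set q := Nat.card F with hq
  set u := Nat.card (Units.map (Algebra.norm F (S := K) : K →* F)).ker with hu
  set L := Nat.card R with hL
  set r := Module.finrank F K with hr'
  have hq2 : 2 ≤ q := Finite.one_lt_card
  have h2 : L ^ 2 ≤ q ^ r := by
    rw [← hcardK, hcard]
    exact Nat.pow_le_pow_right Nat.card_pos hd
  rw [hcardK] at hker
  have h3 : q ^ r ≤ (q - 1) * u + 1 := by omega
  have h4 : q ^ (r - 1) < u + 1 := by
    have e : q ^ r = q * q ^ (r - 1) := by rw [← pow_succ', show r - 1 + 1 = r by omega]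
    by_contra hc
    push Not at hc
    have h5 : (q - 1) * u + (q - 1) ≤ (q - 1) * q ^ (r - 1) := by
      have := Nat.mul_le_mul_left (q - 1) hc
      rw [mul_add, mul_one] at this
      exact this
    have h6 : (q - 1) * q ^ (r - 1) + q ^ (r - 1) = q ^ r := by
      rw [e, Nat.sub_mul, one_mul, Nat.sub_add_cancel]
      exact Nat.le_mul_of_pos_left _ (by omega)
    have h7 : 1 ≤ q ^ (r - 1) := Nat.one_le_pow _ _ (by omega)
    omega
  have h8 : q ^ (r - 1) < L := by omega
  have h9 : q ^ r ≤ q ^ (r - 1) * q ^ (r - 1) := by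
    rw [← pow_add]
    exact Nat.pow_le_pow_right (by omega) (by omega)
  have h10 : q ^ (r - 1) * q ^ (r - 1) < L * L := Nat.mul_self_lt_mul_self h8
  rw [sq] at h2
  omega

end CfsgLib.ExtField
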