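import Cfsg.Agent.ExtField.Basic

/-!
# Bimodules of linear endomorphisms of an extension field

The endomorphisms of a finite extension field `K/F` are combinations of the field automorphisms, and an
additive group of endomorphisms stable under multiplications on both sides is spanned by some of them.
-/

set_option autoImplicit false

namespace CfsgLib.ExtField

open Module

variable {F K : Type*} [Field F] [Field K] [Algebra F K]

/-- Stable under multiplications on both sides. -/
def IsBimodule (E : AddSubgroup (K →ₗ[F] K)) : Prop :=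
  ∀ f ∈ E, ∀ k : K, f ∘ₗ LinearMap.mulLeft F k ∈ E ∧ LinearMap.mulLeft F k ∘ₗ f ∈ E

variable (F K) in
/-- The combination of automorphisms with given coefficients. -/
noncomputable def autSum [FiniteDimensional F K] : (Gal(K/F) → K) →ₗ[F] (K →ₗ[F] K) where
  toFun c := ∑ σ : Gal(K/F), LinearMap.mulLeft F (c σ) ∘ₗ σ.toLinearMap
  map_add' c d := by ext y; simp [add_mul, Finset.sum_add_distrib]
  map_smul' a c := by ext y; simp [Finset.smul_sum]

variable [FiniteDimensional F K]

theorem autSum_apply (c : Gal(K/F) → K) (y : K) : autSum F K c y = ∑ σ, c σ * σ y := by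
  simp [autSum]

theorem autSum_injective : Function.Injective (autSum F K) := by
  rw [← LinearMap.ker_eq_bot, Submodule.eq_bot_iff]
  intro c hc
  rw [LinearMap.mem_ker] at hc
  have hli : LinearIndependent K (fun σ : Gal(K/F) => ((σ : K →* K) : K → K)) := by
    apply (linearIndependent_monoidHom K K).comp (fun σ : Gal(K/F) => (σ : K →* K))
    intro σ τ h
    exact AlgEquiv.ext fun x => DFunLike.congr_fun h x
  funext σ
  refine Fintype.linearIndependent_iff.mp hli c ?_ σ
  funext y
  have := LinearMap.congr_fun hc y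
  rw [autSum_apply] at this
  simpa [Finset.sum_apply] using this

theorem autSum_surjective [Finite K] : Function.Surjective (autSum F K) := by
  haveI : Finite F := Finite.of_injective _ (algebraMap F K).injective
  have hdim : Module.finrank F (Gal(K/F) → K) = Module.finrank F (K →ₗ[F] K) := by
    rw [Module.finrank_pi_fintype, Finset.sum_const, Finset.card_univ, ← Nat.card_eq_fintype_card,
      IsGalois.card_aut_eq_finrank, Module.finrank_linearMap, smul_eq_mul]
  exact (LinearMap.injective_iff_surjective_of_finrank_eq_finrank hdim).mp autSum_injective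

/-- An automorphism with non-zero coefficient in a member belongs to the bimodule. -/
theorem aut_mem_of_coeff {E : AddSubgroup (K →ₗ[F] K)} (hE : IsBimodule E)
    {c : Gal(K/F) → K} (hc : autSum F K c ∈ E) {σ : Gal(K/F)} (hσ : c σ ≠ 0) :
    σ.toLinearMap ∈ E := by
  classical
  suffices h : ∀ n, ∀ c : Gal(K/F) → K, autSum F K c ∈ E → c σ ≠ 0 →
      (Finset.univ.filter fun τ => c τ ≠ 0).card ≤ n → σ.toLinearMap ∈ E from
    h _ c hc hσ le_rfl
  intro n
  induction n with
  | zero =>
    intro c _ hσ hcard
    exfalso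
    have : σ ∈ Finset.univ.filter fun τ => c τ ≠ 0 := by simp [hσ]
    rw [Nat.le_zero, Finset.card_eq_zero] at hcard
    simp [hcard] at this
  | succ n ih =>
    intro c hc hσ hcard
    by_cases hall : ∀ τ, τ ≠ σ → c τ = 0
    · have h := (hE _ hc (c σ)⁻¹).2
      convert h using 1
      ext y
      simp only [LinearMap.comp_apply, LinearMap.mulLeft_apply, autSum_apply]
      rw [Finset.sum_eq_single σ (fun τ _ hτ => by rw [hall τ hτ, zero_mul]) (by simp),
        inv_mul_cancel_left₀ hσ]
      rfl
    push Not at hall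
    obtain ⟨τ, hτσ, hτ⟩ := hall
    obtain ⟨k, hk⟩ : ∃ k, σ k ≠ τ k := by
      by_contra h
      push Not at h
      exact hτσ (AlgEquiv.ext fun x => (h x).symm)
    refine ih (fun ρ => c ρ * (ρ k - τ k)) ?_ (mul_ne_zero hσ (sub_ne_zero.mpr hk)) ?_
    · have h := E.sub_mem (hE _ hc k).1 (hE _ hc (τ k)).2
      convert h using 1
      ext y
      simp only [LinearMap.sub_apply, LinearMap.comp_apply, LinearMap.mulLeft_apply, autSum_apply,
        map_mul, Finset.mul_sum, ← Finset.sum_sub_distrib]
      refine Finset.sum_congr rfl fun ρ _ => ?_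
      ring
    · have hlt : (Finset.univ.filter fun ρ => c ρ * (ρ k - τ k) ≠ 0) ⊂
          Finset.univ.filter fun ρ => c ρ ≠ 0 := by
        rw [Finset.ssubset_iff_of_subset]
        · exact ⟨τ, by simp [hτ], by simp⟩
        · intro ρ
          simp only [Finset.mem_filter, Finset.mem_univ, true_and]
          intro h h0
          exact h (by rw [h0, zero_mul])
      have := Finset.card_lt_card hlt
      omega

/-- A bimodule containing the identity and meeting every automorphism is everything. -/
theorem bimodule_eq_top [Finite K] {E : AddSubgroup (K →ₗ[F] K)} (hE : IsBimodule E)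
    (h1 : LinearMap.id ∈ E)
    (h : ∀ σ : Gal(K/F), σ ≠ 1 → ∃ c, autSum F K c ∈ E ∧ c σ ≠ 0) (f : K →ₗ[F] K) :
    f ∈ E := by
  obtain ⟨c, rfl⟩ := autSum_surjective f
  have hall : ∀ σ : Gal(K/F), σ.toLinearMap ∈ E := by
    intro σ
    rcases eq_or_ne σ 1 with rfl | hσ
    · exact h1
    · obtain ⟨c, hc, hcσ⟩ := h σ hσ
      exact aut_mem_of_coeff hE hc hcσ
  have e : autSum F K c = ∑ σ : Gal(K/F), LinearMap.mulLeft F (c σ) ∘ₗ σ.toLinearMap := rfl
  rw [e]
  exact E.sum_mem fun σ _ => (hE _ (hall σ) _).2

/-- For degree two, one non-linear member is enough. -/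
theorem bimodule_eq_top_of_two [Finite K] (hr : Module.finrank F K = 2)
    {E : AddSubgroup (K →ₗ[F] K)} (hE : IsBimodule E) (h1 : LinearMap.id ∈ E)
    {f₀ : K →ₗ[F] K} (hf₀ : f₀ ∈ E) (hnl : ∀ β : K, ∃ y, f₀ y ≠ β * y) (f : K →ₗ[F] K) :
    f ∈ E := by
  haveI : Finite F := Finite.of_injective _ (algebraMap F K).injective
  refine bimodule_eq_top hE h1 (fun σ hσ => ?_) f
  obtain ⟨c, rfl⟩ := autSum_surjective f₀
  refine ⟨c, hf₀, fun h0 => ?_⟩
  obtain ⟨y, hy⟩ := hnl (c 1)
  apply hy
  rw [autSum_apply, Finset.sum_eq_single 1 (fun τ _ hτ => ?_) (by simp)]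
  · rfl
  have hcard : Fintype.card Gal(K/F) = 2 := by
    rw [← Nat.card_eq_fintype_card, IsGalois.card_aut_eq_finrank, hr]
  classical
  have : τ = σ := by
    by_contra hne
    have h3 : ({1, σ, τ} : Finset Gal(K/F)).card = 3 := by
      rw [Finset.card_insert_of_notMem (by simp [hσ.symm, hτ.symm]),
        Finset.card_insert_of_notMem (by simpa using fun h => hne h.symm), Finset.card_singleton]
    have := Finset.card_le_univ ({1, σ, τ} : Finset Gal(K/F))
    omega
  rw [this, h0, zero_mul]

/-- The coefficients of a rank one map: functionals are traces. -/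
theorem exists_trace_eq [Finite K] (χ : K →ₗ[F] F) :
    ∃ θ : K, ∀ y, algebraMap F K (χ y) = ∑ σ : Gal(K/F), σ (θ * y) := by
  haveI : Finite F := Finite.of_injective _ (algebraMap F K).injective
  have htr : Algebra.trace F K ≠ 0 := by
    obtain ⟨z, hz⟩ := Algebra.trace_surjective F K 1
    exact fun h => zero_ne_one (by rw [← hz, h]; rfl)
  obtain ⟨ψ, hψ⟩ := exists_dual_comp (V := K) htr χ
  refine ⟨ψ 1, fun y => ?_⟩
  have e : ψ 1 * y = ψ y := by
    conv_rhs => rw [show y = y • (1 : K) by simp]
    rw [map_smul, smul_eq_mul, mul_comm]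
  rw [e, ← hψ, trace_eq_sum_automorphisms]

end CfsgLib.ExtField
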