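import Cfsg.Agent.ExtField.Basic
import Cfsg.Prelude.Def_GeometricClasses

/-!
# Matrices and automorphisms; the module of a field of matrices
-/

set_option autoImplicit false

namespace CfsgLib.ExtField

open Cfsg.Geo
open scoped Matrix MatrixGroups

variable {F : Type*} [Field F] {ι : Type} [Fintype ι] [DecidableEq ι]

/-- Matrices as automorphisms of column vectors, any index type. -/
noncomputable def glAut : GL ι F ≃* ((ι → F) ≃ₗ[F] (ι → F)) :=
  Matrix.GeneralLinearGroup.toLin.trans (LinearMap.GeneralLinearGroup.generalLinearEquiv F _)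

theorem glAut_apply (g : GL ι F) (v : ι → F) : glAut g v = (g : Matrix ι ι F) *ᵥ v := rfl

theorem glAut_symm_apply (g : GL ι F) (v : ι → F) :
    (glAut g).symm v = ((g⁻¹ : GL ι F) : Matrix ι ι F) *ᵥ v := by
  apply (glAut g).injective
  rw [LinearEquiv.apply_symm_apply, glAut_apply, Matrix.mulVec_mulVec, Units.mul_inv,
    Matrix.one_mulVec]

/-- A field of matrices is a field. -/
theorem isField_subalgebra [Nonempty ι] {r : ℕ} {K : Subalgebra F (Matrix ι ι F)}
    (hK : IsFieldSubalgebra r K) : IsField K :=
  { exists_pair_ne := ⟨0, 1, fun h => zero_ne_one (congrArg Subtype.val h)⟩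
    mul_comm := fun x y => Subtype.ext (hK.comm x.1 x.2 y.1 y.2)
    mul_inv_cancel := fun {x} hx => by
      obtain ⟨y, hy, h⟩ := hK.inv x.1 x.2 (fun h => hx (Subtype.ext h))
      exact ⟨⟨y, hy⟩, Subtype.ext h⟩ }

variable (K : Subalgebra F (Matrix ι ι F))

/-- The module of column vectors over a subalgebra of matrices. -/
@[reducible] def mulVecModule : Module K (ι → F) where
  smul := fun a v => (a : Matrix ι ι F) *ᵥ v
  one_smul := fun v => Matrix.one_mulVec v
  mul_smul := fun a b v => (Matrix.mulVec_mulVec v _ _).symm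
  smul_zero := fun a => Matrix.mulVec_zero _
  smul_add := fun a v w => Matrix.mulVec_add _ v w
  add_smul := fun a b v => Matrix.add_mulVec _ _ v
  zero_smul := fun v => Matrix.zero_mulVec v

variable {K}

/-- One inclusion suffices to normalise a subalgebra. -/
theorem mem_normalizer_of_conj_mem {g : GL ι F}
    (h : ∀ k ∈ K, (g : Matrix ι ι F) * k * ((g⁻¹ : GL ι F) : Matrix ι ι F) ∈ K) :
    g ∈ subalgebraNormalizer K := by
  intro k
  refine ⟨h k, fun hk => ?_⟩
  let f : Subalgebra.toSubmodule K →ₗ[F] Subalgebra.toSubmodule K :=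
    { toFun := fun x => ⟨(g : Matrix ι ι F) * (x : Matrix ι ι F)
        * ((g⁻¹ : GL ι F) : Matrix ι ι F), h _ x.2⟩
      map_add' := fun x y => Subtype.ext (by simp [mul_add, add_mul])
      map_smul' := fun c x => Subtype.ext (by simp) }
  have hinj : Function.Injective f := by
    intro x y hxy
    have := congrArg Subtype.val hxy
    simp only [f, LinearMap.coe_mk, AddHom.coe_mk] at this
    rw [Units.mul_left_inj, Units.mul_right_inj] at this
    exact Subtype.ext this
  obtain ⟨x, hx⟩ := LinearMap.injective_iff_surjective.mp hinj ⟨_, hk⟩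
  have := congrArg Subtype.val hx
  simp only [f, LinearMap.coe_mk, AddHom.coe_mk] at this
  rw [Units.mul_left_inj, Units.mul_right_inj] at this
  rw [← this]
  exact x.2

/-- An element commuting with `K` normalises it. -/
theorem mem_normalizer_of_commute {g : GL ι F}
    (h : ∀ k ∈ K, (g : Matrix ι ι F) * k = k * (g : Matrix ι ι F)) :
    g ∈ subalgebraNormalizer K := by
  refine mem_normalizer_of_conj_mem fun k hk => ?_
  rw [h k hk, mul_assoc, Units.mul_inv, mul_one]
  exact hk

end CfsgLib.ExtField
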