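import Cfsg.Agent.ExtField.Basic

/-!
# One transvection gives all of them

If a group containing the `K`-linear automorphisms of determinant one contains one `F`-transvection,
it contains all of them.
-/

set_option autoImplicit false

namespace CfsgLib.ExtField

open Module

variable {F K V : Type*} [Field F] [Field K] [Algebra F K] [AddCommGroup V] [Module F V]
  [Module K V] [IsScalarTower F K V]

/-- `X` contains a transvection. -/
def HasTransvection (X : Subgroup (V ≃ₗ[F] V)) : Prop :=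
  ∃ (φ : V →ₗ[F] F) (w : V), φ ≠ 0 ∧ w ≠ 0 ∧ φ w = 0 ∧ MemOne X (φ.smulRight w)

/-- The axes of the transvections in `X` with centre `w`, as an additive group. -/
def axisGroup (X : Subgroup (V ≃ₗ[F] V)) (w : V) : AddSubgroup (V →ₗ[F] F) where
  carrier := {φ | φ w = 0 ∧ MemOne X (φ.smulRight w)}
  zero_mem' := by
    refine ⟨rfl, ?_⟩
    rw [show ((0 : V →ₗ[F] F).smulRight w) = 0 by ext x; simp]
    exact MemOne.zero X
  add_mem' := by
    rintro a b ⟨ha, hA⟩ ⟨hb, hB⟩
    refine ⟨by simp [ha, hb], ?_⟩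
    rw [show (a + b).smulRight w = a.smulRight w + b.smulRight w by ext x; simp [add_smul]]
    exact hA.add hB (by ext x; simp [ha])
  neg_mem' := by
    rintro a ⟨ha, hA⟩
    refine ⟨by simp [ha], ?_⟩
    rw [show (-a).smulRight w = -(a.smulRight w) by ext x; simp]
    exact hA.neg (by ext x; simp [ha])

theorem mem_axisGroup {X : Subgroup (V ≃ₗ[F] V)} {w : V} {φ : V →ₗ[F] F} :
    φ ∈ axisGroup X w ↔ φ w = 0 ∧ MemOne X (φ.smulRight w) := Iff.rfl

theorem axisGroup_conj {X : Subgroup (V ≃ₗ[F] V)} {w : V} {φ : V →ₗ[F] F}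
    (hφ : φ ∈ axisGroup X w) {g : V ≃ₗ[F] V} (hg : g ∈ X) :
    φ ∘ₗ g.symm.toLinearMap ∈ axisGroup X (g w) := by
  obtain ⟨hw, hM⟩ := hφ
  refine ⟨by simp [hw], ?_⟩
  rw [show (φ ∘ₗ g.symm.toLinearMap).smulRight (g w)
    = g.toLinearMap ∘ₗ φ.smulRight w ∘ₗ g.symm.toLinearMap by ext x; simp]
  exact hM.conj hg

theorem smul_eq_algebraMap_smul (c : F) (x : V) : c • x = algebraMap F K c • x :=
  (algebraMap_smul K c x).symm

variable [Finite K] [FiniteDimensional F K] [FiniteDimensional K V] [FiniteDimensional F V]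

omit [Finite K] in
/-- `X` is transitive on non-zero vectors. -/
theorem ContainsSL.exists_map_eq {X : Subgroup (V ≃ₗ[F] V)} (hX : ContainsSL K X)
    (hm : 2 ≤ Module.finrank K V) {a b : V} (ha : a ≠ 0) (hb : b ≠ 0) :
    ∃ g ∈ X, g a = b := by
  have step : ∀ a b : V, a ≠ 0 → b ∉ Submodule.span K {a} → ∃ g ∈ X, g a = b := by
    intro a b ha hb
    have hab : b - a ≠ 0 := by
      intro h
      exact hb (by rw [sub_eq_zero.mp h]; exact Submodule.mem_span_singleton_self a)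
    have ha' : a ∉ Submodule.span K ({b - a} : Set V) := by
      intro h
      obtain ⟨k, hk⟩ := Submodule.mem_span_singleton.mp h
      apply hb
      have hk0 : k ≠ 0 := by
        intro h0; rw [h0, zero_smul] at hk; exact ha hk.symm
      rw [Submodule.mem_span_singleton]
      refine ⟨k⁻¹ + 1, ?_⟩
      rw [add_smul, one_smul]
      conv_lhs => arg 1; rw [← hk, smul_smul, inv_mul_cancel₀ hk0, one_smul]
      abel
    obtain ⟨ψ, hψ, hψa⟩ := exists_dual_zero_one ha'
    obtain ⟨g, hg, hgN⟩ := hX.root hψ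
    exact ⟨g, hg, by rw [hgN, rootMap_apply, hψa, one_smul]; abel⟩
  by_cases hb' : b ∈ Submodule.span K ({a} : Set V)
  · obtain ⟨c, hc⟩ := exists_notMem_span_singleton (u := a) hm
    have hc0 : c ≠ 0 := fun h => hc (h ▸ Submodule.zero_mem _)
    obtain ⟨g, hg, hga⟩ := step a c ha hc
    have hbc : b ∉ Submodule.span K ({c} : Set V) := by
      intro h
      obtain ⟨k, hk⟩ := Submodule.mem_span_singleton.mp h
      have hk0 : k ≠ 0 := by intro h0; rw [h0, zero_smul] at hk; exact hb hk.symm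
      apply hc
      rw [← inv_smul_smul₀ hk0 c, hk]
      exact Submodule.smul_mem _ _ hb'
    obtain ⟨g', hg', hgb⟩ := step c b hc0 hbc
    exact ⟨g' * g, X.mul_mem hg' hg, by show g' (g a) = b; rw [hga, hgb]⟩
  · exact step a b ha hb'

/-- A centre with one axis carries all axes vanishing on its `K`-line. -/
theorem axis_of_vanishing_line {X : Subgroup (V ≃ₗ[F] V)} (hX : ContainsSL K X)
    (hr : 2 ≤ Module.finrank F K) (hm : 2 ≤ Module.finrank K V)
    {w : V} (hw : w ≠ 0) {φ : V →ₗ[F] F} (hφ : φ ∈ axisGroup X w) (hφ0 : φ ≠ 0)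
    (χ : V →ₗ[F] F) (hχ : ∀ k : K, χ (k • w) = 0) : χ ∈ axisGroup X w := by
  obtain ⟨π, hπ⟩ := exists_functional_one (F := F) (K := K)
  have hπ0 : π ≠ 0 := fun h => by
    have := hπ 1
    rw [h] at this
    exact zero_ne_one this
  by_cases hcase : ∀ k : K, φ (k • w) = 0
  swap
  · push Not at hcase
    obtain ⟨k0, hk0⟩ := hcase
    let lam : K →ₗ[F] F := φ ∘ₗ (LinearMap.toSpanSingleton K V w).restrictScalars F
    have hlam : lam ≠ 0 := fun h => hk0 (LinearMap.congr_fun h k0)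
    obtain ⟨ψ, hψ⟩ := exists_dual_comp hlam χ
    have hψw : ψ w = 0 := by
      by_contra hne
      obtain ⟨k, hk⟩ : ∃ k, lam k ≠ 0 := ⟨k0, hk0⟩
      apply hk
      have e := hψ ((k / ψ w) • w)
      rw [map_smul, smul_eq_mul, div_mul_cancel₀ k hne, hχ] at e
      exact e
    obtain ⟨g, hg, hgN⟩ := hX.root hψw
    have hgw : g w = w := by rw [hgN, rootMap_apply, hψw, zero_smul, add_zero]
    have h1 := axisGroup_conj hφ (X.inv_mem hg)
    rw [show (g⁻¹ : V ≃ₗ[F] V) w = w by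
      apply g.injective; rw [show g (g⁻¹ w) = w from g.apply_symm_apply w, hgw]] at h1
    have h2 := (axisGroup X w).sub_mem h1 hφ
    convert h2 using 1
    ext x
    simp only [LinearMap.sub_apply, LinearMap.comp_apply]
    show χ x = φ (g x) - φ x
    rw [hgN, rootMap_apply, map_add, add_sub_cancel_left, ← hψ x]
    rfl
  -- the axis vanishes on the line of `w`
  obtain ⟨ψ₀, hψ₀⟩ := exists_dual_comp hπ0 φ
  have van : ∀ (φ : V →ₗ[F] F) (ψ : V →ₗ[K] K), (∀ x, π (ψ x) = φ x) →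
      (∀ k : K, φ (k • w) = 0) → ψ w = 0 := by
    intro φ ψ h hv
    by_contra hne
    have := h ((1 / ψ w) • w)
    rw [map_smul, smul_eq_mul, div_mul_cancel₀ (1 : K) hne, hv,
      show (1 : K) = algebraMap F K 1 by rw [map_one], hπ] at this
    exact one_ne_zero this
  have hψ₀w := van φ ψ₀ hψ₀ hcase
  let Ψ : (V →ₗ[K] K) → Prop := fun ψ => ψ w = 0 ∧ π ∘ₗ ψ.restrictScalars F ∈ axisGroup X w
  have hΨ₀ : Ψ ψ₀ := by
    refine ⟨hψ₀w, ?_⟩
    convert hφ using 1
    ext x; exact hψ₀ x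
  have hψ₀0 : ψ₀ ≠ 0 := fun h => hφ0 (by ext x; rw [← hψ₀, h]; simp)
  -- conjugation by elements fixing `w`
  have conjΨ : ∀ ψ, Ψ ψ → ∀ g ∈ X, g w = w → ∀ ψ' : V →ₗ[K] K, (∀ x, ψ' x = ψ (g x)) →
      Ψ ψ' := by
    rintro ψ ⟨h0, h1⟩ g hg hgw ψ' hψ'
    refine ⟨by rw [hψ', hgw, h0], ?_⟩
    have h2 := axisGroup_conj h1 (X.inv_mem hg)
    rw [show (g⁻¹ : V ≃ₗ[F] V) w = w by
      apply g.injective; rw [show g (g⁻¹ w) = w from g.apply_symm_apply w, hgw]] at h2
    convert h2 using 1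
    ext x
    show π (ψ' x) = π (ψ (g x))
    rw [hψ']
  -- scaling
  have scaleΨ : ∀ ψ, Ψ ψ → ∀ k : K, Ψ (k • ψ) := by
    intro ψ hψ k
    rcases eq_or_ne ψ 0 with rfl | hne
    · rw [smul_zero]; exact hψ
    have hk : k ∈ AddSubgroup.closure {d : K | Algebra.norm F d = 1} := by
      rw [norm_one_closure hr]; exact AddSubgroup.mem_top k
    induction hk using AddSubgroup.closure_induction with
    | zero =>
      rw [zero_smul]
      refine ⟨rfl, ?_⟩
      rw [show π ∘ₗ (0 : V →ₗ[K] K).restrictScalars F = 0 by ext x; simp]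
      exact (axisGroup X w).zero_mem
    | add a b _ _ ha hb =>
      refine ⟨by rw [add_smul, LinearMap.add_apply, ha.1, hb.1, add_zero], ?_⟩
      rw [show π ∘ₗ ((a + b) • ψ).restrictScalars F
        = π ∘ₗ (a • ψ).restrictScalars F + π ∘ₗ (b • ψ).restrictScalars F by
          ext x; simp [add_mul]]
      exact (axisGroup X w).add_mem ha.2 hb.2
    | neg a _ ha =>
      refine ⟨by simpa using ha.1, ?_⟩
      rw [show π ∘ₗ ((-a) • ψ).restrictScalars F = -(π ∘ₗ (a • ψ).restrictScalars F) by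
        ext x; simp]
      exact (axisGroup X w).neg_mem ha.2
    | mem d hd =>
      obtain ⟨z, hz⟩ : ∃ z, ψ z ≠ 0 := by
        by_contra h
        push Not at h
        exact hne (LinearMap.ext h)
      have hu : ψ ((ψ z)⁻¹ • z) = 1 := by rw [map_smul, smul_eq_mul, inv_mul_cancel₀ hz]
      obtain ⟨g, hg, hgx⟩ := hX.torus hu hd
      refine conjΨ ψ hψ g hg ?_ (d • ψ) fun x => ?_
      · rw [hgx, hψ.1, mul_zero, zero_smul, add_zero]
      · rw [hgx, map_add, map_smul, hu, LinearMap.smul_apply, smul_eq_mul, smul_eq_mul]; ring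
  -- independent functionals
  have indepΨ : ∀ ψ, Ψ ψ → ψ ≠ 0 → ∀ ψ' : V →ₗ[K] K, ψ' w = 0 →
      ψ' ∉ Submodule.span K {ψ} → Ψ ψ' := by
    intro ψ hψ hne ψ' hψ'w hind
    obtain ⟨z, hz1, hz2⟩ : ∃ z, ψ z = 1 ∧ ψ' z = 0 := by
      obtain ⟨u, hu⟩ : ∃ u, ψ u ≠ 0 := by
        by_contra h
        push Not at h
        exact hne (LinearMap.ext h)
      set u' := (ψ u)⁻¹ • u with hu'
      have hu1 : ψ u' = 1 := by rw [hu', map_smul, smul_eq_mul, inv_mul_cancel₀ hu]
      obtain ⟨x, hx⟩ : ∃ x, ψ' x - ψ' u' * ψ x ≠ 0 := by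
        by_contra h
        push Not at h
        apply hind
        rw [Submodule.mem_span_singleton]
        exact ⟨ψ' u', LinearMap.ext fun x => (sub_eq_zero.mp (h x)).symm⟩
      refine ⟨u' - (ψ' u' / (ψ' x - ψ' u' * ψ x)) • (x - ψ x • u'), ?_, ?_⟩
      · simp [hu1]
      · simp only [map_sub, map_smul, smul_eq_mul]
        field_simp
        ring
    obtain ⟨g, hg, hgx⟩ := hX.root (ψ := ψ') (u := z) hz2
    have h1 : Ψ (ψ + ψ') := by
      refine conjΨ ψ hψ g hg ?_ _ fun x => ?_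
      · rw [hgx, rootMap_apply, hψ'w, zero_smul, add_zero]
      · rw [hgx, rootMap_apply, map_add, map_smul, hz1, LinearMap.add_apply, smul_eq_mul,
          mul_one]
    refine ⟨hψ'w, ?_⟩
    have h2 := (axisGroup X w).sub_mem h1.2 hψ.2
    convert h2 using 1
    ext x
    simp
  obtain ⟨ψ, hψ⟩ := exists_dual_comp hπ0 χ
  have hψw := van χ ψ hψ hχ
  have hfin : Ψ ψ := by
    by_cases hmem : ψ ∈ Submodule.span K {ψ₀}
    · obtain ⟨k, hk⟩ := Submodule.mem_span_singleton.mp hmem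
      rw [← hk]
      exact scaleΨ ψ₀ hΨ₀ k
    · exact indepΨ ψ₀ hΨ₀ hψ₀0 ψ hψw hmem
  convert hfin.2 using 1
  ext x
  exact (hψ x).symm

/-- One transvection gives all transvections. -/
theorem transvections_mem {X : Subgroup (V ≃ₗ[F] V)} (hX : ContainsSL K X)
    (hr : 2 ≤ Module.finrank F K) (hm : 2 ≤ Module.finrank K V) (hT : HasTransvection X)
    (φ : V →ₗ[F] F) (w : V) (hφw : φ w = 0) : MemOne X (φ.smulRight w) := by
  obtain ⟨φ₀, w₀, hφ₀, hw₀, hφw₀, hM₀⟩ := hT
  rcases eq_or_ne w 0 with rfl | hw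
  · rw [show φ.smulRight (0 : V) = 0 by ext x; simp]
    exact MemOne.zero X
  have hvan : ∀ w : V, w ≠ 0 → ∀ χ : V →ₗ[F] F, (∀ k : K, χ (k • w) = 0) →
      χ ∈ axisGroup X w := by
    intro w hw χ hχ
    obtain ⟨g, hg, hgw⟩ := hX.exists_map_eq hm hw₀ hw
    have h1 := axisGroup_conj (mem_axisGroup.mpr ⟨hφw₀, hM₀⟩) hg
    rw [hgw] at h1
    refine axis_of_vanishing_line hX hr hm hw h1 ?_ χ hχ
    intro h0
    apply hφ₀
    ext x
    have := LinearMap.congr_fun h0 (g x)
    simpa using this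
  by_cases hcase : ∀ k : K, φ (k • w) = 0
  · exact (hvan w hw φ hcase).2
  push Not at hcase
  obtain ⟨π, hπ⟩ := exists_functional_one (F := F) (K := K)
  have hπ0 : π ≠ 0 := fun h => by
    have := hπ 1
    rw [h] at this
    exact zero_ne_one this
  obtain ⟨ψ, hψ⟩ := exists_dual_comp hπ0 φ
  have hker : 1 ≤ Module.finrank K (LinearMap.ker ψ) := by
    have h1 := ψ.finrank_range_add_finrank_ker
    have h2 := Submodule.finrank_le (LinearMap.range ψ)
    rw [Module.finrank_self] at h2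
    omega
  obtain ⟨u, hu, hu0⟩ := (Submodule.ne_bot_iff _).mp (by
    intro h
    rw [h, finrank_bot] at hker
    omega : LinearMap.ker ψ ≠ ⊥)
  rw [LinearMap.mem_ker] at hu
  have hψw : ψ w ≠ 0 := by
    intro h
    obtain ⟨k, hk⟩ := hcase
    apply hk
    rw [← hψ, map_smul, h, smul_zero, map_zero]
  have huw : u ∉ Submodule.span K ({w} : Set V) := by
    intro h
    obtain ⟨k, hk⟩ := Submodule.mem_span_singleton.mp h
    rw [← hk, map_smul, smul_eq_mul] at hu
    rcases mul_eq_zero.mp hu with h0 | h0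
    · exact hu0 (by rw [← hk, h0, zero_smul])
    · exact hψw h0
  obtain ⟨ψ', hψ'w, hψ'u⟩ := exists_dual_zero_one huw
  let φ₁ : V →ₗ[F] F := π ∘ₗ ψ'.restrictScalars F
  have hφ₁ : ∀ k : K, φ₁ (k • w) = 0 := fun k => by simp [φ₁, hψ'w]
  have hφ₁u : φ₁ u = 1 := by
    show π (ψ' u) = 1
    rw [hψ'u, show (1 : K) = algebraMap F K 1 by rw [map_one], hπ]
  have hφu : ∀ k : K, φ (k • u) = 0 := fun k => by rw [← hψ, map_smul, hu, smul_zero, map_zero]
  obtain ⟨h1w, h1⟩ := hvan w hw φ₁ hφ₁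
  obtain ⟨h2u, h2⟩ := hvan u hu0 φ hφu
  have e := h1.commutator h2 (by ext x; simp [h1w]) (by ext x; simp [h2u])
    (by ext x; simp [hφw]) (by ext x; simp [hφw])
  convert e using 1
  ext x
  simp [hφ₁u, hφw]

end CfsgLib.ExtField
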