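import Cfsg.Agent.ExtField.Frame
import Cfsg.Agent.ExtField.Bimodule

/-!
# The maps from the second coordinate to the first in the group
-/

set_option autoImplicit false

namespace CfsgLib.ExtField

open Module

variable {F K V : Type*} [Field F] [Field K] [Algebra F K] [AddCommGroup V] [Module F V]
  [Module K V] [IsScalarTower F K V] {X : Subgroup (V ≃ₗ[F] V)}

namespace Frame

/-- The map `x ↦ f (ψ x) • u`. -/
def off (fr : Frame X K) (f : K →ₗ[F] K) : V →ₗ[F] V :=
  lineHom fr.u ∘ₗ f ∘ₗ fr.ψ.restrictScalars F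

@[simp] theorem off_apply (fr : Frame X K) (f : K →ₗ[F] K) (x : V) :
    fr.off f x = f (fr.ψ x) • fr.u := rfl

/-- The `f` with `1 + off f` in `X`. -/
def fiber (fr : Frame X K) : AddSubgroup (K →ₗ[F] K) where
  carrier := {f | MemOne X (fr.off f)}
  zero_mem' := by
    show MemOne X (fr.off 0)
    rw [show fr.off 0 = 0 by ext x; simp]
    exact MemOne.zero X
  add_mem' := by
    intro a b ha hb
    show MemOne X (fr.off (a + b))
    rw [show fr.off (a + b) = fr.off a + fr.off b by ext x; simp [add_smul]]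
    exact MemOne.add ha hb (by ext x; simp [fr.ψu])
  neg_mem' := by
    intro a ha
    show MemOne X (fr.off (-a))
    rw [show fr.off (-a) = -fr.off a by ext x; simp]
    exact MemOne.neg ha (by ext x; simp [fr.ψu])

theorem mem_fiber {fr : Frame X K} {f : K →ₗ[F] K} : f ∈ fr.fiber ↔ MemOne X (fr.off f) :=
  Iff.rfl

theorem κ_smul_u (fr : Frame X K) (k : K) : fr.κ (k • fr.u) = k := by simp [fr.κu]

theorem ψ_smul_w (fr : Frame X K) (k : K) : fr.ψ (k • fr.w) = k := by simp [fr.ψw]

theorem u_ne_zero (fr : Frame X K) : fr.u ≠ 0 := fun h => by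
  have := fr.κu
  rw [h, map_zero] at this
  exact zero_ne_one this

theorem w_ne_zero (fr : Frame X K) : fr.w ≠ 0 := fun h => by
  have := fr.ψw
  rw [h, map_zero] at this
  exact zero_ne_one this

variable [Finite K] [FiniteDimensional F K] [FiniteDimensional K V]

theorem id_mem (hX : ContainsSL K X) (fr : Frame X K) : LinearMap.id ∈ fr.fiber :=
  mem_fiber.mpr (hX.root fr.ψu)

theorem fiber_isBimodule (hX : ContainsSL K X) (hr : 2 ≤ Module.finrank F K) (fr : Frame X K) :
    IsBimodule fr.fiber := by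
  intro f hf k
  have hk : k ∈ AddSubgroup.closure {d : K | Algebra.norm F d = 1} := by
    rw [norm_one_closure hr]; exact AddSubgroup.mem_top k
  induction hk using AddSubgroup.closure_induction with
  | zero =>
    constructor
    · rw [show f ∘ₗ LinearMap.mulLeft F (0 : K) = 0 by ext; simp]
      exact fr.fiber.zero_mem
    · rw [show LinearMap.mulLeft F (0 : K) ∘ₗ f = 0 by ext; simp]
      exact fr.fiber.zero_mem
  | add a b _ _ ha hb =>
    constructor
    · rw [show f ∘ₗ LinearMap.mulLeft F (a + b)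
        = f ∘ₗ LinearMap.mulLeft F a + f ∘ₗ LinearMap.mulLeft F b by ext; simp [add_mul]]
      exact fr.fiber.add_mem ha.1 hb.1
    · rw [show LinearMap.mulLeft F (a + b) ∘ₗ f
        = LinearMap.mulLeft F a ∘ₗ f + LinearMap.mulLeft F b ∘ₗ f by ext; simp [add_mul]]
      exact fr.fiber.add_mem ha.2 hb.2
  | neg a _ ha =>
    constructor
    · rw [show f ∘ₗ LinearMap.mulLeft F (-a) = -(f ∘ₗ LinearMap.mulLeft F a) by ext; simp]
      exact fr.fiber.neg_mem ha.1
    · rw [show LinearMap.mulLeft F (-a) ∘ₗ f = -(LinearMap.mulLeft F a ∘ₗ f) by ext; simp]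
      exact fr.fiber.neg_mem ha.2
  | mem d hd =>
    constructor
    · obtain ⟨g, hg, hgx⟩ := hX.torus fr.ψw hd
      have h := (mem_fiber.mp hf).conj (X.inv_mem hg)
      rw [mem_fiber]
      convert h using 1
      ext x
      show f (d * fr.ψ x) • fr.u = g.symm (f (fr.ψ (g x)) • fr.u)
      apply g.injective
      rw [g.apply_symm_apply, hgx]
      simp only [map_smul, fr.ψu, smul_eq_mul, mul_zero, zero_smul, add_zero]
      rw [hgx, map_add, map_smul, fr.ψw, smul_eq_mul]
      ring_nf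
    · obtain ⟨g, hg, hgx⟩ := hX.torus fr.κu hd
      have h := (mem_fiber.mp hf).conj hg
      rw [mem_fiber]
      convert h using 1
      ext x
      show (d * f (fr.ψ x)) • fr.u = g (f (fr.ψ (g.symm x)) • fr.u)
      have hψ : fr.ψ (g.symm x) = fr.ψ x := by
        conv_rhs => rw [← g.apply_symm_apply x, hgx]
        simp [fr.ψu]
      rw [hψ, hgx, map_smul, fr.κu, smul_eq_mul, mul_one, ← add_smul]
      congr 1
      ring

variable [FiniteDimensional F V]

/-- A full fiber gives a transvection. -/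
theorem hasTransvection_of_forall (fr : Frame X K) (h : ∀ f : K →ₗ[F] K, f ∈ fr.fiber) :
    HasTransvection X := by
  obtain ⟨π, hπ⟩ := exists_functional_one (F := F) (K := K)
  refine hasTransvection_of_rank_one (mem_fiber.mp (h (Algebra.linearMap F K ∘ₗ π)))
    (fun x => ?_) (v := fr.u) (fun x => ?_) (x₀ := fr.w) ?_
  · simp [fr.ψu]
  · refine Submodule.mem_span_singleton.mpr ⟨π (fr.ψ x), ?_⟩
    simp
  · simp only [off_apply, LinearMap.comp_apply, Algebra.linearMap_apply, fr.ψw]
    rw [show (1 : K) = algebraMap F K 1 by rw [map_one], hπ]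
    simp [fr.u_ne_zero]

/-- A functional vanishing on `Dk` with value one at `a`. -/
theorem exists_phi (fr : Frame X K) :
    ∃ φ : K →ₗ[F] F, (∀ d ∈ fr.Dk, φ d = 0) ∧ φ fr.a = 1 ∧
      ∀ e, e - algebraMap F K (φ e) * fr.a ∈ fr.Dk := by
  obtain ⟨f, hf, hfD⟩ := Submodule.exists_dual_map_eq_bot_of_notMem fr.a_notMem inferInstance
  have h0 : ∀ d ∈ fr.Dk, f d = 0 := fun d hd => by
    have : f d ∈ fr.Dk.map f := Submodule.mem_map_of_mem hd
    rwa [hfD, Submodule.mem_bot] at this
  refine ⟨(f fr.a)⁻¹ • f, fun d hd => by simp [h0 d hd], by simp [inv_mul_cancel₀ hf], ?_⟩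
  intro e
  have hle := le_sup_span_of_hyperplane (le_top : fr.Dk ≤ ⊤)
    (by rw [finrank_top]; exact fr.finrank_Dk) Submodule.mem_top fr.a_notMem
  obtain ⟨d, hd, y, hy, rfl⟩ := Submodule.mem_sup.mp (hle (Submodule.mem_top (x := e)))
  obtain ⟨c, rfl⟩ := Submodule.mem_span_singleton.mp hy
  rw [← Algebra.smul_def]
  convert hd using 1
  simp [h0 d hd, inv_mul_cancel₀ hf, mul_left_comm]

/-- The value of a conjugate root on the first coordinate line. -/
theorem M_smul_u (fr : Frame X K) {φ : K →ₗ[F] F}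
    (hφ : ∀ e, e - algebraMap F K (φ e) * fr.a ∈ fr.Dk) {d : K} (hd : d ∈ fr.Dk) (c : F) (e : K) :
    fr.M (d • fr.u + c • fr.w) (e • fr.u) = φ e • (d • fr.u + c • fr.w) := by
  have h := fr.M_u (d • fr.u + c • fr.w) _ (hφ e)
  rw [sub_smul, map_sub, sub_eq_zero] at h
  rw [h, mul_smul, algebraMap_smul, map_smul, fr.M_a d hd c]

/-- The second coordinate of the values of a conjugate root. -/
theorem exists_alpha (fr : Frame X K) {φ : K →ₗ[F] F}
    (hφ : ∀ e, e - algebraMap F K (φ e) * fr.a ∈ fr.Dk) {d : K} (hd : d ∈ fr.Dk) :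
    ∃ α : K →ₗ[F] F, α 1 = 0 ∧
      ∀ x, fr.ψ (fr.M (d • fr.u) x) = algebraMap F K (α (fr.ψ x)) := by
  obtain ⟨π, hπ⟩ := exists_functional_one (F := F) (K := K)
  refine ⟨π ∘ₗ fr.ψ.restrictScalars F ∘ₗ fr.M (d • fr.u) ∘ₗ lineHom fr.w, ?_, fun x => ?_⟩
  · simp [fr.M_w]
  · have e1 : fr.ψ (fr.M (d • fr.u) x) = fr.ψ (fr.M (d • fr.u) (fr.ψ x • fr.w)) := by
      conv_lhs => rw [fr.decomp x]
      have := fr.M_smul_u hφ hd 0 (fr.κ x)
      rw [zero_smul, add_zero] at this
      rw [map_add, this]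
      simp [fr.ψu, LinearMap.map_smul_of_tower]
    obtain ⟨d', -, c, hc⟩ := fr.M_range (d • fr.u) (fr.ψ x • fr.w)
    have e2 : fr.ψ (fr.M (d • fr.u) (fr.ψ x • fr.w)) = algebraMap F K c := by
      rw [hc]
      simp [fr.ψu, fr.ψw, LinearMap.map_smul_of_tower, ← Algebra.algebraMap_eq_smul_one]
    rw [e1, e2]
    congr 1
    simp [e2, hπ]

end Frame

end CfsgLib.ExtField
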