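import Cfsg.Agent.ExtField.Plane

/-!
# The field with two elements, degree two, dimension two; the main theorem
-/

set_option autoImplicit false

namespace CfsgLib.ExtField

open Module

variable {F K V : Type*} [Field F] [Field K] [Algebra F K] [AddCommGroup V] [Module F V]
  [Module K V] [IsScalarTower F K V] {X : Subgroup (V ≃ₗ[F] V)}

namespace Frame

variable [Finite K] [FiniteDimensional F K] [FiniteDimensional K V] [FiniteDimensional F V]

omit [Finite K] in
/-- With two scalars every `K`-linear automorphism is in the group. -/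
theorem matrix_mem (hX : ContainsSL K X) (hF : ∀ x : F, x = 0 ∨ x = 1) (fr : Frame X K)
    {p q r s : K} (hdet : p * s - q * r ≠ 0) :
    ∃ g ∈ X, ∀ y z : K,
      g (y • fr.u + z • fr.w) = (p * y + q * z) • fr.u + (r * y + s * z) • fr.w := by
  let L : V →ₗ[F] V := ((p • fr.κ + q • fr.ψ).smulRight fr.u
    + (r • fr.κ + s • fr.ψ).smulRight fr.w).restrictScalars F
  have hL : ∀ x, L x = (p * fr.κ x + q * fr.ψ x) • fr.u
      + (r * fr.κ x + s * fr.ψ x) • fr.w := fun x => by simp [L]
  have hinj : Function.Injective L := by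
    rw [← LinearMap.ker_eq_bot, Submodule.eq_bot_iff]
    intro x hx
    rw [LinearMap.mem_ker, hL] at hx
    have h1 := congrArg fr.κ hx
    have h2 := congrArg fr.ψ hx
    simp [fr.κu, fr.κw, fr.ψu, fr.ψw] at h1 h2
    have hk : fr.κ x = 0 := by
      refine (mul_eq_zero.mp ?_).resolve_left hdet
      linear_combination s * h1 - q * h2
    have hp : fr.ψ x = 0 := by
      refine (mul_eq_zero.mp ?_).resolve_left hdet
      linear_combination p * h2 - r * h1
    rw [fr.decomp x, hk, hp]
    simp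
  refine ⟨LinearEquiv.ofInjectiveEndo L hinj, hX _ (fun k x => ?_) ?_, fun y z => ?_⟩
  · show L (k • x) = k • L x
    simp only [hL, map_smul, smul_eq_mul, smul_add, smul_smul]
    congr 2 <;> ring
  · apply Units.ext
    rcases hF (LinearEquiv.det (LinearEquiv.ofInjectiveEndo L hinj) : F) with h | h
    · exact absurd h (Units.ne_zero _)
    · exact h
  · show L _ = _
    rw [hL]
    simp [fr.κu, fr.κw, fr.ψu, fr.ψw]

/-- The case of two scalars. -/
theorem hasTransvection_of_two (hX : ContainsSL K X) (fr : Frame X K) {φ : K →ₗ[F] F}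
    (hφ : ∀ e, e - algebraMap F K (φ e) * fr.a ∈ fr.Dk) (hφ0 : ∀ d ∈ fr.Dk, φ d = 0)
    (hφa : φ fr.a = 1) (hF : ∀ x : F, x = 0 ∨ x = 1) (h2 : (2 : F) = 0) {t : F}
    (hst : fr.a * fr.a = fr.a + algebraMap F K t)
    (hr : Module.finrank F K = 2)
    (hψM : ∀ x, fr.ψ (fr.M fr.u x) = algebraMap F K (φ (fr.ψ x))) : HasTransvection X := by
  have h2K : (2 : K) = 0 := by rw [← map_ofNat (algebraMap F K) 2, h2, map_zero]
  set a := fr.a with ha
  have ha0 : a ≠ 0 := fun h => fr.a_notMem (by rw [← ha, h]; exact fr.Dk.zero_mem)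
  have ha1 : a ≠ 1 := fun h => fr.a_notMem (by rw [← ha, h]; exact fr.one_mem)
  have ht : t = 1 := by
    rcases hF t with rfl | rfl
    · exfalso
      rw [map_zero, add_zero] at hst
      exact ha1 (mul_left_cancel₀ ha0 (by rw [hst, mul_one]))
    · rfl
  rw [ht, map_one] at hst
  -- elements of the intersection
  have hDk : ∀ d ∈ fr.Dk, d = 0 ∨ d = 1 := by
    intro d hd
    have hle : Submodule.span F {(1 : K)} ≤ fr.Dk := by simpa using fr.one_mem
    have h := Submodule.eq_of_le_of_finrank_le hle (by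
      rw [finrank_span_singleton one_ne_zero]
      have := fr.finrank_Dk
      omega)
    rw [← h] at hd
    obtain ⟨c, rfl⟩ := Submodule.mem_span_singleton.mp hd
    rcases hF c with rfl | rfl
    · left; simp
    · right; simp
  have hcoef : ∀ m x, ∃ p q : F, fr.M m x = p • fr.u + q • fr.w := by
    intro m x
    obtain ⟨d, hd, c, hc⟩ := fr.M_range m x
    rcases hDk d hd with rfl | rfl
    · exact ⟨0, c, by rw [hc]; simp⟩
    · exact ⟨1, c, by rw [hc]; simp⟩
  set M₁ := fr.M fr.u with hM₁
  set M₂ := fr.M fr.w with hM₂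
  have hMu : ∀ m, fr.M m fr.u = 0 := fun m => by
    simpa using fr.M_u m 1 fr.one_mem
  have hM1a : M₁ (a • fr.u) = fr.u := by
    have := fr.M_a 1 fr.one_mem 0
    simpa [← hM₁] using this
  have hM2a : M₂ (a • fr.u) = fr.w := by
    have := fr.M_a 0 fr.Dk.zero_mem 1
    simpa [← hM₂] using this
  obtain ⟨σ, α', h1w⟩ := hcoef fr.u (a • fr.w)
  have hα' : α' = 1 := by
    have := hψM (a • fr.w)
    rw [h1w] at this
    simp [fr.ψu, fr.ψw, LinearMap.map_smul_of_tower, ← Algebra.algebraMap_eq_smul_one, ← ha,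
      hφa] at this
    exact (algebraMap F K).injective (by rw [this, map_one])
  rw [hα', one_smul] at h1w
  obtain ⟨γ₁, hγ₁, hγ₁x⟩ := fr.M_mem fr.u
  rw [← hM₁] at hγ₁x h1w
  have basis : ∀ x, ∃ p q p' q' : F, x = p • fr.u + q • (a • fr.u) + (p' • fr.w + q' • (a • fr.w)) := by
    intro x
    have key : ∀ k : K, ∃ p q : F, k = algebraMap F K p + algebraMap F K q * a := by
      intro k
      rcases hDk _ (hφ k) with h | h
      · exact ⟨0, φ k, by rw [map_zero, zero_add]; exact sub_eq_zero.mp h⟩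
      · exact ⟨1, φ k, by rw [map_one]; exact sub_eq_iff_eq_add.mp h⟩
    obtain ⟨p, q, h⟩ := key (fr.κ x)
    obtain ⟨p', q', h'⟩ := key (fr.ψ x)
    refine ⟨p, q, p', q', ?_⟩
    conv_lhs => rw [fr.decomp x, h, h']
    rw [add_smul, add_smul, mul_smul, mul_smul, algebraMap_smul, algebraMap_smul, algebraMap_smul,
      algebraMap_smul]
  have h2V : ∀ x : V, x + x = 0 := fun x => by
    rw [← two_smul K, h2K, zero_smul]
  have haa : a * (a + 1) = 1 := by linear_combination hst + a * h2K
  -- a conjugate root moving `a • u` to `w`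
  obtain ⟨p, v, h2w⟩ := hcoef fr.w (a • fr.w)
  rw [← hM₂] at h2w
  rcases hF σ with hσ | hσ
  swap
  · -- a short product
    rw [hσ, one_smul] at h1w
    obtain ⟨h, hh, hhx⟩ := fr.matrix_mem hX hF (p := 1) (q := 0) (r := 0) (s := a)
      (by simpa using ha0)
    set T := h * γ₁ * h * γ₁ with hT
    have hTX : T ∈ X := X.mul_mem (X.mul_mem (X.mul_mem hh hγ₁) hh) hγ₁
    have hh' : ∀ y z : K, h (y • fr.u + z • fr.w) = y • fr.u + (a * z) • fr.w := by
      intro y z; simpa using hhx y z
    have g_u : γ₁ fr.u = fr.u := by rw [hγ₁x, hMu, add_zero]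
    have g_au : γ₁ (a • fr.u) = (a + 1) • fr.u := by rw [hγ₁x, hM1a, add_smul, one_smul]
    have g_w : γ₁ fr.w = fr.w := by rw [hγ₁x, hM₁, fr.M_w, add_zero]
    have g_aw : γ₁ (a • fr.w) = fr.u + (a + 1) • fr.w := by
      rw [hγ₁x, h1w, add_smul, one_smul]; abel
    have hu : ∀ y : K, h (y • fr.u) = y • fr.u := fun y => by
      have := hh' y 0; simpa using this
    have hw : ∀ z : K, h (z • fr.w) = (a * z) • fr.w := fun z => by
      have := hh' 0 z; simpa using this
    have T_u : T fr.u = fr.u := by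
      show h (γ₁ (h (γ₁ fr.u))) = _
      rw [g_u, show h fr.u = fr.u by simpa using hu 1, g_u, show h fr.u = fr.u by simpa using hu 1]
    have T_au : T (a • fr.u) = a • fr.u := by
      show h (γ₁ (h (γ₁ (a • fr.u)))) = _
      rw [g_au, hu, add_smul, one_smul, map_add, g_au, g_u, add_smul, one_smul, add_assoc, h2V,
        add_zero, hu]
    have T_w : T fr.w = fr.w + fr.u := by
      show h (γ₁ (h (γ₁ fr.w))) = _
      rw [g_w, show h fr.w = a • fr.w by simpa using hw 1, g_aw, map_add, hw, haa, one_smul,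
        show h fr.u = fr.u by simpa using hu 1]
      abel
    have T_aw : T (a • fr.w) = a • fr.w + fr.u := by
      show h (γ₁ (h (γ₁ (a • fr.w)))) = _
      rw [g_aw, map_add, hw, haa, one_smul, show h fr.u = fr.u by simpa using hu 1, map_add, g_u,
        g_w, map_add, show h fr.u = fr.u by simpa using hu 1,
        show h fr.w = a • fr.w by simpa using hw 1]
      abel
    let N : V →ₗ[F] V := T.toLinearMap - LinearMap.id
    have N_u : N fr.u = 0 := by simp [N, T_u]
    have N_au : N (a • fr.u) = 0 := by simp [N, T_au]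
    have N_w : N fr.w = fr.u := by simp [N, T_w]
    have N_aw : N (a • fr.w) = fr.u := by simp [N, T_aw]
    have hN : ∀ x, ∃ c : F, N x = c • fr.u := by
      intro x
      obtain ⟨p, q, p', q', rfl⟩ := basis x
      exact ⟨p' + q', by
        simp only [map_add, map_smul, N_u, N_au, N_w, N_aw, smul_zero, zero_add, add_smul]⟩
    refine hasTransvection_of_rank_one (N := N) ⟨T, hTX, fun x => by simp [N]⟩ (fun x => ?_)
      (v := fr.u) (fun x => ?_) (x₀ := fr.w) (by rw [N_w]; exact fr.u_ne_zero)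
    · obtain ⟨c, hc⟩ := hN x
      rw [hc, map_smul, N_u, smul_zero]
    · obtain ⟨c, hc⟩ := hN x
      exact Submodule.mem_span_singleton.mpr ⟨c, hc.symm⟩
  -- the second family member is determined
  rw [hσ, zero_smul, zero_add] at h1w
  have hker : ∀ x, M₂ x = 0 → ∃ c : F, fr.κ x ∈ fr.Dk ∧ fr.ψ x = algebraMap F K c := by
    intro x hx
    have h := fr.M_ker 0 fr.Dk.zero_mem 1 (by simpa using fr.w_ne_zero) x
      (by simpa [← hM₂] using hx)
    exact ⟨h.2.choose, h.1, h.2.choose_spec⟩
  have hnotF : ∀ c : F, a ≠ algebraMap F K c := by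
    intro c hc
    apply fr.a_notMem
    rw [← ha, hc, Algebra.algebraMap_eq_smul_one]
    exact fr.Dk.smul_mem c fr.one_mem
  have hp : p = 1 := by
    rcases hF p with hp | hp
    swap
    · exact hp
    exfalso
    obtain ⟨c, -, hc⟩ := hker (a • fr.w - v • (a • fr.u)) (by
      rw [map_sub, h2w, map_smul, hM2a, hp, zero_smul, zero_add, sub_self])
    simp [fr.ψu, fr.ψw, LinearMap.map_smul_of_tower] at hc
    exact hnotF c hc
  have hv : v = 1 := by
    rcases hF v with hv | hv
    swap
    · exact hv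
    exfalso
    have hsum : fr.M (fr.u + fr.w) = M₁ + M₂ := fr.M_add _ _
    have h0 : fr.M (fr.u + fr.w) (a • fr.w - a • fr.u) = 0 := by
      rw [hsum, map_sub]
      simp only [LinearMap.add_apply, h1w, h2w, hM1a, hM2a, hp, hv, one_smul, zero_smul, add_zero]
      abel
    have h := fr.M_ker 1 fr.one_mem 1 (by
      intro h
      have := congrArg fr.ψ h
      simp [fr.ψu, fr.ψw] at this) (a • fr.w - a • fr.u) (by simpa using h0)
    obtain ⟨c, hc⟩ := h.2
    simp [fr.ψu, fr.ψw] at hc
    exact hnotF c hc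
  rw [hp, hv, one_smul, one_smul] at h2w
  obtain ⟨T₂, hT₂, hT₂x⟩ := fr.M_mem fr.w
  rw [← hM₂] at hT₂x
  obtain ⟨h₁, hh₁, hh₁x⟩ := fr.matrix_mem hX hF (p := 0) (q := a) (r := a) (s := 1)
    (by simpa using ha0)
  obtain ⟨h₂, hh₂, hh₂x⟩ := fr.matrix_mem hX hF (p := 0) (q := a + 1) (r := a + 1) (s := 1)
    (by
      intro h
      have h' : a + 1 = 0 := by simpa using h
      exact ha1 (by linear_combination h' - h2K))
  have t_u : T₂ fr.u = fr.u := by rw [hT₂x, hM₂, hMu, add_zero]
  have t_au : T₂ (a • fr.u) = a • fr.u + fr.w := by rw [hT₂x, hM2a]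
  have t_w : T₂ fr.w = fr.w := by rw [hT₂x, hM₂, fr.M_w, add_zero]
  have t_aw : T₂ (a • fr.w) = a • fr.w + (fr.u + fr.w) := by rw [hT₂x, h2w]
  have one_u : h₁ fr.u = a • fr.w := by simpa using hh₁x 1 0
  have one_au : h₁ (a • fr.u) = (a + 1) • fr.w := by
    have := hh₁x a 0
    simpa [hst] using this
  have one_w : h₁ fr.w = a • fr.u + fr.w := by simpa using hh₁x 0 1
  have one_aw : h₁ (a • fr.w) = (a + 1) • fr.u + a • fr.w := by
    have := hh₁x 0 a
    simpa [hst] using this
  have two_u : h₂ fr.u = (a + 1) • fr.w := by simpa using hh₂x 1 0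
  have two_au : h₂ (a • fr.u) = fr.w := by
    have h := hh₂x a 0
    rw [show (a + 1) * a = 1 by rw [mul_comm, haa]] at h
    simpa using h
  have two_w : h₂ fr.w = (a + 1) • fr.u + fr.w := by simpa using hh₂x 0 1
  have two_aw : h₂ (a • fr.w) = fr.u + a • fr.w := by
    have h := hh₂x 0 a
    rw [show (a + 1) * a = 1 by rw [mul_comm, haa]] at h
    simpa using h
  set R := T₂ * h₁ * T₂ * h₂ with hR
  have hRX : R ∈ X := X.mul_mem (X.mul_mem (X.mul_mem hT₂ hh₁) hT₂) hh₂
  have R_u : R fr.u = fr.u + (a • fr.u + fr.w) := by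
    show T₂ (h₁ (T₂ (h₂ fr.u))) = _
    simp only [two_u, add_smul, one_smul, map_add, t_aw, t_w, one_aw, one_u, one_w, t_au, t_u]
    linear_combination (norm := abel) h2V (a • fr.w) + h2V fr.w + h2V fr.u + h2V (a • fr.u) + h2V fr.w + h2V fr.w
  have R_au : R (a • fr.u) = a • fr.u := by
    show T₂ (h₁ (T₂ (h₂ (a • fr.u)))) = _
    simp only [two_au, t_w, one_w, map_add, t_au]
    linear_combination (norm := abel) h2V fr.w
  have R_w : R fr.w = fr.w := by
    show T₂ (h₁ (T₂ (h₂ fr.w))) = _
    simp only [two_w, add_smul, one_smul, map_add, t_au, t_u, t_w, one_au, one_u, one_w, t_aw]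
    linear_combination (norm := abel) h2V (a • fr.w) + h2V fr.w + h2V (a • fr.u) + h2V fr.u
      + h2V fr.w + h2V fr.w
  have R_aw : R (a • fr.w) = a • fr.w := by
    show T₂ (h₁ (T₂ (h₂ (a • fr.w)))) = _
    simp only [two_aw, add_smul, one_smul, map_add, t_au, t_u, t_w, t_aw, one_au, one_u, one_w,
      one_aw]
    linear_combination (norm := abel) h2V (a • fr.w) + h2V fr.w + h2V (a • fr.u) + h2V fr.u + h2V fr.u + h2V fr.w + h2V fr.w
  let N : V →ₗ[F] V := R.toLinearMap - LinearMap.id
  have N_u : N fr.u = a • fr.u + fr.w := by simp [N, R_u]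
  have N_au : N (a • fr.u) = 0 := by simp [N, R_au]
  have N_w : N fr.w = 0 := by simp [N, R_w]
  have N_aw : N (a • fr.w) = 0 := by simp [N, R_aw]
  have hN : ∀ x, ∃ c : F, N x = c • (a • fr.u + fr.w) := by
    intro x
    obtain ⟨p, q, p', q', rfl⟩ := basis x
    exact ⟨p, by simp only [map_add, map_smul, N_u, N_au, N_w, N_aw, smul_zero, add_zero]⟩
  refine hasTransvection_of_rank_one (N := N) ⟨R, hRX, fun x => by simp [N]⟩ (fun x => ?_)
    (v := a • fr.u + fr.w) (fun x => ?_) (x₀ := fr.u) ?_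
  · obtain ⟨c, hc⟩ := hN x
    rw [hc, map_smul, map_add, N_au, N_w, add_zero, smul_zero]
  · obtain ⟨c, hc⟩ := hN x
    exact Submodule.mem_span_singleton.mpr ⟨c, hc.symm⟩
  · rw [N_u]
    intro h
    have := congrArg fr.ψ h
    simp [fr.ψu, fr.ψw] at this

/-- A frame gives a transvection. -/
theorem hasTransvection (hX : ContainsSL K X) (hprime : (Module.finrank F K).Prime)
    (fr : Frame X K) : HasTransvection X := by
  rcases (show Module.finrank F K = 2 ∨ 3 ≤ Module.finrank F K by
    have := hprime.two_le; omega) with hr | hr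
  swap
  · exact fr.hasTransvection_of_forall (fr.fiber_eq_top_of_three hX hr hprime)
  obtain ⟨φ, hφ0, hφa, hφ⟩ := fr.exists_phi
  set sq := fr.a * fr.a with hsq
  have hDk1 : Submodule.span F {(1 : K)} = fr.Dk := by
    refine Submodule.eq_of_le_of_finrank_le (by simpa using fr.one_mem) ?_
    rw [finrank_span_singleton one_ne_zero]
    have := fr.finrank_Dk
    omega
  have h' : sq - algebraMap F K (φ sq) * fr.a ∈ Submodule.span F {(1 : K)} := by
    rw [hDk1]; exact hφ sq
  obtain ⟨t, ht⟩ := Submodule.mem_span_singleton.mp h'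
  have hst : fr.a * fr.a = algebraMap F K (φ sq) * fr.a + algebraMap F K t := by
    rw [← hsq, Algebra.algebraMap_eq_smul_one t, ht]; ring
  by_cases htop : ∀ f : K →ₗ[F] K, f ∈ fr.fiber
  · exact fr.hasTransvection_of_forall htop
  have key : ∀ e : F, e ≠ 0 → e = φ sq ∧ (2 : F) = 0 ∧
      ∀ x, fr.ψ (fr.M (algebraMap F K e • fr.u) x) = algebraMap F K (e * φ (fr.ψ x)) :=
    fun e he => (fr.fiber_top_or_field_two hX hr hφ0 hφa hφ he hst).resolve_left htop
  obtain ⟨h1, h2, hψM⟩ := key 1 one_ne_zero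
  have hF : ∀ x : F, x = 0 ∨ x = 1 := by
    intro x
    rcases eq_or_ne x 0 with h | h
    · exact Or.inl h
    · exact Or.inr ((key x h).1.trans h1.symm)
  refine fr.hasTransvection_of_two hX hφ hφ0 hφa hF h2 (t := t) ?_ hr (fun x => ?_)
  · rw [← h1, map_one, one_mul] at hst
    exact hst
  · simpa using hψM x

end Frame

variable [Finite K] [FiniteDimensional F K] [FiniteDimensional K V] [FiniteDimensional F V]

/-- A group containing the `K`-linear automorphisms of determinant one, and an element not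
normalising `K`, contains every transvection. -/
theorem transvections_mem_of_moved (hX : ContainsSL K X) (hprime : (Module.finrank F K).Prime)
    (hm : 2 ≤ Module.finrank K V)
    (hmove : ∃ g ∈ X, ∃ k : K, ¬ ∃ k' : K, ∀ v, g (k • g.symm v) = k' • v)
    (φ : V →ₗ[F] F) (w : V) (hφw : φ w = 0) : MemOne X (φ.smulRight w) := by
  refine transvections_mem hX hprime.two_le hm ?_ φ w hφw
  obtain ⟨g, hg, w₀, u₀, hw₀, hu₀, hne, hD⟩ := exists_hyperplane_inter hX hprime hm hmove
  rcases (show Module.finrank K V = 2 ∨ 3 ≤ Module.finrank K V by omega) with h | h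
  · obtain ⟨fr⟩ := nonempty_frame hX hprime.two_le h hg hw₀ hu₀ hne hD
    exact fr.hasTransvection hX hprime
  · exact hasTransvection_of_three hX h hg hw₀ hu₀ hne hD

end CfsgLib.ExtField
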