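import Cfsg.Agent.ExtField.Meet
import Cfsg.Agent.ExtField.Expand

/-!
# A hyperplane intersection in dimension at least three, and the frame in dimension two
-/

set_option autoImplicit false

namespace CfsgLib.ExtField

open Module

variable {F K V : Type*} [Field F] [Field K] [Algebra F K] [AddCommGroup V] [Module F V]
  [Module K V] [IsScalarTower F K V]

omit [Module K V] [IsScalarTower F K V] in
/-- A rank one member gives a transvection. -/
theorem hasTransvection_of_rank_one {X : Subgroup (V ≃ₗ[F] V)} {N : V →ₗ[F] V}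
    (hN : MemOne X N) (hsq : ∀ x, N (N x) = 0) {v : V} (hrange : ∀ x, N x ∈ Submodule.span F {v})
    {x₀ : V} (hx₀ : N x₀ ≠ 0) : HasTransvection X := by
  obtain ⟨c₀, hc₀⟩ := Submodule.mem_span_singleton.mp (hrange x₀)
  have hv : v ≠ 0 := by intro h; rw [h, smul_zero] at hc₀; exact hx₀ hc₀.symm
  have hc0 : c₀ ≠ 0 := by intro h; rw [h, zero_smul] at hc₀; exact hx₀ hc₀.symm
  obtain ⟨π, hπ⟩ := Module.Projective.exists_dual_ne_zero F hv
  let φ : V →ₗ[F] F := (π v)⁻¹ • (π ∘ₗ N)
  have hφ : ∀ x, φ x • v = N x := by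
    intro x
    obtain ⟨c, hc⟩ := Submodule.mem_span_singleton.mp (hrange x)
    simp only [φ, LinearMap.smul_apply, LinearMap.comp_apply, ← hc, map_smul, smul_eq_mul]
    rw [mul_left_comm, inv_mul_cancel₀ hπ, mul_one]
  refine ⟨φ, v, ?_, hv, ?_, ?_⟩
  · intro h
    apply hx₀
    rw [← hφ, h, LinearMap.zero_apply, zero_smul]
  · have hNv : N v = 0 := by
      have h := hsq x₀
      rw [← hc₀, map_smul] at h
      exact (smul_eq_zero.mp h).resolve_left hc0
    simp [φ, hNv]
  · rw [show φ.smulRight v = N from LinearMap.ext hφ]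
    exact hN

variable [FiniteDimensional F K] [FiniteDimensional F V]

omit [FiniteDimensional F K] in
/-- A subspace with a hyperplane and a vector outside it is spanned by them. -/
theorem le_sup_span_of_hyperplane {A D : Submodule F V} (hD : D ≤ A)
    (h : Module.finrank F D + 1 = Module.finrank F A) {a : V} (ha : a ∈ A) (had : a ∉ D) :
    A ≤ D ⊔ Submodule.span F {a} := by
  have hle : D ⊔ Submodule.span F {a} ≤ A := sup_le hD (by simpa using ha)
  have hlt : D < D ⊔ Submodule.span F {a} :=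
    lt_of_le_of_ne le_sup_left fun he =>
      had (he.symm ▸ Submodule.mem_sup_right (Submodule.mem_span_singleton_self a))
  have := Submodule.finrank_lt_finrank_of_lt hlt
  exact (Submodule.eq_of_le_of_finrank_le hle (by omega)).ge

variable [FiniteDimensional K V]

/-- In dimension at least three a hyperplane intersection gives a transvection. -/
theorem hasTransvection_of_three {X : Subgroup (V ≃ₗ[F] V)} (hX : ContainsSL K X)
    (hm : 3 ≤ Module.finrank K V) {g : V ≃ₗ[F] V} (hg : g ∈ X) {w u : V} (hw : w ≠ 0)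
    (hu : u ≠ 0) (hne : (kline F K w).map g.toLinearMap ≠ kline F K u)
    (hD : Module.finrank F ((kline F K w).map g.toLinearMap ⊓ kline F K u : Submodule F V) + 1
      = Module.finrank F K) : HasTransvection X := by
  set B : Submodule F V := (kline F K w).map g.toLinearMap with hB
  set A : Submodule F V := kline F K u with hA
  have hBdim : Module.finrank F B = Module.finrank F K := finrank_map_kline g hw
  obtain ⟨a', ha'B, ha'⟩ : ∃ a ∈ B, a ∉ A := by
    by_contra hc
    push Not at hc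
    exact hne (Submodule.eq_of_le_of_finrank_eq hc (by rw [hBdim, hA, finrank_kline hu]))
  obtain ⟨a, haA, haB⟩ : ∃ a ∈ A, a ∉ B := by
    by_contra hc
    push Not at hc
    exact hne (Submodule.eq_of_le_of_finrank_eq hc (by rw [hBdim, hA, finrank_kline hu])).symm
  have hAle := le_sup_span_of_hyperplane (inf_le_right : B ⊓ A ≤ A)
    (by rw [hD, hA, finrank_kline hu]) haA (fun h => haB h.1)
  have hBle := le_sup_span_of_hyperplane (inf_le_left : B ⊓ A ≤ B)
    (by rw [hD, hBdim]) ha'B (fun h => ha' h.2)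
  obtain ⟨ψ, hψu, hψa⟩ := exists_dual_zero_one (K := K) (u := u) (w := a') (fun h => ha' h)
  obtain ⟨z, hz⟩ := exists_notMem_span_pair (K := K) (u := w) (w := g.symm a) hm
  obtain ⟨f, hf, hfS⟩ := Submodule.exists_dual_map_eq_bot_of_notMem hz inferInstance
  have hf0 : ∀ x ∈ Submodule.span K ({w, g.symm a} : Set V), f x = 0 := fun x hx => by
    have : f x ∈ (Submodule.span K ({w, g.symm a} : Set V)).map f := Submodule.mem_map_of_mem hx
    rwa [hfS, Submodule.mem_bot] at this
  have hfw : f w = 0 := hf0 w (Submodule.subset_span (by simp))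
  have hfa : f (g.symm a) = 0 := hf0 _ (Submodule.subset_span (by simp))
  let N : V →ₗ[F] V := rootMap ψ u
  let M : V →ₗ[F] V := g.toLinearMap ∘ₗ rootMap f w ∘ₗ g.symm.toLinearMap
  have hNX : MemOne X N := hX.root hψu
  have hMX : MemOne X M := (hX.root hfw).conj hg
  have hNA : ∀ x, N x ∈ A := fun x => smul_mem_kline u _
  have hN0 : ∀ x ∈ A, N x = 0 := by
    intro x hx
    obtain ⟨k, rfl⟩ := mem_kline.mp hx
    simp [N, hψu]
  have hMB : ∀ x, M x ∈ B := fun x => ⟨_, smul_mem_kline w _, rfl⟩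
  have hMkill : ∀ x ∈ B, M x = 0 := by
    rintro x ⟨y, hy, rfl⟩
    obtain ⟨k, rfl⟩ := mem_kline.mp hy
    simp [M, hfw]
  have hMA : ∀ x ∈ A, M x = 0 := by
    intro x hx
    obtain ⟨d, hd, e, he, rfl⟩ := Submodule.mem_sup.mp (hAle hx)
    obtain ⟨c, rfl⟩ := Submodule.mem_span_singleton.mp he
    rw [map_add, map_smul, hMkill d hd.1, show M a = 0 by simp [M, hfa], smul_zero, add_zero]
  have hC := hNX.commutator hMX (LinearMap.ext fun x => hN0 _ (hNA x))
    (LinearMap.ext fun x => hMkill _ (hMB x))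
    (LinearMap.ext fun x => by simp [hMA _ (hNA x)])
    (LinearMap.ext fun x => hMA _ (hNA _))
  have e : N ∘ₗ M - M ∘ₗ N = N ∘ₗ M := by
    ext x
    simp [hMA _ (hNA x)]
  rw [e] at hC
  -- a vector where the product does not vanish
  obtain ⟨y, hy⟩ : ∃ y, f y = 1 := ⟨(f z)⁻¹ • z, by simp [inv_mul_cancel₀ hf]⟩
  obtain ⟨b, hb, hgb⟩ := ha'B
  obtain ⟨k, hk⟩ := mem_kline.mp hb
  refine hasTransvection_of_rank_one hC (fun x => ?_) (v := N a') (fun x => ?_)
    (x₀ := g (k • y)) ?_
  · simp only [LinearMap.comp_apply]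
    rw [hMA _ (hNA _), map_zero]
  · obtain ⟨d, hd, e, he, hde⟩ := Submodule.mem_sup.mp (hBle (hMB x))
    obtain ⟨c, rfl⟩ := Submodule.mem_span_singleton.mp he
    rw [LinearMap.comp_apply, ← hde, map_add, map_smul, hN0 d hd.2, zero_add]
    exact Submodule.smul_mem _ _ (Submodule.mem_span_singleton_self _)
  · have hMy : M (g (k • y)) = a' := by
      rw [← hgb, ← hk]
      simp [M, hy]
    rw [LinearMap.comp_apply, hMy]
    simp only [N, rootMap_apply, hψa, one_smul]
    exact hu

/-- The data left in dimension two. -/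
structure Frame (X : Subgroup (V ≃ₗ[F] V)) (K : Type*) [Field K] [Algebra F K] [Module K V] where
  u : V
  w : V
  ψ : V →ₗ[K] K
  κ : V →ₗ[K] K
  ψu : ψ u = 0
  ψw : ψ w = 1
  κu : κ u = 1
  κw : κ w = 0
  decomp : ∀ x, x = κ x • u + ψ x • w
  Dk : Submodule F K
  finrank_Dk : Module.finrank F Dk + 1 = Module.finrank F K
  one_mem : (1 : K) ∈ Dk
  a : K
  a_notMem : a ∉ Dk
  M : V → (V →ₗ[F] V)
  M_mem : ∀ m, MemOne X (M m)
  M_add : ∀ m m', M (m + m') = M m + M m'
  M_u : ∀ m, ∀ d ∈ Dk, M m (d • u) = 0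
  M_w : ∀ m, M m w = 0
  M_range : ∀ m x, ∃ d ∈ Dk, ∃ c : F, M m x = d • u + c • w
  M_a : ∀ d ∈ Dk, ∀ c : F, M (d • u + c • w) (a • u) = d • u + c • w
  M_ker : ∀ d ∈ Dk, ∀ c : F, d • u + c • w ≠ 0 → ∀ x, M (d • u + c • w) x = 0 →
    κ x ∈ Dk ∧ ∃ c : F, ψ x = algebraMap F K c

/-- A hyperplane intersection in dimension two gives a frame. -/
theorem nonempty_frame {X : Subgroup (V ≃ₗ[F] V)} (hX : ContainsSL K X)
    (hr : 2 ≤ Module.finrank F K) (hm : Module.finrank K V = 2) {g : V ≃ₗ[F] V} (hg : g ∈ X)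
    {w₀ u₀ : V} (hw₀ : w₀ ≠ 0)
    (hu₀ : u₀ ≠ 0) (hne : (kline F K w₀).map g.toLinearMap ≠ kline F K u₀)
    (hD : Module.finrank F ((kline F K w₀).map g.toLinearMap ⊓ kline F K u₀ : Submodule F V) + 1
      = Module.finrank F K) : Nonempty (Frame X K) := by
  set B : Submodule F V := (kline F K w₀).map g.toLinearMap with hB
  have hBdim : Module.finrank F B = Module.finrank F K := finrank_map_kline g hw₀
  obtain ⟨u, huD, hu⟩ : ∃ u ∈ B ⊓ kline F K u₀, u ≠ 0 := (Submodule.ne_bot_iff _).mp (by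
    intro h
    rw [h, finrank_bot] at hD
    omega)
  have hline : kline F K u₀ = kline F K u := kline_eq_of_mem hu huD.2
  rw [hline] at hne hD
  have huB : u ∈ B := huD.1
  obtain ⟨w, hwB, hwA⟩ : ∃ w ∈ B, w ∉ kline F K u := by
    by_contra hc
    push Not at hc
    exact hne (Submodule.eq_of_le_of_finrank_eq hc (by rw [hBdim, finrank_kline hu]))
  obtain ⟨a₁, haA, haB⟩ : ∃ a ∈ kline F K u, a ∉ B := by
    by_contra hc
    push Not at hc
    exact hne (Submodule.eq_of_le_of_finrank_eq hc (by rw [hBdim, finrank_kline hu])).symm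
  obtain ⟨a, rfl⟩ := mem_kline.mp haA
  have huw : u ∉ Submodule.span K ({w} : Set V) := by
    intro h
    obtain ⟨k, hk⟩ := Submodule.mem_span_singleton.mp h
    have hk0 : k ≠ 0 := by intro h0; rw [h0, zero_smul] at hk; exact hu hk.symm
    exact hwA (mem_kline.mpr ⟨k⁻¹, by rw [← hk, inv_smul_smul₀ hk0]⟩)
  obtain ⟨ψ, hψu, hψw⟩ := exists_dual_zero_one (K := K) (u := u) (w := w) (fun h => hwA h)
  obtain ⟨κ, hκw, hκu⟩ := exists_dual_zero_one huw
  have hw : w ≠ 0 := fun h => hwA (h ▸ Submodule.zero_mem _)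
  have hspan : ∀ x, x = κ x • u + ψ x • w := by
    have hli : LinearIndependent K ![u, w] :=
      (LinearIndependent.pair_iff' hu).mpr fun k hk => hwA (mem_kline.mpr ⟨k, hk⟩)
    have htop := hli.span_eq_top_of_card_eq_finrank (by rw [Fintype.card_fin, hm])
    intro x
    have hx : x ∈ Submodule.span K (Set.range ![u, w]) := by rw [htop]; exact Submodule.mem_top
    rw [Matrix.range_cons, Matrix.range_cons, Matrix.range_empty, Set.union_empty,
      Set.singleton_union, Submodule.mem_span_pair] at hx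
    obtain ⟨p, q, rfl⟩ := hx
    simp [hψu, hψw, hκu, hκw]
  -- the conjugate roots
  have hga : g.symm (a • u) ∉ Submodule.span K ({w₀} : Set V) := fun h =>
    haB ⟨g.symm (a • u), h, g.apply_symm_apply _⟩
  obtain ⟨ψ₀, hψ₀w, hψ₀a⟩ := exists_dual_zero_one hga
  have hw₀' : w₀ ∉ Submodule.span K ({g.symm (a • u)} : Set V) := by
    intro h
    obtain ⟨k, hk⟩ := Submodule.mem_span_singleton.mp h
    have hk0 : k ≠ 0 := by intro h0; rw [h0, zero_smul] at hk; exact hw₀ hk.symm
    exact hga (Submodule.mem_span_singleton.mpr ⟨k⁻¹, by rw [← hk, inv_smul_smul₀ hk0]⟩)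
  obtain ⟨θ, -, hθw⟩ := exists_dual_zero_one hw₀'
  have hBle := le_sup_span_of_hyperplane (inf_le_left : B ⊓ kline F K u ≤ B)
    (by rw [hD, hBdim]) hwB (fun h => hwA h.2)
  let Dk : Submodule F K := (B ⊓ kline F K u).comap (lineHom u)
  have hdk : ∀ x ∈ B, ∃ d ∈ Dk, ∃ c : F, x = d • u + c • w := by
    intro x hx
    obtain ⟨d, hd, e, he, rfl⟩ := Submodule.mem_sup.mp (hBle hx)
    obtain ⟨c, rfl⟩ := Submodule.mem_span_singleton.mp he
    obtain ⟨k, rfl⟩ := mem_kline.mp hd.2
    exact ⟨k, hd, c, rfl⟩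
  have hmemB : ∀ d ∈ Dk, ∀ c : F, d • u + c • w ∈ B := fun d hd c =>
    B.add_mem (Submodule.mem_comap.mp hd).1 (B.smul_mem c hwB)
  refine ⟨{
    u := u, w := w, ψ := ψ, κ := κ, ψu := hψu, ψw := hψw, κu := hκu, κw := hκw
    decomp := hspan
    Dk := Dk
    finrank_Dk := ?_
    one_mem := ?_
    a := a
    a_notMem := ?_
    M := fun m => g.toLinearMap ∘ₗ rootMap (θ (g.symm m) • ψ₀) w₀ ∘ₗ g.symm.toLinearMap
    M_mem := fun m => (hX.root (by simp [hψ₀w])).conj hg
    M_add := fun m m' => ?_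
    M_u := ?_
    M_w := ?_
    M_range := ?_
    M_a := ?_
    M_ker := ?_ }⟩
  · have e : Dk.map (lineHom u) = B ⊓ kline F K u := by
      rw [Submodule.map_comap_eq, range_lineHom]
      exact inf_eq_right.mpr inf_le_right
    have := (Submodule.equivMapOfInjective (lineHom u) (lineHom_injective hu) Dk).finrank_eq
    rw [e] at this
    omega
  · show (1 : K) • u ∈ B ⊓ kline F K u
    rw [one_smul]
    exact ⟨huB, self_mem_kline u⟩
  · exact fun h => haB (Submodule.mem_comap.mp h).1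
  · ext x
    simp [add_mul, add_smul]
  · intro m d hd
    obtain ⟨y, hy, hgy⟩ := (Submodule.mem_comap.mp hd).1
    obtain ⟨k, rfl⟩ := mem_kline.mp hy
    rw [lineHom_apply] at hgy
    rw [← hgy]
    simp [hψ₀w]
  · intro m
    obtain ⟨y, hy, hgy⟩ := hwB
    obtain ⟨k, rfl⟩ := mem_kline.mp hy
    rw [← hgy]
    simp [hψ₀w]
  · intro m x
    exact hdk _ ⟨_, smul_mem_kline w₀ _, rfl⟩
  · intro d hd c
    obtain ⟨y, hy, hgy⟩ := hmemB d hd c
    obtain ⟨k, rfl⟩ := mem_kline.mp hy
    rw [← hgy]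
    simp [hψ₀a, hθw]
  · intro d hd c hne' x hx
    obtain ⟨y, hy, hgy⟩ := hmemB d hd c
    obtain ⟨k, rfl⟩ := mem_kline.mp hy
    have hk0 : k ≠ 0 := by
      intro h0
      rw [h0, zero_smul, map_zero] at hgy
      exact hne' hgy.symm
    have h0 : ψ₀ (g.symm x) = 0 := by
      rw [← hgy] at hx
      simpa [hθw, hk0, hw₀] using hx
    have hxB : x ∈ B := by
      refine ⟨g.symm x, ?_, g.apply_symm_apply x⟩
      by_contra hns
      have hli : LinearIndependent K ![w₀, g.symm x] :=
        (LinearIndependent.pair_iff' hw₀).mpr fun l hl => hns (mem_kline.mpr ⟨l, hl⟩)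
      have htop := hli.span_eq_top_of_card_eq_finrank (by rw [Fintype.card_fin, hm])
      have hmem : g.symm (a • u) ∈ Submodule.span K (Set.range ![w₀, g.symm x]) := by
        rw [htop]; exact Submodule.mem_top
      rw [Matrix.range_cons, Matrix.range_cons, Matrix.range_empty, Set.union_empty,
        Set.singleton_union, Submodule.mem_span_pair] at hmem
      obtain ⟨p, q, hpq⟩ := hmem
      rw [← hpq] at hψ₀a
      simp [hψ₀w, h0] at hψ₀a
    obtain ⟨d', hd', c', rfl⟩ := hdk x hxB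
    refine ⟨?_, c', ?_⟩
    · simp only [map_add, map_smul, LinearMap.map_smul_of_tower, hκu, hκw, smul_eq_mul, mul_one,
        smul_zero, add_zero]
      exact hd'
    · simp only [map_add, map_smul, LinearMap.map_smul_of_tower, hψu, hψw, smul_eq_mul, mul_zero,
        zero_add]
      exact (Algebra.algebraMap_eq_smul_one c').symm

end CfsgLib.ExtField
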