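import Cfsg.Agent.ExtField.Meet

/-!
# Unitary groups over a quadratic extension inside symplectic groups over the ground field
-/

set_option autoImplicit false

namespace CfsgLib.ExtField

open Module

variable {F K V : Type*} [Field F] [Field K] [Algebra F K] [AddCommGroup V] [Module F V]
  [Module K V] [IsScalarTower F K V]

variable (F K V) in
/-- A skew hermitian form over a quadratic extension and its trace. -/
structure HermTower where
  f : V →ₗ[F] V →ₗ[F] F
  h : V → V → K
  bar : K ≃ₐ[F] K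
  a : K
  bar_bar : ∀ k, bar (bar k) = k
  a_ne : a ≠ 0
  bar_a : bar a = -a
  two_ne : (2 : K) ≠ 0
  fixed : ∀ k, bar k = k → ∃ c : F, k = algebraMap F K c
  norm_surj : ∀ c : F, ∃ k : K, k * bar k = algebraMap F K c
  h_add : ∀ x x' y, h (x + x') y = h x y + h x' y
  h_smul : ∀ (k : K) x y, h (k • x) y = k * h x y
  h_skew : ∀ x y, h y x = -bar (h x y)
  tr : ∀ x y, algebraMap F K (f x y) = h x y + bar (h x y)
  nondeg : ∀ x, x ≠ 0 → ∃ y, f x y ≠ 0

namespace HermTower

variable (T : HermTower F K V)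

theorem bar_two : T.bar (2 : K) = 2 := by rw [map_ofNat]

theorem h_add_right (x y y' : V) : T.h x (y + y') = T.h x y + T.h x y' := by
  rw [T.h_skew (y + y') x, T.h_skew y x, T.h_skew y' x, T.h_add, map_add, neg_add]

theorem h_smul_right (k : K) (x y : V) : T.h x (k • y) = T.bar k * T.h x y := by
  rw [T.h_skew (k • y) x, T.h_smul, map_mul, T.h_skew y x, mul_neg]

theorem h_zero_left (y : V) : T.h 0 y = 0 := by
  rw [← zero_smul K (0 : V), T.h_smul, zero_mul]

theorem h_zero_right (x : V) : T.h x 0 = 0 := by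
  rw [T.h_skew 0 x, T.h_zero_left, map_zero, neg_zero]

theorem h_neg_left (x y : V) : T.h (-x) y = -T.h x y := by
  rw [← neg_one_smul K x, T.h_smul, neg_one_mul]

theorem h_neg_right (x y : V) : T.h x (-y) = -T.h x y := by
  rw [← neg_one_smul K y, T.h_smul_right, map_neg, map_one, neg_one_mul]

theorem h_sub_left (x x' y : V) : T.h (x - x') y = T.h x y - T.h x' y := by
  rw [sub_eq_add_neg, T.h_add, T.h_neg_left, ← sub_eq_add_neg]

theorem h_sub_right (x y y' : V) : T.h x (y - y') = T.h x y - T.h x y' := by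
  rw [sub_eq_add_neg, T.h_add_right, T.h_neg_right, ← sub_eq_add_neg]

theorem bar_h_self (x : V) : T.bar (T.h x x) = -T.h x x := by
  conv_rhs => rw [T.h_skew x x, neg_neg]

theorem f_eq_zero_of_h {x y : V} (h : T.h x y = 0) : T.f x y = 0 := by
  apply (algebraMap F K).injective
  rw [T.tr, h, map_zero, map_zero, add_zero]

theorem f_alt (x : V) : T.f x x = 0 := by
  apply (algebraMap F K).injective
  rw [T.tr, T.bar_h_self, add_neg_cancel, map_zero]

theorem f_swap (x y : V) : T.f y x = -T.f x y := by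
  apply (algebraMap F K).injective
  rw [map_neg, T.tr, T.tr, T.h_skew x y, map_neg, T.bar_bar]
  ring

theorem h_eq_zero_of_f {x y : V} (h : ∀ l : K, T.f (l • x) y = 0) : T.h x y = 0 := by
  by_contra hne
  have h1 := congrArg (algebraMap F K) (h (T.h x y)⁻¹)
  rw [T.tr, T.h_smul, inv_mul_cancel₀ hne, map_one, map_zero] at h1
  exact T.two_ne (by rw [← h1]; norm_num)

theorem exists_h_ne {x : V} (hx : x ≠ 0) : ∃ y, T.h x y ≠ 0 := by
  obtain ⟨y, hy⟩ := T.nondeg x hx
  exact ⟨y, fun h => hy (T.f_eq_zero_of_h h)⟩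

/-- Preserving the form over `F`. -/
def Preserves (g : V ≃ₗ[F] V) : Prop := ∀ x y, T.f (g x) (g y) = T.f x y

theorem Preserves.symm {g : V ≃ₗ[F] V} (h : T.Preserves g) : T.Preserves g.symm := fun x y => by
  rw [← h, g.apply_symm_apply, g.apply_symm_apply]

/-- `X` lies in the symplectic group over `F` and contains the unitary one over `K`. -/
structure Between (X : Subgroup (V ≃ₗ[F] V)) : Prop where
  preserves : ∀ g ∈ X, T.Preserves g
  contains : ∀ g : V ≃ₗ[K] V, (∀ x y, T.h (g x) (g y) = T.h x y) → g.restrictScalars F ∈ X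

/-- The square map of a vector. -/
def sq (v : V) : V →ₗ[F] V := (T.f.flip v).smulRight v

@[simp] theorem sq_apply (v x : V) : T.sq v x = T.f x v • v := rfl

/-- The symmetric product of two vectors. -/
def pair (p q : V) : V →ₗ[F] V := (T.f.flip p).smulRight q + (T.f.flip q).smulRight p

@[simp] theorem pair_apply (p q x : V) : T.pair p q x = T.f x p • q + T.f x q • p := rfl

/-- `x ↦ h x v` as a linear map. -/
def hLeft (v : V) : V →ₗ[K] K where
  toFun x := T.h x v
  map_add' x y := T.h_add x y v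
  map_smul' k x := by rw [T.h_smul]; rfl

@[simp] theorem hLeft_apply (v x : V) : T.hLeft v x = T.h x v := rfl

/-- A unitary isometry given by a square zero skew map lies in `X`. -/
theorem Between.of_skew {X : Subgroup (V ≃ₗ[F] V)} (hX : T.Between X) (S : V →ₗ[K] V)
    (hsq : ∀ x, S (S x) = 0) (hskew : ∀ x y, T.h (S x) y + T.h x (S y) = 0) :
    MemOne X (S.restrictScalars F) := by
  let e : V ≃ₗ[K] V := LinearEquiv.ofLinear (LinearMap.id + S) (LinearMap.id - S)
    (LinearMap.ext fun x => by simp [map_sub, hsq])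
    (LinearMap.ext fun x => by simp [map_add, hsq])
  refine ⟨_, hX.contains e fun x y => ?_, fun x => rfl⟩
  show T.h (x + S x) (y + S y) = T.h x y
  have h1 : T.h (S x) (S y) = 0 := by
    have := hskew (S x) y
    rwa [hsq, T.h_zero_left, zero_add] at this
  rw [T.h_add, T.h_add_right, T.h_add_right, h1, add_zero]
  linear_combination hskew x y

/-- The root map of an isotropic vector. -/
def root (u : V) : V →ₗ[K] V := (T.hLeft u).smulRight u

@[simp] theorem root_apply (u x : V) : T.root u x = T.h x u • u := rfl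

theorem Between.root {X : Subgroup (V ≃ₗ[F] V)} (hX : T.Between X) {u : V}
    (hu : T.h u u = 0) : MemOne X ((T.root u).restrictScalars F) := by
  refine hX.of_skew T _ (fun x => ?_) fun x y => ?_
  · simp [T.h_smul, hu]
  · simp only [root_apply, T.h_smul, T.h_smul_right, T.h_skew y u, map_neg, T.bar_bar]
    ring

/-- The Siegel map of two orthogonal isotropic vectors. -/
def siegel (b : K) (u z : V) : V →ₗ[K] V :=
  (b • T.hLeft z).smulRight u + (T.bar b • T.hLeft u).smulRight z

@[simp] theorem siegel_apply (b : K) (u z x : V) :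
    T.siegel b u z x = (b * T.h x z) • u + (T.bar b * T.h x u) • z := rfl

theorem Between.siegel {X : Subgroup (V ≃ₗ[F] V)} (hX : T.Between X) {u z : V}
    (hu : T.h u u = 0) (hz : T.h z z = 0) (huz : T.h u z = 0) (b : K) :
    MemOne X ((T.siegel b u z).restrictScalars F) := by
  have hzu : T.h z u = 0 := by rw [T.h_skew u z, huz, map_zero, neg_zero]
  refine hX.of_skew T _ (fun x => ?_) fun x y => ?_
  · simp [T.h_add, T.h_smul, hu, hz, huz, hzu]
  · simp only [siegel_apply, T.h_add, T.h_add_right, T.h_smul, T.h_smul_right, map_mul, T.bar_bar]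
    rw [T.h_skew y u, T.h_skew y z]
    ring

/-- The hyperbolic torus: `v` is multiplied by `e`, the orthogonal complement of the pair is fixed. -/
theorem Between.torus_fix {X : Subgroup (V ≃ₗ[F] V)} (hX : T.Between X) {v v' : V}
    (hv : T.h v v = 0) (hv' : T.h v' v' = 0) (hvv' : T.h v v' ≠ 0) {e : K} (he : e ≠ 0) :
    ∃ g ∈ X, (∀ (k : K) x, g (k • x) = k • g x) ∧ g v = e • v ∧
      ∀ x, T.h x v = 0 → T.h x v' = 0 → g x = x := by
  have hv'v : T.h v' v ≠ 0 := by
    rw [T.h_skew v v']; exact neg_ne_zero.mpr ((map_ne_zero T.bar).mpr hvv')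
  have hbe : T.bar e ≠ 0 := (map_ne_zero T.bar).mpr he
  let mk : K → K → V →ₗ[K] V := fun p q => LinearMap.id
    + ((p / T.h v v') • T.hLeft v').smulRight v + ((q / T.h v' v) • T.hLeft v).smulRight v'
  have hmk : ∀ p q x, mk p q x
      = x + ((p / T.h v v') * T.h x v') • v + ((q / T.h v' v) * T.h x v) • v' :=
    fun p q x => rfl
  have hcomp : ∀ p q p' q', (p + 1) * (p' + 1) = 1 → (q + 1) * (q' + 1) = 1 →
      ∀ x, mk p q (mk p' q' x) = x := by
    intro p q p' q' hp hq x
    rw [hmk p' q', hmk p q]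
    simp only [T.h_add, T.h_smul, hv, hv', mul_zero, add_zero]
    match_scalars
    · ring
    · field_simp
      linear_combination T.h x v' * hp
    · field_simp
      linear_combination T.h x v * hq
  let g : V ≃ₗ[K] V := LinearEquiv.ofLinear (mk (e - 1) ((T.bar e)⁻¹ - 1))
    (mk (e⁻¹ - 1) (T.bar e - 1))
    (LinearMap.ext fun x => hcomp _ _ _ _ (by field_simp; ring) (by field_simp; ring) x)
    (LinearMap.ext fun x => hcomp _ _ _ _ (by field_simp; ring) (by field_simp; ring) x)
  refine ⟨g.restrictScalars F, hX.contains g fun x y => ?_, fun k x => map_smul g k x, ?_,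
    fun x hx hx' => ?_⟩
  · show T.h (mk _ _ x) (mk _ _ y) = T.h x y
    simp only [hmk, T.h_add, T.h_add_right, T.h_smul, T.h_smul_right, hv, hv', mul_zero, add_zero,
      map_mul, map_sub, map_one, map_div₀, map_inv₀, T.bar_bar]
    rw [T.h_skew y v, T.h_skew y v', T.h_skew v v']
    simp only [map_neg, T.bar_bar]
    have hb : T.bar (T.h v v') ≠ 0 := (map_ne_zero T.bar).mpr hvv'
    field_simp
    ring
  · show mk _ _ v = e • v
    rw [hmk, hv, mul_zero, zero_smul, add_zero, div_mul_cancel₀ _ hvv', sub_smul, one_smul]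
    abel
  · show mk _ _ x = x
    rw [hmk, hx, hx', mul_zero, mul_zero, zero_smul, zero_smul, add_zero, add_zero]

/-- The hyperbolic torus: `v` is multiplied by `e`. -/
theorem Between.torus {X : Subgroup (V ≃ₗ[F] V)} (hX : T.Between X) {v v' : V}
    (hv : T.h v v = 0) (hv' : T.h v' v' = 0) (hvv' : T.h v v' ≠ 0) {e : K} (he : e ≠ 0) :
    ∃ g ∈ X, (∀ (k : K) x, g (k • x) = k • g x) ∧ g v = e • v := by
  obtain ⟨g, hg, hlin, hgv, -⟩ := hX.torus_fix T hv hv' hvv' he
  exact ⟨g, hg, hlin, hgv⟩

/-- An isotropic vector is moved to an isotropic one pairing with it. -/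
theorem isotropic_shift {z v : V} (hz : T.h z z = 0) (hzv : T.h z v ≠ 0) :
    ∃ c : K, T.h (v + c • z) (v + c • z) = 0 ∧ T.h z (v + c • z) = T.h z v := by
  refine ⟨-(T.h v v) / (2 * T.h z v), ?_, ?_⟩
  · have hb : T.bar (T.h z v) ≠ 0 := (map_ne_zero T.bar).mpr hzv
    simp only [T.h_add, T.h_add_right, T.h_smul, T.h_smul_right, hz, mul_zero, add_zero]
    rw [T.h_skew z v, map_div₀, map_neg, map_mul, T.bar_two, T.bar_h_self]
    have := T.two_ne
    field_simp
    ring
  · rw [T.h_add_right, T.h_smul_right, hz, mul_zero, add_zero]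

/-- Two anisotropic orthogonal vectors give an isotropic one. -/
theorem exists_isotropic_of_pair {v v₂ : V} (hv : T.h v v ≠ 0) (hv₂ : T.h v₂ v₂ ≠ 0)
    (h : T.h v v₂ = 0) : ∃ k : K, T.h (v + k • v₂) (v + k • v₂) = 0
      ∧ T.h (v + k • v₂) v = T.h v v := by
  have h' : T.h v₂ v = 0 := by rw [T.h_skew v v₂, h, map_zero, neg_zero]
  obtain ⟨c, hc⟩ := T.fixed (-(T.h v v) / T.h v₂ v₂) (by
    rw [map_div₀, map_neg, T.bar_h_self, T.bar_h_self, neg_neg, neg_div, div_neg])
  obtain ⟨k, hk⟩ := T.norm_surj c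
  rw [← hc] at hk
  refine ⟨k, ?_, by rw [T.h_add, T.h_smul, h', mul_zero, add_zero]⟩
  simp only [T.h_add, T.h_add_right, T.h_smul, T.h_smul_right, h, h', mul_zero, add_zero, zero_add]
  rw [← mul_assoc, hk, div_mul_cancel₀ _ hv₂]
  ring

/-- A subspace of isotropic vectors is totally isotropic. -/
theorem h_eq_zero_of_isotropic {L : Submodule K V} (hL : ∀ x ∈ L, T.h x x = 0) {x y : V}
    (hx : x ∈ L) (hy : y ∈ L) : T.h x y = 0 := by
  refine T.h_eq_zero_of_f fun l => ?_
  apply (algebraMap F K).injective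
  have h1 := hL _ (L.add_mem (L.smul_mem l hx) (L.smul_mem T.a hy))
  simp only [T.h_add, T.h_add_right, T.h_smul, T.h_smul_right, hL x hx, hL y hy, mul_zero,
    add_zero, zero_add, T.bar_a] at h1
  rw [T.h_skew x y] at h1
  rw [T.tr, T.h_smul, map_mul, map_zero]
  have ha := T.a_ne
  have h2 : T.a * (l * T.h x y + T.bar l * T.bar (T.h x y)) = 0 := by linear_combination -h1
  exact (mul_eq_zero.mp h2).resolve_left ha

end HermTower

end CfsgLib.ExtField
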