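import Cfsg.Agent.ExtField.HermPair

/-!
# One transvection gives all, in the unitary case
-/

set_option autoImplicit false

namespace CfsgLib.ExtField

open Module

variable {F K V : Type*} [Field F] [Field K] [Algebra F K] [AddCommGroup V] [Module F V]
  [Module K V] [IsScalarTower F K V]

namespace HermTower

variable (T : HermTower F K V) {X : Subgroup (V ≃ₗ[F] V)}

theorem conj_sq {g : V ≃ₗ[F] V} (hg : T.Preserves g) (c : F) (v : V) :
    g.toLinearMap ∘ₗ (c • T.sq v) ∘ₗ g.symm.toLinearMap = c • T.sq (g v) := by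
  ext x
  have e : T.f (g.symm x) v = T.f x (g v) := by rw [← hg, g.apply_symm_apply]
  simp [e]

theorem sq_smul (c : F) (v : V) : T.sq (c • v) = (c * c) • T.sq v := by
  ext x
  simp [smul_smul]
  ring_nf

/-- All transvections with centre `v` lie in `X`. -/
def Centre (X : Subgroup (V ≃ₗ[F] V)) (v : V) : Prop := ∀ c : F, MemOne X (c • T.sq v)

theorem Centre.smul {v : V} (h : T.Centre X v) (e : F) : T.Centre X (e • v) := fun c => by
  rw [T.sq_smul, smul_smul]; exact h _

theorem Centre.map (hX : T.Between X) {v : V} (h : T.Centre X v) {g : V ≃ₗ[F] V} (hg : g ∈ X) :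
    T.Centre X (g v) := fun c => by
  rw [← T.conj_sq (hX.preserves g hg)]; exact (h c).conj hg

theorem Centre.add (hX : T.Between X) {x y : V} (hx : T.Centre X x) (hy : T.Centre X y)
    (h : T.f x y ≠ 0) : T.Centre X (x + y) := by
  obtain ⟨t, ht, htx⟩ := hy (T.f x y)⁻¹
  have := hx.map T hX ht
  rwa [htx, LinearMap.smul_apply, sq_apply, smul_smul, inv_mul_cancel₀ h, one_smul] at this

variable [FiniteDimensional F K] [FiniteDimensional K V] [FiniteDimensional F V]

/-- One transvection gives all. -/
theorem centre_all (hX : T.Between X) (hK : Module.finrank F K = 2)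
    (hm : 2 ≤ Module.finrank K V) {p : V} (hp0 : p ≠ 0) (hp : T.Centre X p) (x : V) :
    T.Centre X x := by
  have h2F : (2 : F) ≠ 0 := fun h => T.two_ne (by rw [← map_ofNat (algebraMap F K) 2, h, map_zero])
  -- isotropic vectors pairing with a centre
  have step : ∀ p : V, T.Centre X p → ∀ v : V, T.h v v = 0 → T.h p v ≠ 0 → ∀ k : K, k ≠ 0 →
      T.Centre X (k • v) := by
    intro p hp v hv hpv k hk
    obtain ⟨r, hr, hrx⟩ := hX.root T hv
    have hrp : r p = p + T.h p v • v := by rw [hrx]; rfl
    have hf : T.f ((-1 : F) • p) (r p) ≠ 0 := by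
      intro h0
      rw [map_smul, LinearMap.smul_apply, hrp, map_add, T.f_alt, zero_add] at h0
      have h1 : T.f p (T.h p v • v) = 0 := by simpa using h0
      have h2 := congrArg (algebraMap F K) h1
      rw [T.tr, T.h_smul_right, map_mul, T.bar_bar, map_zero] at h2
      have h3 : (2 : K) * (T.h p v * T.bar (T.h p v)) = 0 := by linear_combination h2
      simp [T.two_ne, hpv] at h3
    have h1 := (hp.smul T (-1 : F)).add T hX (hp.map T hX hr) hf
    rw [hrp, neg_one_smul, neg_add_cancel_left] at h1
    obtain ⟨v', hv', hvv'⟩ := T.exists_isotropic_ne hK hm (x := v) (by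
      rintro rfl; exact hpv (T.h_zero_right p))
    obtain ⟨t, ht, hlin, htv⟩ := hX.torus T hv hv' hvv' (e := k / T.h p v) (div_ne_zero hk hpv)
    have h2 := h1.map T hX ht
    rwa [hlin, htv, smul_smul, mul_div_cancel₀ k hpv] at h2
  -- all isotropic vectors
  have hiso : ∀ v : V, v ≠ 0 → T.h v v = 0 → ∀ k : K, k ≠ 0 → T.Centre X (k • v) := by
    intro v hv0 hv k hk
    obtain ⟨v', hv', hpv', hvv'⟩ := T.exists_isotropic_ne_two hK hm hp0 hv0
    have h1 := step p hp v' hv' hpv' 1 one_ne_zero
    rw [one_smul] at h1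
    exact step v' h1 v hv (by
      rw [T.h_skew v v']; exact neg_ne_zero.mpr ((map_ne_zero T.bar).mpr hvv')) k hk
  rcases eq_or_ne x 0 with rfl | hx
  · intro c
    rw [show c • T.sq 0 = 0 by ext y; simp]
    exact MemOne.zero X
  by_cases hxx : T.h x x = 0
  · have := hiso x hx hxx 1 one_ne_zero
    rwa [one_smul] at this
  obtain ⟨u, hu, hxu⟩ := T.exists_isotropic_ne hK hm hx
  set s := T.h x x / 2 + 1 with hs
  set k := T.bar (s / T.h x u) with hk
  have hbs : T.bar s = -(T.h x x / 2) + 1 := by
    rw [hs, map_add, map_div₀, T.bar_h_self, T.bar_two, map_one, neg_div]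
  have hxk : T.h x (k • u) = s := by
    rw [T.h_smul_right, hk, T.bar_bar, div_mul_cancel₀ _ hxu]
  have hkx : T.h (k • u) x = -T.bar s := by rw [T.h_skew x (k • u), hxk]
  have hs0 : s ≠ 0 := by
    intro h0
    have h1 : T.bar s = 0 := by rw [h0, map_zero]
    rw [hbs] at h1
    rw [hs] at h0
    have h2 : (2 : K) = 0 := by linear_combination h0 + h1
    exact T.two_ne h2
  have hk0 : k ≠ 0 := (map_ne_zero T.bar).mpr (div_ne_zero hs0 hxu)
  have hkk : T.h (k • u) (k • u) = 0 := by rw [T.h_smul, T.h_smul_right, hu, mul_zero, mul_zero]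
  have hu0 : u ≠ 0 := fun h => hxu (by rw [h, T.h_zero_right])
  set y := x - k • u with hy
  have hyy : T.h y y = 0 := by
    rw [hy, T.h_sub_left, T.h_sub_right, T.h_sub_right, hkk, hxk, hkx, hbs, hs]
    have := T.two_ne
    field_simp
    ring
  have hf : T.f (k • u) y ≠ 0 := by
    intro h0
    have h1 := congrArg (algebraMap F K) h0
    rw [T.tr, hy, T.h_sub_right, hkk, hkx, sub_zero, map_neg, T.bar_bar, map_zero, hbs, hs] at h1
    exact T.two_ne (by linear_combination -h1)
  have hy0 : y ≠ 0 := fun h => hf (by rw [h, map_zero])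
  have hcy : T.Centre X y := by
    have := hiso y hy0 hyy 1 one_ne_zero
    rwa [one_smul] at this
  have := (hiso u hu0 hu k hk0).add T hX hcy hf
  rwa [hy, add_sub_cancel] at this

/-- A group containing the unitary group and moving `K` contains every transvection. -/
theorem forall_sq_of_moved (hX : T.Between X) (hK : Module.finrank F K = 2)
    (hm : 5 ≤ Module.finrank K V)
    (hmove : ∃ g ∈ X, ∃ k : K, ¬ ∃ k' : K, ∀ v, g (k • g.symm v) = k' • v) (c : F) (v : V) :
    MemOne X (c • T.sq v) := by
  obtain ⟨g, hg, w, hw0, hw, β, hβ, haβ⟩ := T.exists_line_image_not_line hK (by omega) hmove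
  obtain ⟨p, hp0, hcp⟩ := T.exists_centre hX hK hm hg hw hβ haβ
  exact T.centre_all hX hK (by omega) hp0 hcp v c

end HermTower

end CfsgLib.ExtField
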