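import Cfsg.Agent.ExtField.SympPair
import Cfsg.Agent.ExtField.Bridge
import Cfsg.Agent.MaxSub.SymplecticBasic

/-!
# Normalisers of self-adjoint fields of prime degree in symplectic groups
-/

set_option autoImplicit false

namespace CfsgLib.ExtField

open Cfsg.Geo CfsgLib.MaxSub
open scoped Matrix MatrixGroups

variable {F : Type*} [Field F] {m : ℕ}

local notation "ι" => (Fin m ⊕ Fin m)
local notation "Mat" => Matrix (Fin m ⊕ Fin m) (Fin m ⊕ Fin m) F

/-- Some symplectic transvection does not normalise a field of matrices. -/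
theorem exists_spTv_not_normalizing (hm : 2 ≤ m) {r : ℕ} (hr : 2 ≤ r) {K : Subalgebra F Mat}
    (hK : IsFieldSubalgebra r K) :
    ∃ g ∈ Cfsg.spGL m F, g ∉ subalgebraNormalizer K := by
  haveI : Nonempty ι := ⟨Sum.inl ⟨0, by omega⟩⟩
  have hs := sesq_sympForm (m := m) (F := F)
  by_contra hc
  push Not at hc
  -- every element of `K` is then a scalar
  have hscal : ∀ k ∈ K, ∀ v : ι → F, ∃ c : F, k *ᵥ v = c • v := by
    intro k hk v
    rcases eq_or_ne v 0 with rfl | hv
    · exact ⟨0, by simp⟩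
    obtain ⟨t, ht⟩ : ∃ t : GL ι F, t = spTv v 1 := ⟨_, rfl⟩
    have htk : (t : Mat) * k * ((t⁻¹ : GL ι F) : Mat) ∈ K :=
      (hc t (ht ▸ spTv_mem v 1) k).mp hk
    set D := (t : Mat) * k * ((t⁻¹ : GL ι F) : Mat) - k with hD
    have hDK : D ∈ K := K.sub_mem htk hk
    have htv : ∀ y, (t : Mat) *ᵥ y = y + Cfsg.sympForm m F y v • v := fun y => by
      rw [ht, spTv_mulVec, one_mul]
    have hDx : ∀ y, D *ᵥ ((t : Mat) *ᵥ y)
        = Cfsg.sympForm m F (k *ᵥ y) v • v - Cfsg.sympForm m F y v • (k *ᵥ v) := by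
      intro y
      rw [hD, Matrix.sub_mulVec, ← Matrix.mulVec_mulVec, ← Matrix.mulVec_mulVec]
      rw [Matrix.mulVec_mulVec y, Units.inv_mul, Matrix.one_mulVec, htv, htv, Matrix.mulVec_add,
        Matrix.mulVec_smul]
      abel
    have hD0 : D = 0 := by
      by_contra hne
      obtain ⟨D', -, hDD'⟩ := hK.inv D hDK hne
      have hsurj : Function.Surjective (fun y => D *ᵥ ((t : Mat) *ᵥ y)) := fun z =>
        ⟨((t⁻¹ : GL ι F) : Mat) *ᵥ (D' *ᵥ z), by
          simp only
          rw [Matrix.mulVec_mulVec _ (t : Mat), Units.mul_inv, Matrix.one_mulVec,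
            Matrix.mulVec_mulVec, hDD', Matrix.one_mulVec]⟩
      have htop : Submodule.span F ({v, k *ᵥ v} : Set (ι → F)) = ⊤ := by
        rw [Submodule.eq_top_iff']
        intro z
        obtain ⟨y, hy⟩ := hsurj z
        simp only [hDx] at hy
        rw [← hy]
        exact Submodule.sub_mem _ (Submodule.smul_mem _ _ (Submodule.subset_span (by simp)))
          (Submodule.smul_mem _ _ (Submodule.subset_span (by simp)))
      classical
      have h2 := finrank_span_finset_le_card ({v, k *ᵥ v} : Finset (ι → F)) (R := F)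
      rw [Finset.coe_insert, Finset.coe_singleton, Set.finrank, htop, finrank_top,
        Module.finrank_pi, Fintype.card_sum, Fintype.card_fin] at h2
      have h3 : ({v, k *ᵥ v} : Finset (ι → F)).card ≤ 2 := Finset.card_le_two
      omega
    obtain ⟨⟨x, hx⟩, -⟩ := isSymplecticForm_sympForm.nondegenerate v hv
    refine ⟨(Cfsg.sympForm m F x v)⁻¹ * Cfsg.sympForm m F (k *ᵥ x) v, ?_⟩
    have h := hDx x
    rw [hD0, Matrix.zero_mulVec, eq_comm, sub_eq_zero] at h
    rw [mul_smul, h, inv_smul_smul₀ hx]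
  have hbot : K ≤ ⊥ := by
    intro k hk
    have hne : Nontrivial (ι → F) := Function.nontrivial
    obtain ⟨c, hc⟩ := exists_scalar (K := F) (V := ι → F)
      (fun u => exists_notMem_span_singleton (by
        rw [Module.finrank_pi, Fintype.card_sum, Fintype.card_fin]; omega))
      (T := (Matrix.toLin' k).toAddMonoidHom) (fun v => hscal k hk v)
    rw [Algebra.mem_bot]
    refine ⟨c, ?_⟩
    apply Matrix.ext_of_mulVec_single
    intro i
    rw [Algebra.algebraMap_eq_smul_one, Matrix.smul_mulVec, Matrix.one_mulVec]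
    exact (hc _).symm
  have h1 : K = ⊥ := le_bot_iff.mp hbot
  have h2 := hK.finrank_eq
  rw [h1, Subalgebra.finrank_bot] at h2
  omega

variable [Fintype F]

/-- A subgroup of `Sp` above the normaliser of a self-adjoint field and not inside it is `Sp`. -/
theorem spGL_le_of_not_mem' (hm : 2 ≤ m) {r : ℕ} (hr : r.Prime) (hmr : r = 2 → 4 ≤ m)
    {K : Subalgebra F Mat}
    (hK : IsFieldSubalgebra r K) (hsa : IsSelfAdjointFor (Cfsg.sympForm m F) K)
    (halt : ∀ k ∈ K, ∀ v : ι → F, Cfsg.sympForm m F (k *ᵥ v) v = 0)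
    {M : Subgroup (GL ι F)} (hM : subalgebraNormalizer K ⊓ Cfsg.spGL m F ≤ M)
    (hMle : M ≤ Cfsg.spGL m F) {g : GL ι F} (hg : g ∈ M) (hgN : g ∉ subalgebraNormalizer K) :
    Cfsg.spGL m F ≤ M := by
  classical
  haveI : Nonempty ι := ⟨Sum.inl ⟨0, by omega⟩⟩
  letI : Field K := (isField_subalgebra hK).toField
  letI : Module K (ι → F) := mulVecModule K
  have hsmul : ∀ (a : K) (v : ι → F), a • v = (a : Mat) *ᵥ v := fun _ _ => rfl
  haveI : IsScalarTower F K (ι → F) := ⟨fun c a v => by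
    rw [hsmul, hsmul]; exact Matrix.smul_mulVec c _ v⟩
  haveI : Finite K := Subtype.finite
  haveI : FiniteDimensional K (ι → F) := Module.Finite.of_finite
  have hfin : Module.finrank F K = r := hK.finrank_eq
  have hrm : r * Module.finrank K (ι → F) = 2 * m := by
    rw [← hfin, Module.finrank_mul_finrank, Module.finrank_pi, Fintype.card_sum, Fintype.card_fin]
    omega
  -- the form over `K`
  have hs := sesq_sympForm (m := m) (F := F)
  let B : (ι → F) →ₗ[F] (ι → F) →ₗ[F] F := LinearMap.mk₂ F (Cfsg.sympForm m F)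
    hs.add_left (fun c x y => by rw [hs.smul_left]; rfl) hs.add_right
    (fun c x y => by rw [hs.smul_right]; rfl)
  have hB : ∀ x y, B x y = Cfsg.sympForm m F x y := fun x y => rfl
  have htr0 : Algebra.trace F K ≠ 0 := by
    obtain ⟨z, hz⟩ := Algebra.trace_surjective F K 1
    exact fun h => zero_ne_one (by rw [← hz, h]; rfl)
  choose ψ hψ using fun x => exists_dual_comp (K := K) htr0 (B x)
  have huniq : ∀ a b : K, (∀ l : K, Algebra.trace F K (l * a) = Algebra.trace F K (l * b)) →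
      a = b := by
    intro a b h
    by_contra hne
    obtain ⟨s, hs'⟩ := Algebra.trace_surjective F K 1
    have := h (s / (a - b))
    rw [← sub_eq_zero, ← map_sub, ← mul_sub, div_mul_cancel₀ _ (sub_ne_zero.mpr hne), hs'] at this
    exact one_ne_zero this
  have hψl : ∀ (x y : ι → F) (l : K),
      Algebra.trace F K (l * ψ x y) = Cfsg.sympForm m F x (l • y) := fun x y l => by
    rw [← smul_eq_mul, ← map_smul, hψ, hB]
  have hkl : ∀ (l : K) (x y : ι → F),
      Cfsg.sympForm m F (l • x) y = Cfsg.sympForm m F x (l • y) := fun l x y => by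
    rw [hsmul, hsmul]; exact hsa _ l.2 x y
  let h : (ι → F) →ₗ[K] (ι → F) →ₗ[K] K :=
    { toFun := ψ
      map_add' := fun a b => LinearMap.ext fun y => huniq _ _ fun l => by
        rw [hψl, hs.add_left, LinearMap.add_apply, mul_add, map_add, hψl, hψl]
      map_smul' := fun k a => LinearMap.ext fun y => huniq _ _ fun l => by
        rw [hψl, hkl, RingHom.id_apply, LinearMap.smul_apply, smul_eq_mul, ← mul_assoc, hψl,
          smul_smul, mul_comm] }
  let S : SympTower F K (ι → F) :=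
    { f := B
      h := h
      tr := fun x y => (hψ x y).symm
      alt := fun x => huniq _ 0 fun l => by
        show Algebra.trace F K (l * ψ x x) = _
        rw [hψl, ← hkl, mul_zero, map_zero, hsmul]
        exact halt _ l.2 x
      nondeg := fun x hx => by
        obtain ⟨-, y, hy⟩ := isSymplecticForm_sympForm.nondegenerate x hx
        refine ⟨y, fun h0 => hy ?_⟩
        rw [← hB, ← hψ]
        show Algebra.trace F K (h x y) = 0
        rw [h0, map_zero] }
  -- dimensions
  have hm2 : 2 ≤ Module.finrank K (ι → F) := by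
    by_contra hlt
    obtain ⟨v, hv⟩ := exists_ne (0 : ι → F)
    obtain ⟨y, hy⟩ := S.nondeg v hv
    have h1 : Module.finrank K (ι → F) = 1 := by
      have := Module.finrank_pos (R := K) (M := ι → F)
      omega
    obtain ⟨c, hc⟩ := (finrank_eq_one_iff_of_nonzero' v hv).mp h1 y
    apply hy
    rw [← hc, map_smul, S.alt, smul_zero]
  have hm4 : Module.finrank F K = 2 → 4 ≤ Module.finrank K (ι → F) := by
    intro h2
    rw [hfin] at h2
    have := hmr h2
    subst h2
    omega
  set X := M.map (glAut : GL (Fin m ⊕ Fin m) F ≃* _).toMonoidHom with hXdef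
  have hX : S.Between X := by
    refine ⟨?_, fun e he => ?_⟩
    · rintro _ ⟨y, hy, rfl⟩ a b
      show Cfsg.sympForm m F ((y : Mat) *ᵥ a) ((y : Mat) *ᵥ b) = _
      exact mem_spGL_iff.mp (hMle hy) a b
    · obtain ⟨y, hy⟩ := (glAut : GL (Fin m ⊕ Fin m) F ≃* _).surjective (e.restrictScalars F)
      have hye : ∀ v, (y : Mat) *ᵥ v = e v := fun v => by rw [← glAut_apply, hy]; rfl
      refine ⟨y, hM ⟨mem_normalizer_of_commute fun k hk => ?_, ?_⟩, hy⟩
      · apply Matrix.ext_of_mulVec_single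
        intro i
        rw [← Matrix.mulVec_mulVec, ← Matrix.mulVec_mulVec, hye, hye]
        exact map_smul e (⟨k, hk⟩ : K) _
      · refine mem_spGL_iff.mpr fun a b => ?_
        rw [hye, hye, ← hB, ← hB, ← hψ, ← hψ]
        exact congrArg _ (he a b)
  obtain ⟨k, hk, hkg⟩ : ∃ k ∈ K, (g : Mat) * k * ((g⁻¹ : GL ι F) : Mat) ∉ K := by
    by_contra hc
    push Not at hc
    exact hgN (mem_normalizer_of_conj_mem hc)
  have hmove : ∃ x ∈ X, ∃ k : K, ¬ ∃ k' : K, ∀ v, x (k • x.symm v) = k' • v := by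
    refine ⟨glAut g, ⟨g, hg, rfl⟩, ⟨k, hk⟩, ?_⟩
    rintro ⟨k', hk'⟩
    apply hkg
    have : (g : Mat) * k * ((g⁻¹ : GL ι F) : Mat) = k' := by
      apply Matrix.ext_of_mulVec_single
      intro i
      have h := hk' (Pi.single i 1)
      rw [hsmul, hsmul, glAut_apply, glAut_symm_apply] at h
      rw [← Matrix.mulVec_mulVec, ← Matrix.mulVec_mulVec]
      exact h
    rw [this]
    exact k'.2
  refine spGL_le_of_forall_spTv fun v c => ?_
  obtain ⟨x, ⟨y, hy, rfl⟩, hyx⟩ :=
    S.forall_sq_of_moved hX (by rw [hfin]; exact hr) hm2 hm4 hmove c v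
  suffices e : spTv v c = y by rw [e]; exact hy
  apply Units.ext
  apply Matrix.ext_of_mulVec_single
  intro i
  rw [spTv_mulVec, ← smul_smul, ← hB]
  exact (hyx _).symm

/-- A subgroup of `Sp` above the normaliser of a self-adjoint field and not inside it is `Sp`. -/
theorem spGL_le_of_not_mem (hm : 4 ≤ m) {r : ℕ} (hr : r.Prime) {K : Subalgebra F Mat}
    (hK : IsFieldSubalgebra r K) (hsa : IsSelfAdjointFor (Cfsg.sympForm m F) K)
    (halt : ∀ k ∈ K, ∀ v : ι → F, Cfsg.sympForm m F (k *ᵥ v) v = 0)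
    {M : Subgroup (GL ι F)} (hM : subalgebraNormalizer K ⊓ Cfsg.spGL m F ≤ M)
    (hMle : M ≤ Cfsg.spGL m F) {g : GL ι F} (hg : g ∈ M) (hgN : g ∉ subalgebraNormalizer K) :
    Cfsg.spGL m F ≤ M :=
  spGL_le_of_not_mem' (by omega) hr (fun _ => hm) hK hsa halt hM hMle hg hgN

/-- The normaliser of a self-adjoint field of prime degree `r` is maximal in `Sp_{2m}`; for
`r = 2` we ask `4 ≤ m`. -/
theorem isMaximalIn_spGL' (hm : 2 ≤ m) {r : ℕ} (hr : r.Prime) (hmr : r = 2 → 4 ≤ m)
    {K : Subalgebra F Mat} (hK : IsFieldSubalgebra r K)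
    (hsa : IsSelfAdjointFor (Cfsg.sympForm m F) K)
    (halt : ∀ k ∈ K, ∀ v : ι → F, Cfsg.sympForm m F (k *ᵥ v) v = 0) :
    IsMaximalIn (Cfsg.spGL m F) (subalgebraNormalizer K ⊓ Cfsg.spGL m F) := by
  obtain ⟨g₀, hg₀, hg₀N⟩ := exists_spTv_not_normalizing hm hr.two_le hK
  refine isMaximalIn_of inf_le_right ⟨g₀, hg₀, fun h => hg₀N h.1⟩ fun M hHM hMK g hg hgH => ?_
  exact spGL_le_of_not_mem' hm hr hmr hK hsa halt hHM hMK hg fun hgN => hgH ⟨hgN, hMK hg⟩

/-- The normaliser of a self-adjoint field of prime degree is maximal in `Sp`. -/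
theorem isMaximalIn_spGL (hm : 4 ≤ m) {r : ℕ} (hr : r.Prime) {K : Subalgebra F Mat}
    (hK : IsFieldSubalgebra r K) (hsa : IsSelfAdjointFor (Cfsg.sympForm m F) K)
    (halt : ∀ k ∈ K, ∀ v : ι → F, Cfsg.sympForm m F (k *ᵥ v) v = 0) :
    IsMaximalIn (Cfsg.spGL m F) (subalgebraNormalizer K ⊓ Cfsg.spGL m F) := by
  obtain ⟨g₀, hg₀, hg₀N⟩ := exists_spTv_not_normalizing (by omega) hr.two_le hK
  refine isMaximalIn_of inf_le_right ⟨g₀, hg₀, fun h => hg₀N h.1⟩ fun M hHM hMK g hg hgH => ?_
  exact spGL_le_of_not_mem hm hr hK hsa halt hHM hMK hg fun hgN => hgH ⟨hgN, hMK hg⟩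

end CfsgLib.ExtField
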