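import Cfsg.Agent.ExtField.HermThree
import Cfsg.Agent.ExtField.SympMaximal

/-!
# Normalisers of quadratic fields with conjugation as adjoint, in symplectic groups
-/

set_option autoImplicit false

namespace CfsgLib.ExtField

open Cfsg.Geo CfsgLib.MaxSub
open scoped Matrix MatrixGroups

variable {F : Type*} [Field F] [Fintype F] {m : ℕ}

local notation "ι" => (Fin m ⊕ Fin m)
local notation "Mat" => Matrix (Fin m ⊕ Fin m) (Fin m ⊕ Fin m) F

/-- A subgroup of `Sp` above the unitary normaliser and not inside it is `Sp`. -/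
theorem spGL_le_of_not_mem_unitary (hm : 3 ≤ m) (hodd : Odd (Fintype.card F))
    {K : Subalgebra F Mat} (hK : IsFieldSubalgebra 2 K)
    (hac : IsAdjointClosedFor (Cfsg.sympForm m F) K)
    (hnsa : ¬ IsSelfAdjointFor (Cfsg.sympForm m F) K)
    {M : Subgroup (GL ι F)} (hM : subalgebraNormalizer K ⊓ Cfsg.spGL m F ≤ M)
    (hMle : M ≤ Cfsg.spGL m F) {g : GL ι F} (hg : g ∈ M) (hgN : g ∉ subalgebraNormalizer K) :
    Cfsg.spGL m F ≤ M := by
  classical
  haveI : Nonempty ι := ⟨Sum.inl ⟨0, by omega⟩⟩
  letI : Field K := (isField_subalgebra hK).toField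
  letI : Module K (ι → F) := mulVecModule K
  have hsmul : ∀ (a : K) (v : ι → F), a • v = (a : Mat) *ᵥ v := fun _ _ => rfl
  haveI : IsScalarTower F K (ι → F) := ⟨fun c a v => by
    rw [hsmul, hsmul]; exact Matrix.smul_mulVec c _ v⟩
  haveI : Finite K := Subtype.finite
  haveI : FiniteDimensional K (ι → F) := Module.Finite.of_finite
  have hfin : Module.finrank F K = 2 := hK.finrank_eq
  have hm7 : 3 ≤ Module.finrank K (ι → F) := by
    have h := Module.finrank_mul_finrank F K (ι → F)
    rw [hfin, Module.finrank_pi, Fintype.card_sum, Fintype.card_fin] at h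
    omega
  have hs := sesq_sympForm (m := m) (F := F)
  let B : (ι → F) →ₗ[F] (ι → F) →ₗ[F] F := LinearMap.mk₂ F (Cfsg.sympForm m F)
    hs.add_left (fun c x y => by rw [hs.smul_left]; rfl) hs.add_right
    (fun c x y => by rw [hs.smul_right]; rfl)
  have hB : ∀ x y, B x y = Cfsg.sympForm m F x y := fun x y => rfl
  have hsep : ∀ a b : K, (∀ x y, B x (a • y) = B x (b • y)) → a = b := by
    intro a b h
    apply Subtype.ext
    apply Matrix.ext_of_mulVec_single
    intro i
    rw [← sub_eq_zero]
    by_contra hne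
    obtain ⟨⟨x, hx⟩, -⟩ := isSymplecticForm_sympForm.nondegenerate _ hne
    apply hx
    rw [hs.sub_right, sub_eq_zero, ← hB, ← hB, ← hsmul, ← hsmul]
    exact h _ _
  -- the conjugation
  choose σ hσK hσ using fun k : K => hac k.1 k.2
  let bar : K → K := fun k => ⟨σ k, hσK k⟩
  have hbar : ∀ (k : K) (x y : ι → F), B (k • x) y = B x (bar k • y) := fun k x y => hσ k x y
  have hswap : ∀ x y, B y x = -B x y := fun x y => Forms.sympForm_swap x y
  have hbb : ∀ k, bar (bar k) = k := fun k => hsep _ _ fun x y => by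
    rw [← hbar, hswap y (bar k • x), ← hbar, hswap, neg_neg]
  have hbadd : ∀ k l, bar (k + l) = bar k + bar l := fun k l => hsep _ _ fun x y => by
    rw [← hbar, add_smul, map_add, LinearMap.add_apply, hbar, hbar, ← map_add, ← add_smul]
  have hbmul : ∀ k l, bar (k * l) = bar k * bar l := fun k l => hsep _ _ fun x y => by
    rw [← hbar, mul_comm k l, mul_smul, hbar, hbar, ← mul_smul, mul_comm]
  have hbc : ∀ c : F, bar (algebraMap F K c) = algebraMap F K c := fun c => hsep _ _ fun x y => by
    rw [← hbar, algebraMap_smul, algebraMap_smul, map_smul, LinearMap.smul_apply, map_smul]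
  let barE : K ≃ₐ[F] K :=
    { toFun := bar
      invFun := bar
      left_inv := hbb
      right_inv := hbb
      map_mul' := hbmul
      map_add' := hbadd
      commutes' := hbc }
  obtain ⟨k₀, hk₀⟩ : ∃ k : K, bar k ≠ k := by
    by_contra hc
    push Not at hc
    refine hnsa fun k hk u v => ?_
    have := hbar ⟨k, hk⟩ u v
    rw [hc] at this
    exact this
  have hbne : barE ≠ 1 := fun h => hk₀ (AlgEquiv.congr_fun h k₀)
  have h2F : (2 : F) ≠ 0 := by
    intro h2
    haveI : CharP F 2 := CharTwo.of_one_ne_zero_of_two_eq_zero one_ne_zero h2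
    obtain ⟨n, hn, hc⟩ := FiniteField.card F 2
    rw [hc] at hodd
    rw [Nat.odd_pow_iff n.ne_zero] at hodd
    exact absurd hodd (by decide)
  have huniv : (Finset.univ : Finset Gal(K/F)) = {1, barE} := by
    refine (Finset.eq_of_subset_of_card_le (Finset.subset_univ _) ?_).symm
    rw [Finset.card_univ, ← Nat.card_eq_fintype_card, IsGalois.card_aut_eq_finrank, hfin,
      Finset.card_insert_of_notMem (by simpa using hbne.symm), Finset.card_singleton]
  have htr : ∀ k : K, algebraMap F K (Algebra.trace F K k) = k + bar k := fun k => by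
    rw [trace_eq_sum_automorphisms, huniv, Finset.sum_insert (by simpa using hbne.symm),
      Finset.sum_singleton]
    rfl
  have hnorm : ∀ c : F, ∃ k : K, k * bar k = algebraMap F K c := fun c => by
    obtain ⟨k, hk⟩ := FiniteField.norm_surjective F K c
    refine ⟨k, ?_⟩
    rw [← hk, Algebra.norm_eq_prod_automorphisms, huniv,
      Finset.prod_insert (by simpa using hbne.symm), Finset.prod_singleton]
    rfl
  have hfix : ∀ k, bar k = k → ∃ c : F, k = algebraMap F K c := by
    intro k hk
    refine ⟨Algebra.trace F K k / 2, ?_⟩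
    have h2K : (2 : K) ≠ 0 := by
      rw [← map_ofNat (algebraMap F K) 2]; simpa using h2F
    rw [map_div₀, htr, hk, map_ofNat, ← two_mul, mul_div_cancel_left₀ _ h2K]
  -- the hermitian form
  have htr0 : Algebra.trace F K ≠ 0 := by
    obtain ⟨z, hz⟩ := Algebra.trace_surjective F K 1
    exact fun h => zero_ne_one (by rw [← hz, h]; rfl)
  choose ψ hψ using fun y => exists_dual_comp (K := K) htr0 (B.flip y)
  have huniq : ∀ a b : K, (∀ l : K, Algebra.trace F K (l * a) = Algebra.trace F K (l * b)) →
      a = b := by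
    intro a b h
    by_contra hne
    obtain ⟨s, hs'⟩ := Algebra.trace_surjective F K 1
    have := h (s / (a - b))
    rw [← sub_eq_zero, ← map_sub, ← mul_sub, div_mul_cancel₀ _ (sub_ne_zero.mpr hne), hs'] at this
    exact one_ne_zero this
  have hψl : ∀ (x y : ι → F) (l : K), Algebra.trace F K (l * ψ y x) = B (l • x) y := fun x y l => by
    rw [← smul_eq_mul, ← map_smul, hψ, LinearMap.flip_apply]
  have htrbar : ∀ k : K, Algebra.trace F K (bar k) = Algebra.trace F K k := fun k => by
    apply (algebraMap F K).injective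
    rw [htr, htr, hbb, add_comm]
  let T : HermTower F K (ι → F) :=
    { f := B
      h := fun x y => ψ y x
      bar := barE
      a := k₀ - bar k₀
      bar_bar := hbb
      a_ne := sub_ne_zero.mpr (Ne.symm hk₀)
      bar_a := by rw [map_sub]; show bar k₀ - bar (bar k₀) = _; rw [hbb, neg_sub]
      two_ne := by rw [← map_ofNat (algebraMap F K) 2]; simpa using h2F
      fixed := hfix
      norm_surj := hnorm
      h_add := fun x x' y => map_add _ _ _
      h_smul := fun k x y => by rw [map_smul]; rfl
      h_skew := fun x y => huniq _ _ fun l => by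
        show Algebra.trace F K (l * ψ x y) = Algebra.trace F K (l * -bar (ψ y x))
        rw [hψl, mul_neg, map_neg, ← htrbar (l * bar (ψ y x)), hbmul, hbb, hψl, hbar,
          hswap (bar l • x) y, hbar]
      tr := fun x y => by
        show algebraMap F K (B x y) = ψ y x + bar (ψ y x)
        rw [← htr, hψ, LinearMap.flip_apply]
      nondeg := fun x hx => by
        obtain ⟨-, y, hy⟩ := isSymplecticForm_sympForm.nondegenerate x hx
        exact ⟨y, hy⟩ }
  set X := M.map (glAut : GL (Fin m ⊕ Fin m) F ≃* _).toMonoidHom with hXdef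
  have hX : T.Between X := by
    refine ⟨?_, fun e he => ?_⟩
    · rintro _ ⟨y, hy, rfl⟩ a b
      show Cfsg.sympForm m F ((y : Mat) *ᵥ a) ((y : Mat) *ᵥ b) = _
      exact mem_spGL_iff.mp (hMle hy) a b
    · obtain ⟨y, hy⟩ :=
        (glAut : GL (Fin m ⊕ Fin m) F ≃* _).surjective (e.restrictScalars F)
      have hye : ∀ v, (y : Mat) *ᵥ v = e v := fun v => by rw [← glAut_apply, hy]; rfl
      refine ⟨y, hM ⟨mem_normalizer_of_commute fun k hk => ?_, ?_⟩, hy⟩
      · apply Matrix.ext_of_mulVec_single
        intro i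
        rw [← Matrix.mulVec_mulVec, ← Matrix.mulVec_mulVec, hye, hye]
        exact map_smul e (⟨k, hk⟩ : K) _
      · refine mem_spGL_iff.mpr fun a b => ?_
        rw [hye, hye]
        apply (algebraMap F K).injective
        show algebraMap F K (T.f (e a) (e b)) = algebraMap F K (T.f a b)
        rw [T.tr, T.tr, he]
  obtain ⟨k, hk, hkg⟩ : ∃ k ∈ K, (g : Mat) * k * ((g⁻¹ : GL ι F) : Mat) ∉ K := by
    by_contra hc
    push Not at hc
    exact hgN (mem_normalizer_of_conj_mem hc)
  have hmove : ∃ x ∈ X, ∃ k : K, ¬ ∃ k' : K, ∀ v, x (k • x.symm v) = k' • v := by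
    refine ⟨glAut g, ⟨g, hg, rfl⟩, ⟨k, hk⟩, ?_⟩
    rintro ⟨k', hk'⟩
    apply hkg
    have : (g : Mat) * k * ((g⁻¹ : GL ι F) : Mat) = k' := by
      apply Matrix.ext_of_mulVec_single
      intro i
      have h := hk' (Pi.single i 1)
      rw [hsmul, hsmul, glAut_apply, glAut_symm_apply] at h
      rw [← Matrix.mulVec_mulVec, ← Matrix.mulVec_mulVec]
      exact h
    rw [this]
    exact k'.2
  refine spGL_le_of_forall_spTv fun v c => ?_
  obtain ⟨x, ⟨y, hy, rfl⟩, hyx⟩ := T.forall_sq_of_moved_three hX hfin hm7 hmove c v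
  suffices e : spTv v c = y by rw [e]; exact hy
  apply Units.ext
  apply Matrix.ext_of_mulVec_single
  intro i
  rw [spTv_mulVec, ← smul_smul, ← hB]
  exact (hyx _).symm

/-- The normaliser of a quadratic field with conjugation as adjoint is maximal in `Sp`. -/
theorem isMaximalIn_spGL_unitary (hm : 3 ≤ m) (hodd : Odd (Fintype.card F))
    {K : Subalgebra F Mat} (hK : IsFieldSubalgebra 2 K)
    (hac : IsAdjointClosedFor (Cfsg.sympForm m F) K)
    (hnsa : ¬ IsSelfAdjointFor (Cfsg.sympForm m F) K) :
    IsMaximalIn (Cfsg.spGL m F) (subalgebraNormalizer K ⊓ Cfsg.spGL m F) := by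
  obtain ⟨g₀, hg₀, hg₀N⟩ := exists_spTv_not_normalizing (by omega) le_rfl hK
  refine isMaximalIn_of inf_le_right ⟨g₀, hg₀, fun h => hg₀N h.1⟩ fun M hHM hMK g hg hgH => ?_
  exact spGL_le_of_not_mem_unitary hm hodd hK hac hnsa hHM hMK hg fun hgN => hgH ⟨hgN, hMK hg⟩

end CfsgLib.ExtField
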