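import Cfsg.Agent.ExtField.HermBasic

/-!
# A line image that is not a line gives a transvection, and a transvection gives all
-/

set_option autoImplicit false

namespace CfsgLib.ExtField

open Module

variable {F K V : Type*} [Field F] [Field K] [Algebra F K] [AddCommGroup V] [Module F V]
  [Module K V] [IsScalarTower F K V]

namespace HermTower

variable (T : HermTower F K V) [FiniteDimensional F K] [FiniteDimensional K V]
  [FiniteDimensional F V]

omit [FiniteDimensional F K] [FiniteDimensional K V] in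
/-- Every functional is given by the form. -/
theorem exists_f_eq (φ : V →ₗ[F] F) : ∃ y, ∀ x, T.f y x = φ x := by
  have hinj : Function.Injective T.f := by
    rw [← LinearMap.ker_eq_bot, Submodule.eq_bot_iff]
    intro x hx
    by_contra hx0
    obtain ⟨y, hy⟩ := T.nondeg x hx0
    rw [LinearMap.mem_ker] at hx
    exact hy (by rw [hx]; rfl)
  have hd : Module.finrank F V = Module.finrank F (V →ₗ[F] F) := Subspace.dual_finrank_eq.symm
  obtain ⟨y, hy⟩ := (LinearMap.injective_iff_surjective_of_finrank_eq_finrank hd).mp hinj φ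
  exact ⟨y, fun x => by rw [hy]⟩

omit [FiniteDimensional F K] [FiniteDimensional K V] in
/-- The orthogonal space of an `F`-subspace. -/
theorem finrank_orth (L : Submodule F V) :
    Module.finrank F (LinearMap.ker (L.subtype.dualMap ∘ₗ T.f)) + Module.finrank F L
      = Module.finrank F V := by
  have hsurj : Function.Surjective (L.subtype.dualMap ∘ₗ T.f) := by
    intro φ
    obtain ⟨ψ, hψ⟩ := LinearMap.exists_extend φ
    obtain ⟨y, hy⟩ := T.exists_f_eq ψ
    refine ⟨y, LinearMap.ext fun x => ?_⟩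
    show T.f y x = φ x
    rw [hy, ← hψ]; rfl
  have h1 := (L.subtype.dualMap ∘ₗ T.f).finrank_range_add_finrank_ker
  rw [LinearMap.range_eq_top.mpr hsurj, finrank_top, Subspace.dual_finrank_eq] at h1
  omega

omit [FiniteDimensional K V] in
/-- A totally isotropic subspace has at most half the dimension. -/
theorem two_finrank_le (hK : Module.finrank F K = 2) {L : Submodule K V}
    (hL : ∀ x ∈ L, ∀ y ∈ L, T.h x y = 0) :
    2 * Module.finrank K L ≤ Module.finrank K V := by
  haveI : FiniteDimensional K V := Module.Finite.right F K V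
  have h1 := T.finrank_orth (L.restrictScalars F)
  have h2 : L.restrictScalars F
      ≤ LinearMap.ker ((L.restrictScalars F).subtype.dualMap ∘ₗ T.f) := by
    intro x hx
    rw [LinearMap.mem_ker]
    exact LinearMap.ext fun y => T.f_eq_zero_of_h (hL x hx y y.2)
  have h3 := Submodule.finrank_mono h2
  have h4 : Module.finrank F (L.restrictScalars F) = 2 * Module.finrank K L := by
    rw [← hK, ← Module.finrank_mul_finrank F K (L.restrictScalars F)]
    rfl
  have h5 := Module.finrank_mul_finrank F K V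
  rw [hK] at h5
  omega

/-- Vectors orthogonal over `K` to given ones. -/
def annih {n : ℕ} (β : Fin n → V) : Submodule K V :=
  LinearMap.ker (LinearMap.pi fun i => T.hLeft (β i))

omit [FiniteDimensional F K] [FiniteDimensional K V] [FiniteDimensional F V] in
theorem mem_annih {n : ℕ} {β : Fin n → V} {x : V} : x ∈ T.annih β ↔ ∀ i, T.h x (β i) = 0 := by
  simp [annih, funext_iff]

omit [FiniteDimensional F K] [FiniteDimensional F V] in
theorem finrank_annih {n : ℕ} (β : Fin n → V) :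
    Module.finrank K V ≤ Module.finrank K (T.annih β) + n := by
  have h1 := (LinearMap.pi fun i => T.hLeft (β i)).finrank_range_add_finrank_ker
  have h2 := Submodule.finrank_le (LinearMap.range (LinearMap.pi fun i => T.hLeft (β i)))
  rw [Module.finrank_fin_fun] at h2
  show _ ≤ Module.finrank K (LinearMap.ker (LinearMap.pi fun i => T.hLeft (β i))) + n
  omega

omit [FiniteDimensional F K] [FiniteDimensional K V] [FiniteDimensional F V] in
/-- An anisotropic orthogonal pair spans an isotropic vector pairing with one of them. -/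
theorem exists_pair_in {L : Submodule K V} {v v₂ : V} (hv : v ∈ L) (hv₂ : v₂ ∈ L)
    (h1 : T.h v v ≠ 0) (h2 : T.h v₂ v₂ ≠ 0) (h : T.h v₂ v = 0) :
    ∃ z ∈ L, T.h z z = 0 ∧ T.h z v ≠ 0 := by
  obtain ⟨k, hk, hk'⟩ := T.exists_isotropic_of_pair h1 h2
    (by rw [T.h_skew v₂ v, h, map_zero, neg_zero])
  exact ⟨v + k • v₂, L.add_mem hv (L.smul_mem k hv₂), hk, by rw [hk']; exact h1⟩

variable {X : Subgroup (V ≃ₗ[F] V)}

/-- An isotropic vector exists in large subspaces. -/
theorem exists_isotropic_in (hK : Module.finrank F K = 2) (hm : 4 ≤ Module.finrank K V)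
    {L : Submodule K V} (hL : Module.finrank K V ≤ Module.finrank K L + 2) :
    ∃ z ∈ L, z ≠ 0 ∧ T.h z z = 0 := by
  by_cases hiso : ∀ x ∈ L, T.h x x = 0
  · obtain ⟨z, hz, hz0⟩ := L.exists_mem_ne_zero_of_ne_bot (fun h => by
      rw [h, finrank_bot] at hL; omega)
    exact ⟨z, hz, hz0, hiso z hz⟩
  push Not at hiso
  obtain ⟨v, hv, hv'⟩ := hiso
  have h1 : Module.finrank K L ≤ Module.finrank K (L ⊓ T.annih ![v] : Submodule K V) + 1 := by
    have h2 := Submodule.finrank_sup_add_finrank_inf_eq L (T.annih ![v])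
    have h3 := Submodule.finrank_le (L ⊔ T.annih ![v])
    have h4 := T.finrank_annih ![v]
    omega
  by_cases hiso2 : ∀ x ∈ L ⊓ T.annih ![v], T.h x x = 0
  · obtain ⟨z, hz, hz0⟩ := (L ⊓ T.annih ![v]).exists_mem_ne_zero_of_ne_bot (fun h => by
      rw [h, finrank_bot] at h1; omega)
    exact ⟨z, hz.1, hz0, hiso2 z hz⟩
  push Not at hiso2
  obtain ⟨v₂, hv₂, hv₂'⟩ := hiso2
  obtain ⟨z, hz, hz1, hz2⟩ := T.exists_pair_in hv hv₂.1 hv' hv₂'
    (by simpa using (T.mem_annih.mp hv₂.2) 0)
  exact ⟨z, hz, fun h0 => hz2 (by rw [h0, T.h_zero_left]), hz1⟩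

omit [FiniteDimensional F K] [FiniteDimensional F V] in
/-- A non-zero isotropic vector exists in dimension at least two. -/
theorem exists_isotropic_vector (hm : 2 ≤ Module.finrank K V) : ∃ z, z ≠ 0 ∧ T.h z z = 0 := by
  haveI : Nontrivial V := Module.nontrivial_of_finrank_pos (R := K) (by omega)
  obtain ⟨v, hv0⟩ := exists_ne (0 : V)
  by_cases hv : T.h v v = 0
  · exact ⟨v, hv0, hv⟩
  obtain ⟨v₂, hv₂, hv₂0⟩ := (T.annih ![v]).exists_mem_ne_zero_of_ne_bot (fun h => by
    have := T.finrank_annih ![v]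
    rw [h, finrank_bot] at this
    omega)
  by_cases hv₂' : T.h v₂ v₂ = 0
  · exact ⟨v₂, hv₂0, hv₂'⟩
  obtain ⟨z, -, hz, hz'⟩ := T.exists_pair_in (L := ⊤) (Submodule.mem_top (x := v))
    (Submodule.mem_top (x := v₂)) hv hv₂' (by simpa using (T.mem_annih.mp hv₂) 0)
  exact ⟨z, fun h0 => hz' (by rw [h0, T.h_zero_left]), hz⟩

/-- An isotropic vector pairing with a given non-zero one. -/
theorem exists_isotropic_ne (hK : Module.finrank F K = 2) (hm : 2 ≤ Module.finrank K V) {x : V}
    (hx : x ≠ 0) : ∃ v, T.h v v = 0 ∧ T.h x v ≠ 0 := by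
  obtain ⟨w, hw, hww⟩ := T.exists_isotropic_vector hm
  by_contra hc
  push Not at hc
  have hxw : T.h x w = 0 := hc w hww
  obtain ⟨y, hy⟩ := T.exists_h_ne hx
  obtain ⟨z₀, hz₀⟩ := T.exists_h_ne hw
  have key : ∀ z, T.h w z ≠ 0 → T.h x z = 0 := by
    intro z hz
    obtain ⟨c, hc1, -⟩ := T.isotropic_shift hww hz
    have := hc _ hc1
    rwa [T.h_add_right, T.h_smul_right, hxw, mul_zero, add_zero] at this
  by_cases h : T.h w y = 0
  · apply hy
    have h1 := key (y + z₀) (by rwa [T.h_add_right, h, zero_add])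
    rwa [T.h_add_right, key z₀ hz₀, add_zero] at h1
  · exact hy (key y h)

/-- An isotropic vector pairing with two given non-zero ones. -/
theorem exists_isotropic_ne_two (hK : Module.finrank F K = 2) (hm : 2 ≤ Module.finrank K V)
    {x y : V} (hx : x ≠ 0) (hy : y ≠ 0) :
    ∃ v, T.h v v = 0 ∧ T.h x v ≠ 0 ∧ T.h y v ≠ 0 := by
  obtain ⟨v₁, h₁, hx₁⟩ := T.exists_isotropic_ne hK hm hx
  obtain ⟨v₂, h₂, hy₂⟩ := T.exists_isotropic_ne hK hm hy
  by_cases c₁ : T.h y v₁ = 0
  swap
  · exact ⟨v₁, h₁, hx₁, c₁⟩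
  by_cases c₂ : T.h x v₂ = 0
  swap
  · exact ⟨v₂, h₂, c₂, hy₂⟩
  obtain ⟨k, hk0, hk⟩ : ∃ k : K, k ≠ 0 ∧
      T.bar k * T.h v₁ v₂ = T.bar (T.bar k * T.h v₁ v₂) := by
    by_cases h0 : T.h v₁ v₂ = 0
    · exact ⟨1, one_ne_zero, by simp [h0]⟩
    · refine ⟨T.bar (T.h v₁ v₂)⁻¹, (map_ne_zero T.bar).mpr (inv_ne_zero h0), ?_⟩
      rw [T.bar_bar, inv_mul_cancel₀ h0, map_one]
  refine ⟨v₁ + k • v₂, ?_, ?_, ?_⟩
  · simp only [T.h_add, T.h_add_right, T.h_smul, T.h_smul_right, h₁, h₂, mul_zero, add_zero,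
      zero_add]
    rw [T.h_skew v₁ v₂]
    rw [map_mul, T.bar_bar] at hk
    linear_combination hk
  · rw [T.h_add_right, T.h_smul_right, c₂, mul_zero, add_zero]; exact hx₁
  · rw [T.h_add_right, T.h_smul_right, c₁, zero_add]
    exact mul_ne_zero ((map_ne_zero T.bar).mpr hk0) hy₂

/-- If the images of all isotropic lines are lines, the group normalises `K`. -/
theorem exists_line_image_not_line (hK : Module.finrank F K = 2)
    (hm : 4 ≤ Module.finrank K V)
    (hmove : ∃ g ∈ X, ∃ k : K, ¬ ∃ k' : K, ∀ v, g (k • g.symm v) = k' • v) :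
    ∃ g ∈ X, ∃ w, w ≠ 0 ∧ T.h w w = 0 ∧
      ∃ x ∈ (kline F K w).map g.toLinearMap, T.a • x ∉ (kline F K w).map g.toLinearMap := by
  obtain ⟨g, hg, k, hk⟩ := hmove
  by_contra hc
  push Not at hc
  apply hk
  have hK1 : ∀ l : K, ∃ p q : F, l = algebraMap F K p + algebraMap F K q * T.a := by
    intro l
    obtain ⟨p, hp⟩ := T.fixed ((l + T.bar l) / 2) (by
      rw [map_div₀, map_add, T.bar_bar, T.bar_two, add_comm])
    obtain ⟨q, hq⟩ := T.fixed ((l - T.bar l) / (2 * T.a)) (by
      rw [map_div₀, map_sub, T.bar_bar, map_mul, T.bar_two, T.bar_a, mul_neg, div_neg, ← neg_div,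
        neg_sub])
    refine ⟨p, q, ?_⟩
    rw [← hp, ← hq]
    have h2 := T.two_ne
    have ha := T.a_ne
    field_simp
    ring
  -- each isotropic line goes to a line
  have hline : ∀ v, v ≠ 0 → T.h v v = 0 → ∀ l : K, ∃ c : K, g (l • v) = c • g v := by
    intro v hv hvv l
    set B := (kline F K v).map g.toLinearMap with hB
    have hBinv : ∀ x ∈ B, ∀ l : K, l • x ∈ B := by
      intro x hx l
      obtain ⟨p, q, rfl⟩ := hK1 l
      rw [add_smul, mul_smul, algebraMap_smul, algebraMap_smul]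
      exact B.add_mem (B.smul_mem p hx) (B.smul_mem q (hc g hg v hv hvv x hx))
    have hgv : g v ∈ B := ⟨v, self_mem_kline v, rfl⟩
    have hle : kline F K (g v) ≤ B := by
      intro x hx
      obtain ⟨i, rfl⟩ := mem_kline.mp hx
      exact hBinv _ hgv i
    have heq := Submodule.eq_of_le_of_finrank_eq hle (by
      rw [hB, finrank_kline (by simpa using hv), finrank_map_kline g hv])
    have : g (l • v) ∈ kline F K (g v) := heq ▸ ⟨_, smul_mem_kline v l, rfl⟩
    obtain ⟨c, hc'⟩ := mem_kline.mp this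
    exact ⟨c, hc'.symm⟩
  have hgi : ∀ v₁ v₂, v₁ ≠ 0 → v₂ ≠ 0 → T.h v₁ v₁ = 0 → T.h v₂ v₂ = 0 →
      v₂ ∉ Submodule.span K ({v₁} : Set V) → ∀ i j : K, i • g v₁ = j • g v₂ → j = 0 := by
    intro v₁ v₂ hv₁ hv₂ h₁ h₂ hind i j hij
    by_contra hj
    apply hind
    have hmem : g v₂ ∈ kline F K (g v₁) :=
      mem_kline.mpr ⟨j⁻¹ * i, by rw [mul_smul, hij, inv_smul_smul₀ hj]⟩
    have hle : (kline F K v₁).map g.toLinearMap ≤ kline F K (g v₁) := by
      rintro _ ⟨x, hx, rfl⟩
      obtain ⟨l, rfl⟩ := mem_kline.mp hx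
      obtain ⟨c, hc'⟩ := hline v₁ hv₁ h₁ l
      exact mem_kline.mpr ⟨c, hc'.symm⟩
    have heq := Submodule.eq_of_le_of_finrank_eq hle (by
      rw [finrank_map_kline g hv₁, finrank_kline (by simpa using hv₁)])
    rw [← heq] at hmem
    obtain ⟨x, hx, hx'⟩ := hmem
    rw [g.injective hx'] at hx
    obtain ⟨l, hl⟩ := mem_kline.mp hx
    exact Submodule.mem_span_singleton.mpr ⟨l, hl⟩
  choose cf hcf using fun (v : {v : V // v ≠ 0 ∧ T.h v v = 0}) => hline v.1 v.2.1 v.2.2 k
  have hcomb : ∀ v₁ v₂ : {v : V // v ≠ 0 ∧ T.h v v = 0},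
      v₂.1 ∉ Submodule.span K ({v₁.1} : Set V) → T.h (v₁.1 + v₂.1) (v₁.1 + v₂.1) = 0 →
      cf v₁ = cf v₂ := by
    intro v₁ v₂ hind hiso
    have hne : v₁.1 + v₂.1 ≠ 0 := by
      intro h
      apply hind
      rw [Submodule.mem_span_singleton]
      exact ⟨-1, by rw [neg_one_smul]; exact (eq_neg_of_add_eq_zero_right h).symm⟩
    have h3 := hcf ⟨_, hne, hiso⟩
    simp only at h3
    rw [smul_add, map_add, map_add, hcf, hcf, smul_add] at h3
    set c₃ := cf ⟨_, hne, hiso⟩
    have h4 : (cf v₁ - c₃) • g v₁.1 = (c₃ - cf v₂) • g v₂.1 := by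
      rw [sub_smul, sub_smul, sub_eq_sub_iff_add_eq_add, h3]
      abel
    have h5 := hgi v₁.1 v₂.1 v₁.2.1 v₂.2.1 v₁.2.2 v₂.2.2 hind _ _ h4
    rw [h5, zero_smul] at h4
    have h6 := (smul_eq_zero.mp h4).resolve_right (by simpa using v₁.2.1)
    rw [sub_eq_zero] at h5 h6
    rw [h6, h5]
  -- constant on each line
  have hliso : ∀ v : {v : V // v ≠ 0 ∧ T.h v v = 0}, ∀ l : K, T.h (l • v.1) (l • v.1) = 0 :=
    fun v l => by rw [T.h_smul, T.h_smul_right, v.2.2, mul_zero, mul_zero]
  have hself : ∀ v : {v : V // v ≠ 0 ∧ T.h v v = 0}, ∀ l : K, ∀ hl : l • v.1 ≠ 0,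
      cf ⟨l • v.1, hl, hliso v l⟩ = cf v := by
    intro v l hl
    obtain ⟨v', hv'iso, hv'⟩ := T.exists_isotropic_ne hK (by omega) v.2.1
    obtain ⟨z, hz, hz0, hzz⟩ := T.exists_isotropic_in hK hm (L := T.annih ![v.1, v'])
      (T.finrank_annih _)
    have hzv : T.h z v.1 = 0 := by simpa using (T.mem_annih.mp hz) 0
    have hzv' : T.h z v' = 0 := by simpa using (T.mem_annih.mp hz) 1
    have hvz : T.h v.1 z = 0 := by rw [T.h_skew z v.1, hzv, map_zero, neg_zero]
    have hind : ∀ i : K, i ≠ 0 → z ∉ Submodule.span K ({i • v.1} : Set V) := by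
      intro i hi h
      obtain ⟨j, hj⟩ := Submodule.mem_span_singleton.mp h
      rw [← hj, T.h_smul, T.h_smul] at hzv'
      rcases mul_eq_zero.mp hzv' with h0 | h0
      · exact hz0 (by rw [← hj, h0, zero_smul])
      · exact hv' ((mul_eq_zero.mp h0).resolve_left hi)
    have hl0 : l ≠ 0 := fun h => hl (by rw [h, zero_smul])
    have hiso : ∀ i : K, T.h (i • v.1 + z) (i • v.1 + z) = 0 := fun i => by
      simp [T.h_add, T.h_add_right, T.h_smul, T.h_smul_right, v.2.2, hzz, hzv, hvz]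
    rw [hcomb ⟨l • v.1, hl, hliso v l⟩ ⟨z, hz0, hzz⟩ (hind l hl0) (hiso l),
      hcomb v ⟨z, hz0, hzz⟩ (by simpa using hind 1 one_ne_zero) (by simpa using hiso 1)]
  have hconst : ∀ v₁ v₂ : {v : V // v ≠ 0 ∧ T.h v v = 0}, cf v₁ = cf v₂ := by
    intro v₁ v₂
    by_cases hind : v₂.1 ∈ Submodule.span K ({v₁.1} : Set V)
    · obtain ⟨l, hl⟩ := Submodule.mem_span_singleton.mp hind
      have h := hself v₁ l (by rw [hl]; exact v₂.2.1)
      rw [← h]
      congr 1
      exact Subtype.ext hl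
    by_cases h0 : T.h v₁.1 v₂.1 = 0
    · refine hcomb v₁ v₂ hind ?_
      simp [T.h_add, T.h_add_right, v₁.2.2, v₂.2.2, h0, T.h_skew v₁.1 v₂.1]
    set i := T.bar (T.h v₁.1 v₂.1)⁻¹ with hi
    have hi0 : i ≠ 0 := (map_ne_zero T.bar).mpr (inv_ne_zero h0)
    have hiv : i • v₂.1 ≠ 0 := smul_ne_zero hi0 v₂.2.1
    rw [← hself v₂ i hiv]
    refine hcomb v₁ _ (fun h => hind ?_) ?_
    · simpa [smul_smul, inv_mul_cancel₀ hi0] using Submodule.smul_mem _ i⁻¹ h
    · simp only [T.h_add, T.h_add_right, T.h_smul, T.h_smul_right, v₁.2.2, v₂.2.2, mul_zero,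
        add_zero, zero_add, T.h_skew v₁.1 v₂.1, hi, T.bar_bar, inv_mul_cancel₀ h0, mul_neg,
        ← map_mul, map_one]
      norm_num
  obtain ⟨w, -, hw, hww⟩ := T.exists_isotropic_in hK hm (L := ⊤) (by rw [finrank_top]; omega)
  refine ⟨cf ⟨w, hw, hww⟩, fun y => ?_⟩
  obtain ⟨x, rfl⟩ := g.surjective y
  rw [g.symm_apply_apply]
  have hiso : ∀ v, T.h v v = 0 → g (k • v) = cf ⟨w, hw, hww⟩ • g v := by
    intro v hv
    rcases eq_or_ne v 0 with rfl | hv0
    · simp
    rw [hcf ⟨v, hv0, hv⟩, hconst ⟨v, hv0, hv⟩ ⟨w, hw, hww⟩]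
  rcases eq_or_ne x 0 with rfl | hx
  · simp
  obtain ⟨u, hu, hxu⟩ := T.exists_isotropic_ne hK (by omega) hx
  have hux : T.h u x ≠ 0 := by
    rw [T.h_skew x u]; exact neg_ne_zero.mpr ((map_ne_zero T.bar).mpr hxu)
  obtain ⟨c, hc1, -⟩ := T.isotropic_shift hu hux
  have hcu : T.h (c • u) (c • u) = 0 := by rw [T.h_smul, T.h_smul_right, hu, mul_zero, mul_zero]
  have h1 := hiso _ hc1
  have h2 := hiso _ hcu
  rw [smul_add, map_add, map_add, smul_add, h2] at h1
  exact add_right_cancel h1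

omit [FiniteDimensional K V] in
/-- A transvection centre from a line image that is not a line. -/
theorem exists_centre (hX : T.Between X) (hK : Module.finrank F K = 2)
    (hm : 5 ≤ Module.finrank K V) {g : V ≃ₗ[F] V} (hg : g ∈ X) {w : V} (hw : T.h w w = 0)
    {β : V} (hβB : β ∈ (kline F K w).map g.toLinearMap)
    (hβ : T.a • β ∉ (kline F K w).map g.toLinearMap) :
    ∃ p : V, p ≠ 0 ∧ ∀ c : F, MemOne X (c • T.sq p) := by
  haveI : FiniteDimensional K V := Module.Finite.right F K V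
  set B : Submodule F V := (kline F K w).map g.toLinearMap with hB
  let β₁ := g w
  let β₂ := g (T.a • w)
  have hK1 : ∀ l : K, ∃ p q : F, l = algebraMap F K p + algebraMap F K q * T.a := by
    intro l
    obtain ⟨p, hp⟩ := T.fixed ((l + T.bar l) / 2) (by
      rw [map_div₀, map_add, T.bar_bar, T.bar_two, add_comm])
    obtain ⟨q, hq⟩ := T.fixed ((l - T.bar l) / (2 * T.a)) (by
      rw [map_div₀, map_sub, T.bar_bar, map_mul, T.bar_two, T.bar_a, mul_neg, div_neg, ← neg_div,
        neg_sub])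
    refine ⟨p, q, ?_⟩
    rw [← hp, ← hq]
    have h2 := T.two_ne
    have ha := T.a_ne
    field_simp
    ring
  have hspanB : ∀ x ∈ B, ∃ p q : F, x = p • β₁ + q • β₂ := by
    rintro _ ⟨y, hy, rfl⟩
    obtain ⟨l, rfl⟩ := mem_kline.mp hy
    obtain ⟨p, q, rfl⟩ := hK1 l
    exact ⟨p, q, by simp [β₁, β₂, add_smul, mul_smul, algebraMap_smul]⟩
  -- a vector killed by `B` over `F` but not over `K`
  obtain ⟨y, hyB, hyβ⟩ : ∃ y, (∀ x ∈ B, T.f y x = 0) ∧ T.f y (T.a • β) ≠ 0 := by
    obtain ⟨φ, hφ, hφB⟩ := Submodule.exists_dual_map_eq_bot_of_notMem hβ inferInstance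
    obtain ⟨y, hy⟩ := T.exists_f_eq φ
    refine ⟨y, fun x hx => ?_, by rw [hy]; exact hφ⟩
    have : φ x ∈ B.map φ := Submodule.mem_map_of_mem hx
    rw [hφB, Submodule.mem_bot] at this
    rw [hy]; exact this
  -- make it isotropic
  obtain ⟨u, hu, huB, huβ⟩ : ∃ u, T.h u u = 0 ∧ (∀ x ∈ B, T.f u x = 0) ∧
      T.f u (T.a • β) ≠ 0 := by
    by_cases hyy : T.h y y = 0
    · exact ⟨y, hyy, hyB, hyβ⟩
    have hBN : ∀ x ∈ B, ∀ z ∈ T.annih ![β₁, β₂], T.h z x = 0 := fun x hx z hz => by
      obtain ⟨p, q, rfl⟩ := hspanB x hx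
      have h1 : T.h z β₁ = 0 := by simpa using (T.mem_annih.mp hz) 0
      have h2 : T.h z β₂ = 0 := by simpa using (T.mem_annih.mp hz) 1
      rw [T.h_add_right, ← algebraMap_smul K p, ← algebraMap_smul K q, T.h_smul_right,
        T.h_smul_right, h1, h2, mul_zero, mul_zero, add_zero]
    obtain ⟨z₀, hz₀, k, hk⟩ : ∃ z₀ ∈ T.annih ![β₁, β₂], ∃ k : K,
        T.h (y + k • z₀) (y + k • z₀) = 0 := by
      set N := T.annih ![β₁, β₂] with hN
      set N' := N ⊓ T.annih ![y] with hN'
      have hN'y : ∀ z ∈ N', T.h z y = 0 := fun z hz => by simpa using (T.mem_annih.mp hz.2) 0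
      by_cases hc : ∃ z ∈ N', T.h z z ≠ 0
      · obtain ⟨z, hz, hzz⟩ := hc
        obtain ⟨k, hk, -⟩ := T.exists_isotropic_of_pair hyy hzz
          (by rw [T.h_skew z y, hN'y z hz, map_zero, neg_zero])
        exact ⟨z, hz.1, k, hk⟩
      push Not at hc
      by_cases hs : ∃ z ∈ N, T.h z z = 0 ∧ T.h z y ≠ 0
      · obtain ⟨z, hz, hzz, hzy⟩ := hs
        obtain ⟨c, hc1, -⟩ := T.isotropic_shift hzz hzy
        exact ⟨z, hz, c, hc1⟩
      push Not at hs
      exfalso
      have h2 := T.finrank_annih ![β₁, β₂]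
      have h3 := Submodule.finrank_sup_add_finrank_inf_eq N (T.annih ![y])
      have h4 := Submodule.finrank_le (N ⊔ T.annih ![y])
      have h5 := T.finrank_annih ![y]
      rw [← hN] at h2
      rw [← hN'] at h3
      have hiso : ∀ x ∈ N', ∀ x' ∈ N', T.h x x' = 0 :=
        fun x hx x' hx' => T.h_eq_zero_of_isotropic hc hx hx'
      by_cases hle : N ≤ T.annih ![y]
      · have := T.two_finrank_le hK hiso
        rw [show N' = N from inf_eq_left.mpr hle] at this
        omega
      obtain ⟨z, hz, hzy⟩ := SetLike.not_le_iff_exists.mp hle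
      have hzy' : T.h z y ≠ 0 := fun h => hzy (T.mem_annih.mpr fun i => by fin_cases i; exact h)
      -- `N'` is orthogonal to `N` and `y`
      have hxz : ∀ x ∈ N', T.h x z = 0 := by
        intro x hx
        by_contra hxz
        obtain ⟨c, hc1, -⟩ := T.isotropic_shift (hc x hx) hxz
        have := hs _ (N.add_mem hz (N.smul_mem c hx.1)) hc1
        rw [T.h_add, T.h_smul, hN'y x hx, mul_zero, add_zero] at this
        exact hzy' this
      have hN'N : ∀ x ∈ N', ∀ n ∈ N, T.h x n = 0 := by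
        intro x hx n hn
        have hn' : n - (T.h n y / T.h z y) • z ∈ N' := by
          refine ⟨N.sub_mem hn (N.smul_mem _ hz), T.mem_annih.mpr fun i => ?_⟩
          fin_cases i
          show T.h (n - (T.h n y / T.h z y) • z) y = 0
          rw [T.h_sub_left, T.h_smul, div_mul_cancel₀ _ hzy', sub_self]
        have h := hiso x hx _ hn'
        rwa [T.h_sub_right, T.h_smul_right, hxz x hx, mul_zero, sub_zero] at h
      have hyN : y ∉ N := fun hy => hyβ (T.f_eq_zero_of_h
        (by rw [T.h_smul_right, hBN β hβB y hy, mul_zero]))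
      set L := N ⊔ Submodule.span K {y} with hL
      have hL1 : Module.finrank K N < Module.finrank K L :=
        Submodule.finrank_lt_finrank_of_lt (lt_of_le_of_ne le_sup_left fun h => hyN (by
          rw [h]; exact Submodule.mem_sup_right (Submodule.mem_span_singleton_self y)))
      have hN'L : N'.restrictScalars F
          ≤ LinearMap.ker ((L.restrictScalars F).subtype.dualMap ∘ₗ T.f) := by
        intro x hx
        rw [LinearMap.mem_ker]
        refine LinearMap.ext fun l => T.f_eq_zero_of_h ?_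
        obtain ⟨n, hn, m, hm', hl⟩ := Submodule.mem_sup.mp l.2
        obtain ⟨c, rfl⟩ := Submodule.mem_span_singleton.mp hm'
        show T.h x (l : V) = 0
        rw [← hl, T.h_add_right, T.h_smul_right, hN'N x hx n hn, hN'y x hx, mul_zero, add_zero]
      have h6 := T.finrank_orth (L.restrictScalars F)
      have h7 := Submodule.finrank_mono hN'L
      have hsc : ∀ A : Submodule K V,
          Module.finrank F (A.restrictScalars F) = 2 * Module.finrank K A := fun A => by
        rw [← hK, ← Module.finrank_mul_finrank F K (A.restrictScalars F)]; rfl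
      have h8 := Module.finrank_mul_finrank F K V
      rw [hsc] at h6 h7
      rw [hK] at h8
      omega
    refine ⟨y + k • z₀, hk, fun x hx => ?_, ?_⟩
    · rw [map_add, LinearMap.add_apply, hyB x hx, zero_add]
      exact T.f_eq_zero_of_h (by rw [T.h_smul, hBN x hx z₀ hz₀, mul_zero])
    · rw [map_add, LinearMap.add_apply, T.f_eq_zero_of_h (x := k • z₀)
        (by rw [T.h_smul, T.h_smul_right, hBN β hβB z₀ hz₀, mul_zero, mul_zero]), add_zero]
      exact hyβ
  -- the conjugate root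
  obtain ⟨M, hMX, hMB, hMskew, hMker⟩ : ∃ M : V →ₗ[F] V, MemOne X M ∧ (∀ x, M x ∈ B) ∧
      (∀ x y, T.f (M x) y = -T.f x (M y)) ∧
      (∀ x, M x = 0 ↔ ∀ b ∈ B, T.f x b = 0) := by
    refine ⟨g.toLinearMap ∘ₗ (T.root w).restrictScalars F ∘ₗ g.symm.toLinearMap,
      (hX.root T hw).conj hg, fun x => ⟨_, smul_mem_kline w _, rfl⟩, fun x y => ?_, fun x => ?_⟩
    · show T.f (g (T.root w (g.symm x))) y = -T.f x (g (T.root w (g.symm y)))
      rw [← (hX.preserves g hg).symm T, g.symm_apply_apply,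
        ← (hX.preserves g hg).symm T x, g.symm_apply_apply]
      apply (algebraMap F K).injective
      rw [map_neg, T.tr, T.tr]
      simp only [root_apply, T.h_smul, T.h_smul_right, map_mul, T.bar_bar]
      rw [T.h_skew (g.symm y) w]
      simp only [map_neg, T.bar_bar]
      ring
    · show g (T.root w (g.symm x)) = 0 ↔ _
      rw [map_eq_zero_iff g g.injective, root_apply, smul_eq_zero]
      have hw0 : w ≠ 0 := by
        rintro rfl
        have h0 : β = 0 := by
          obtain ⟨p, q, h⟩ := hspanB β hβB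
          simpa [β₁, β₂] using h
        exact hβ (by rw [h0, smul_zero]; exact B.zero_mem)
      rw [or_iff_left hw0]
      constructor
      · rintro h _ ⟨y, hy, rfl⟩
        obtain ⟨l, rfl⟩ := mem_kline.mp hy
        show T.f x (g (l • w)) = 0
        rw [← (hX.preserves g hg).symm T, g.symm_apply_apply]
        exact T.f_eq_zero_of_h (by rw [T.h_smul_right, h, mul_zero])
      · intro h
        refine T.h_eq_zero_of_f fun l => ?_
        have h1 := h _ ⟨_, smul_mem_kline w (T.bar l), rfl⟩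
        rw [show T.f x (g.toLinearMap (T.bar l • w)) = T.f (g.symm x) (T.bar l • w) by
          rw [← (hX.preserves g hg).symm T]; simp] at h1
        apply (algebraMap F K).injective
        rw [T.tr, T.h_smul, ← h1, T.tr, T.h_smul_right, T.bar_bar]
  have hMu : M u = 0 := (hMker u).mpr huB
  set p := M (T.a • u) with hp
  have hp0 : p ≠ 0 := by
    intro h0
    apply huβ
    have h1 := (hMker _).mp h0 β hβB
    apply (algebraMap F K).injective
    have h2 := congrArg (algebraMap F K) h1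
    rw [T.tr, T.h_smul, map_zero] at h2
    rw [T.tr, T.h_smul_right, T.bar_a, map_zero]
    simp only [map_mul, map_neg, T.bar_a] at h2 ⊢
    linear_combination -h2
  have hpB : p ∈ B := hMB _
  have hBB : ∀ x ∈ B, ∀ y ∈ B, T.f x y = 0 := by
    rintro x ⟨x', hx, rfl⟩ y ⟨y', hy, rfl⟩
    obtain ⟨k, rfl⟩ := mem_kline.mp hx
    obtain ⟨l, rfl⟩ := mem_kline.mp hy
    show T.f (g (k • w)) (g (l • w)) = 0
    rw [hX.preserves g hg]
    exact T.f_eq_zero_of_h (by rw [T.h_smul, T.h_smul_right, hw, mul_zero, mul_zero])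
  -- the space orthogonal to everything in sight
  set W := T.annih ![β₁, β₂, u] with hW
  have hWdim := T.finrank_annih ![β₁, β₂, u]
  rw [← hW] at hWdim
  have hWu : ∀ z ∈ W, T.h z u = 0 := fun z hz => by simpa using (T.mem_annih.mp hz) 2
  have hWB : ∀ z ∈ W, ∀ x ∈ B, T.h z x = 0 := fun z hz x hx => by
    obtain ⟨p, q, rfl⟩ := hspanB x hx
    have h1 : T.h z β₁ = 0 := by simpa using (T.mem_annih.mp hz) 0
    have h2 : T.h z β₂ = 0 := by simpa using (T.mem_annih.mp hz) 1
    rw [T.h_add_right, ← algebraMap_smul K p, ← algebraMap_smul K q, T.h_smul_right,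
      T.h_smul_right, h1, h2, mul_zero, mul_zero, add_zero]
  obtain ⟨γ, hγ, hγx⟩ := hMX
  have hMM : ∀ x, M (M x) = 0 := fun x => (hMker _).mpr fun b hb => hBB _ (hMB x) _ hb
  have hsymm : ∀ x, γ.symm x = x - M x := fun x => by
    apply γ.injective
    rw [γ.apply_symm_apply, hγx, map_sub, hMM, sub_zero]
    abel
  -- conjugating a Siegel element
  have hpairs : ∀ z ∈ W, T.h z z = 0 →
      MemOne X (T.pair p z + (-T.f (T.a • u) p) • T.sq z) := by
    intro z hz hzz
    have huz : T.h u z = 0 := by rw [T.h_skew z u, hWu z hz, map_zero, neg_zero]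
    set b := 2 * T.a with hb
    have hS := hX.siegel T hu hzz huz b
    set S := (T.siegel b u z).restrictScalars F with hSdef
    have hSx : ∀ x, S x = (b * T.h x z) • u + (T.bar b * T.h x u) • z := fun x => rfl
    have hSS : S ∘ₗ S = 0 := by
      ext x
      simp [hSx, T.h_add, T.h_smul, hu, hzz, huz, hWu z hz]
    have hMz : ∀ l : K, M (l • z) = 0 := fun l => (hMker _).mpr fun x hx =>
      T.f_eq_zero_of_h (by rw [T.h_smul, hWB z hz x hx, mul_zero])
    have hMz' : ∀ x, T.h (M x) z = 0 := fun x => by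
      rw [T.h_skew z (M x), hWB z hz _ (hMB x), map_zero, neg_zero]
    have hMl : ∀ (p' q' : F), M ((algebraMap F K p' + algebraMap F K q' * T.a) • u) = q' • p := by
      intro p' q'
      rw [add_smul, mul_smul, algebraMap_smul, algebraMap_smul, map_add, map_smul, map_smul, hMu,
        smul_zero, zero_add]
    have ha2 := mul_ne_zero T.two_ne T.a_ne
    have hMxu : ∀ x, T.h (M x) u = algebraMap F K (T.f x p) / (2 * T.a) := by
      intro x
      obtain ⟨e, he, he'⟩ : ∃ e, e = T.h (M x) u ∧ T.h (M x) u = e := ⟨_, rfl, rfl⟩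
      have h1 := congrArg (algebraMap F K) (hMskew x u)
      rw [T.tr, hMu, map_zero (T.f x), neg_zero, map_zero, he'] at h1
      have h2 := congrArg (algebraMap F K) (hMskew x (T.a • u))
      rw [T.tr, T.h_smul_right, T.bar_a, he', map_neg, ← hp, map_mul, map_neg, T.bar_a, neg_neg] at h2
      rw [he', eq_div_iff ha2]
      linear_combination -h2 + T.a * h1
    have hMS : ∀ x, M (S x) = T.f x z • p := by
      intro x
      rw [hSx, map_add, hMz, add_zero]
      obtain ⟨p', q', hpq⟩ := hK1 (b * T.h x z)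
      rw [hpq, hMl]
      congr 1
      apply (algebraMap F K).injective
      have hbar := congrArg T.bar hpq
      simp only [map_add, map_mul, hb, T.bar_two, T.bar_a, AlgEquiv.commutes] at hbar
      rw [hb] at hpq
      rw [T.tr]
      refine mul_left_cancel₀ ha2 ?_
      linear_combination hbar - hpq
    have hdiff : ∀ x, γ (S (γ.symm x)) = S x + T.pair p z x := by
      intro x
      have hSM : S (M x) = -(T.f x p • z) := by
        rw [hSx, hMz', mul_zero, zero_smul, zero_add, hMxu, hb, map_mul, T.bar_two, T.bar_a]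
        rw [show 2 * -T.a * (algebraMap F K (T.f x p) / (2 * T.a)) = -algebraMap F K (T.f x p) by
          field_simp [T.two_ne, T.a_ne]]
        rw [neg_smul, algebraMap_smul]
      rw [hsymm, hγx, map_sub S, map_sub M, hMS, hSM, map_neg, map_smul,
        show M z = 0 by simpa using hMz 1, smul_zero, neg_zero, sub_zero, pair_apply]
      abel
    have hhp : T.h u p = algebraMap F K (T.f (T.a • u) p) / (2 * T.a) := by
      rw [T.h_skew p u, hp, hMxu, map_div₀, AlgEquiv.commutes, map_mul, T.bar_two, T.bar_a,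
        mul_neg, div_neg, neg_neg]
    have hfSp : ∀ x, T.f (S x) p = T.f (T.a • u) p * T.f x z := by
      intro x
      apply (algebraMap F K).injective
      have hzp : T.h z p = 0 := hWB z hz p hpB
      rw [T.tr, map_mul, T.tr x z, hSx]
      simp only [T.h_add, T.h_smul, hzp, mul_zero, add_zero, hhp, hb, map_mul, map_div₀, T.bar_two,
        T.bar_a, AlgEquiv.commutes]
      field_simp [T.two_ne, T.a_ne]
    -- the element
    obtain ⟨s, hs, hsx⟩ := hS.conj hγ
    obtain ⟨t, ht, htx⟩ := hS.neg hSS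
    refine ⟨s * t, X.mul_mem hs ht, fun x => ?_⟩
    show s (t x) = _
    have hSS' : S (S x) = 0 := LinearMap.congr_fun hSS x
    have hfSz : T.f (S x) z = 0 := T.f_eq_zero_of_h (by simp [hSx, T.h_add, T.h_smul, huz, hzz])
    rw [htx, hsx]
    simp only [LinearMap.neg_apply, LinearMap.comp_apply, LinearEquiv.coe_coe, hdiff, map_add,
      map_neg, hSS', pair_apply, LinearMap.add_apply, hfSp, hfSz, LinearMap.smul_apply, sq_apply]
    module
  -- remove the square
  have hpair : ∀ z ∈ W, T.h z z = 0 → MemOne X (T.pair p z) := by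
    intro z hz hzz
    have hfzp : T.f z p = 0 := T.f_eq_zero_of_h (hWB z hz p hpB)
    have hfpz : T.f p z = 0 := by rw [T.f_swap z p, hfzp, neg_zero]
    set z₂ := (2 : F)⁻¹ • z with hz₂
    have hz₂W : z₂ ∈ W := by rw [hz₂, ← algebraMap_smul K]; exact W.smul_mem _ hz
    have hz₂z : T.h z₂ z₂ = 0 := by
      rw [hz₂, ← algebraMap_smul K, T.h_smul, T.h_smul_right, hzz, mul_zero, mul_zero]
    have h1 := hpairs z₂ hz₂W hz₂z
    have h2 := hpairs (-z₂) (W.neg_mem hz₂W) (by rw [T.h_neg_left, T.h_neg_right, neg_neg, hz₂z])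
    have hpp : T.f p p = 0 := T.f_alt p
    have h3 := h1.add (h2.neg (by ext x; simp [hz₂, hfzp, hfpz, hpp, T.f_alt]))
      (by ext x; simp [hz₂, hfzp, hfpz, hpp, T.f_alt])
    convert h3 using 1
    have h2F : (2 : F) ≠ 0 := fun h => T.two_ne (by rw [← map_ofNat (algebraMap F K) 2, h, map_zero])
    ext x
    simp only [hz₂, LinearMap.add_apply, LinearMap.neg_apply, LinearMap.smul_apply, pair_apply,
      sq_apply, map_neg, map_smul, smul_eq_mul]
    match_scalars <;> field_simp <;> ring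
  have h2F : (2 : F) ≠ 0 := fun h => T.two_ne (by rw [← map_ofNat (algebraMap F K) 2, h, map_zero])
  have hWF : ∀ (c : F) (z : V), z ∈ W → T.h z z = 0 → c • z ∈ W ∧ T.h (c • z) (c • z) = 0 := by
    intro c z hz hzz
    rw [← algebraMap_smul K]
    exact ⟨W.smul_mem _ hz, by rw [T.h_smul, T.h_smul_right, hzz, mul_zero, mul_zero]⟩
  -- an isotropic vector of `W`
  obtain ⟨r, hrW, hr0, hrr⟩ : ∃ r ∈ W, r ≠ 0 ∧ T.h r r = 0 := by
    by_cases hiso : ∀ x ∈ W, T.h x x = 0
    · obtain ⟨z, hz, hz0⟩ := W.exists_mem_ne_zero_of_ne_bot (fun h => by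
        rw [h, finrank_bot] at hWdim; omega)
      exact ⟨z, hz, hz0, hiso z hz⟩
    push Not at hiso
    obtain ⟨v, hv, hv'⟩ := hiso
    have h2 := Submodule.finrank_sup_add_finrank_inf_eq W (T.annih ![v])
    have h3 := Submodule.finrank_le (W ⊔ T.annih ![v])
    have h4 := T.finrank_annih ![v]
    by_cases hiso2 : ∀ x ∈ W ⊓ T.annih ![v], T.h x x = 0
    · obtain ⟨z, hz, hz0⟩ := (W ⊓ T.annih ![v]).exists_mem_ne_zero_of_ne_bot (fun h => by
        rw [h, finrank_bot] at h2; omega)
      exact ⟨z, hz.1, hz0, hiso2 z hz⟩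
    push Not at hiso2
    obtain ⟨v₂, hv₂, hv₂'⟩ := hiso2
    obtain ⟨z, hz, hz1, hz2⟩ := T.exists_pair_in hv hv₂.1 hv' hv₂'
      (by simpa using (T.mem_annih.mp hv₂.2) 0)
    exact ⟨z, hz, fun h0 => hz2 (by rw [h0, T.h_zero_left]), hz1⟩
  have hrp : T.h r p = 0 := hWB r hrW p hpB
  have hpr : T.h p r = 0 := by rw [T.h_skew r p, hrp, map_zero, neg_zero]
  by_cases hspan : p ∈ Submodule.span K ({r} : Set V)
  · obtain ⟨l, hl⟩ := Submodule.mem_span_singleton.mp hspan
    have hpW : p ∈ W := hl ▸ W.smul_mem l hrW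
    have hpp : T.h p p = 0 := by rw [← hl, T.h_smul, T.h_smul_right, hrr, mul_zero, mul_zero]
    refine ⟨p, hp0, fun c => ?_⟩
    obtain ⟨hW', hiso'⟩ := hWF (c / 2) p hpW hpp
    have := hpair _ hW' hiso'
    convert this using 1
    ext x
    simp [T.f_alt]
    match_scalars
    field_simp
    ring
  -- an isotropic vector orthogonal to `r` but not to `p`
  obtain ⟨y, hyy, hry, hpy⟩ : ∃ y, T.h y y = 0 ∧ T.h r y = 0 ∧ T.h p y ≠ 0 := by
    by_cases hpp : T.h p p = 0
    · obtain ⟨y₀, hy₀, hpy₀⟩ : ∃ y₀, T.h r y₀ = 0 ∧ T.h p y₀ ≠ 0 := by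
        by_contra hc
        push Not at hc
        apply hspan
        obtain ⟨y₁, hy₁⟩ := T.exists_h_ne hr0
        rw [Submodule.mem_span_singleton]
        set l := T.h p y₁ / T.h r y₁ with hl
        refine ⟨l, ?_⟩
        by_contra hne
        obtain ⟨y₂, hy₂⟩ := T.exists_h_ne (sub_ne_zero.mpr hne)
        set k := T.bar (T.h r y₂ / T.h r y₁) with hk
        have h1 := hc (y₂ - k • y₁) (by
          rw [T.h_sub_right, T.h_smul_right, hk, T.bar_bar, div_mul_cancel₀ _ hy₁, sub_self])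
        rw [T.h_sub_right, T.h_smul_right, hk, T.bar_bar, sub_eq_zero] at h1
        apply hy₂
        rw [T.h_sub_left, T.h_smul, h1, hl]
        field_simp
        ring
      obtain ⟨c, hc1, hc2⟩ := T.isotropic_shift hpp hpy₀
      exact ⟨_, hc1, by rw [T.h_add_right, T.h_smul_right, hy₀, hrp, mul_zero, add_zero],
        by rw [hc2]; exact hpy₀⟩
    · obtain ⟨v, hv, hvv⟩ : ∃ v ∈ T.annih ![p, r], T.h v v ≠ 0 := by
        by_contra hc
        push Not at hc
        have := T.two_finrank_le hK fun x hx y hy => T.h_eq_zero_of_isotropic hc hx hy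
        have := T.finrank_annih ![p, r]
        omega
      have hvp : T.h v p = 0 := by simpa using (T.mem_annih.mp hv) 0
      have hvr : T.h v r = 0 := by simpa using (T.mem_annih.mp hv) 1
      have hpv : T.h p v = 0 := by rw [T.h_skew v p, hvp, map_zero, neg_zero]
      have hrv : T.h r v = 0 := by rw [T.h_skew v r, hvr, map_zero, neg_zero]
      obtain ⟨k, hk1, -⟩ := T.exists_isotropic_of_pair hpp hvv hpv
      refine ⟨_, hk1, by rw [T.h_add_right, T.h_smul_right, hrp, hrv, mul_zero, add_zero], ?_⟩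
      rw [T.h_add_right, T.h_smul_right, hpv, mul_zero, add_zero]
      exact hpp
  -- move `p` to `p + r`, fixing `r`
  obtain ⟨σ', hσ', hσx⟩ := hX.siegel T hrr hyy hry (T.h p y)⁻¹
  have hσp : σ' p = p + r := by
    rw [hσx]; simp [hpr, hpy]
  have hσr : σ' r = r := by
    rw [hσx]; simp [hry, hrr]
  refine ⟨r, hr0, fun c => ?_⟩
  obtain ⟨hW', hiso'⟩ := hWF (c / 2) r hrW hrr
  have h1 := hpair _ hW' hiso'
  have h2 := h1.conj hσ'
  have hconj : (σ'.toLinearMap ∘ₗ T.pair p ((c / 2) • r)) ∘ₗ σ'.symm.toLinearMap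
      = T.pair (p + r) ((c / 2) • r) := by
    rw [← hσp]
    ext x
    have e1 : ∀ a b, T.f (σ'.symm a) b = T.f a (σ' b) := fun a b => by
      rw [← hX.preserves σ' hσ' (σ'.symm a) b, σ'.apply_symm_apply]
    simp [e1, hσr, map_smul]
  have hfr : T.f p r = 0 ∧ T.f r p = 0 :=
    ⟨T.f_eq_zero_of_h hpr, T.f_eq_zero_of_h hrp⟩
  rw [← LinearMap.comp_assoc, hconj] at h2
  have h3 := h2.add (h1.neg (by ext x; simp [hfr.1, hfr.2, T.f_alt]))
    (by ext x; simp [hfr.1, hfr.2, T.f_alt])
  convert h3 using 1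
  ext x
  simp
  match_scalars <;> field_simp <;> ring

end HermTower

end CfsgLib.ExtField
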