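import Cfsg.Agent.ExtField.HermExpand

/-!
# Unitary groups in symplectic groups: the overgroups, uniformly from dimension three on

An element of an overgroup either preserves the isotropic vectors, and then normalises the field, or it
yields a transvection.
-/

set_option autoImplicit false
set_option linter.unusedSectionVars false

namespace CfsgLib.ExtField

open Module

variable {F K V : Type*} [Field F] [Field K] [Algebra F K] [AddCommGroup V] [Module F V]
  [Module K V] [IsScalarTower F K V]

namespace HermTower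

variable (T : HermTower F K V) {X : Subgroup (V ≃ₗ[F] V)}

theorem exists_a_sq : ∃ d : F, d ≠ 0 ∧ T.a * T.a = algebraMap F K d := by
  obtain ⟨d, hd⟩ := T.fixed (T.a * T.a) (by rw [map_mul, T.bar_a]; ring)
  refine ⟨d, fun h => T.a_ne ?_, hd⟩
  rw [h, map_zero] at hd
  exact mul_self_eq_zero.mp hd

include T in
theorem two_ne_F : (2 : F) ≠ 0 := fun h =>
  T.two_ne (by rw [← map_ofNat (algebraMap F K) 2, h, map_zero])

theorem f_smul_a (x y : V) : T.f (T.a • x) y = -T.f x (T.a • y) := by
  apply (algebraMap F K).injective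
  rw [map_neg, T.tr, T.tr, T.h_smul, T.h_smul_right, map_mul, map_mul, T.bar_a, map_neg, T.bar_a]
  ring

/-- A quasi-reflection in an anisotropic vector. -/
theorem Between.reflection (hX : T.Between X) {r : V} (hr : T.h r r ≠ 0) {l : K}
    (hl : l * T.bar l = 1) :
    ∃ g ∈ X, (∀ (k : K) x, g (k • x) = k • g x) ∧
      ∀ x, g x = x + ((l - 1) * T.h x r / T.h r r) • r := by
  let mk : K → V →ₗ[K] V := fun p => LinearMap.id + ((p / T.h r r) • T.hLeft r).smulRight r
  have hmk : ∀ p x, mk p x = x + ((p / T.h r r) * T.h x r) • r := fun p x => rfl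
  have hcomp : ∀ p q, (p + 1) * (q + 1) = 1 → ∀ x, mk p (mk q x) = x := by
    intro p q hpq x
    rw [hmk q, hmk p, T.h_add, T.h_smul]
    match_scalars
    · ring
    · field_simp
      linear_combination T.h x r * hpq
  let g : V ≃ₗ[K] V := LinearEquiv.ofLinear (mk (l - 1)) (mk (T.bar l - 1))
    (LinearMap.ext fun x => hcomp _ _ (by linear_combination hl) x)
    (LinearMap.ext fun x => hcomp _ _ (by linear_combination hl) x)
  refine ⟨g.restrictScalars F, hX.contains g fun x y => ?_, fun k x => map_smul g k x, fun x => ?_⟩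
  · show T.h (mk _ x) (mk _ y) = T.h x y
    simp only [hmk, T.h_add, T.h_add_right, T.h_smul, T.h_smul_right, map_mul, map_sub, map_one,
      map_div₀, T.bar_h_self]
    rw [T.h_skew y r]
    field_simp
    linear_combination -(T.h x r * T.bar (T.h y r)) * hl
  · show mk _ x = _
    rw [hmk, div_mul_eq_mul_div]

theorem conj_pair {g : V ≃ₗ[F] V} (hg : T.Preserves g) (p q : V) :
    g.toLinearMap ∘ₗ T.pair p q ∘ₗ g.symm.toLinearMap = T.pair (g p) (g q) := by
  ext x
  have e : ∀ w, T.f (g.symm x) w = T.f x (g w) := fun w => by rw [← hg, g.apply_symm_apply]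
  simp [e]

/-- The root elements written over `F`. -/
theorem Between.root_eq (hX : T.Between X) {d : F} (hd : T.a * T.a = algebraMap F K d) (hd0 : d ≠ 0)
    {v : V} (hv : T.h v v = 0) (c : F) :
    MemOne X (c • (T.sq v - d⁻¹ • T.sq (T.a • v))) := by
  obtain ⟨k, hk⟩ := T.norm_surj (2 * c)
  have hkv : T.h (k • v) (k • v) = 0 := by rw [T.h_smul, T.h_smul_right, hv, mul_zero, mul_zero]
  convert hX.root T hkv using 1
  ext x
  show c • (T.f x v • v - d⁻¹ • (T.f x (T.a • v) • (T.a • v))) = T.h x (k • v) • (k • v)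
  rw [smul_sub, ← algebraMap_smul K (T.f x v), ← algebraMap_smul K (T.f x (T.a • v)),
    ← algebraMap_smul K d⁻¹, ← algebraMap_smul K c, ← algebraMap_smul K c, smul_smul, smul_smul,
    smul_smul, smul_smul, smul_smul, ← sub_smul, T.h_smul_right]
  congr 1
  rw [T.tr, T.tr, T.h_smul_right, map_mul, T.bar_bar, T.bar_a, map_inv₀]
  have hd' : algebraMap F K d ≠ 0 := (map_ne_zero _).mpr hd0
  rw [map_mul, map_ofNat] at hk
  field_simp
  linear_combination (-(algebraMap F K c * (T.bar (T.h x v) - T.h x v))) * hd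
    + (-(T.h x v) * algebraMap F K d) * hk

/-- An orthogonal pair with one anisotropic member gives a centre. -/
theorem centre_of_pair (hX : T.Between X) {x y : V} (hx : T.h x x ≠ 0) (hxy : T.h x y = 0)
    (hpair : ∀ c : F, MemOne X (c • T.pair x y)) : T.Centre X y := by
  have hba := T.bar_a
  have h1 : (1 - T.a) ≠ 0 := fun h => by
    rw [sub_eq_zero] at h
    have e := hba
    rw [← h, map_one] at e
    exact T.two_ne (by linear_combination e)
  have h1' : (1 + T.a) ≠ 0 := fun h => by
    have h' : T.a = -1 := by linear_combination h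
    have e := hba
    rw [h', map_neg, map_one] at e
    exact T.two_ne (by linear_combination -e)
  set l := (1 + T.a) / (1 - T.a) with hl
  have hbl : T.bar l = (1 - T.a) / (1 + T.a) := by
    rw [hl, map_div₀, map_add, map_sub, map_one, hba, sub_neg_eq_add, ← sub_eq_add_neg]
  have hll : l * T.bar l = 1 := by rw [hbl, hl]; field_simp
  have hlne : l - T.bar l ≠ 0 := by
    intro h
    rw [hbl, hl] at h
    field_simp at h
    have : (2 : K) * (2 * T.a) = 0 := by linear_combination h
    simp [T.two_ne, T.a_ne] at this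
  obtain ⟨g, hg, -, hgx⟩ := hX.reflection T hx hll
  have hgxx : g x = l • x := by
    rw [hgx, mul_div_assoc, div_self hx, mul_one, sub_smul, one_smul, add_sub_cancel]
  have hyx : T.h y x = 0 := by rw [T.h_skew x y, hxy, map_zero, neg_zero]
  have hgy : g y = y := by rw [hgx, hyx, mul_zero, zero_div, zero_smul, add_zero]
  obtain ⟨x', hx'⟩ : ∃ w, w = l • x := ⟨_, rfl⟩
  have hfxy : T.f x y = 0 := T.f_eq_zero_of_h hxy
  have hfyx : T.f y x = 0 := T.f_eq_zero_of_h hyx
  have hfx'y : T.f x' y = 0 := T.f_eq_zero_of_h (by rw [hx', T.h_smul, hxy, mul_zero])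
  have hfyx' : T.f y x' = 0 := by rw [T.f_swap x' y, hfx'y, neg_zero]
  have hδ : T.f x' x ≠ 0 := by
    intro h
    have e := congrArg (algebraMap F K) h
    rw [T.tr, hx', T.h_smul, map_mul, T.bar_h_self, map_zero] at e
    have : (l - T.bar l) * T.h x x = 0 := by linear_combination e
    simp [hlne, hx] at this
  have hM : MemOne X (T.pair x' y) := by
    have := (hpair 1).conj hg
    rwa [one_smul, T.conj_pair (hX.preserves g hg), hgxx, hgy, ← hx'] at this
  intro t
  set c := t / (2 * T.f x' x) with hc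
  have hxx' : T.f x x' = -T.f x' x := T.f_swap x' x
  have key := (hpair c).commutator hM
    (by ext z; simp [hfxy, hfyx, T.f_alt]) (by ext z; simp [hfx'y, hfyx', T.f_alt])
    (by ext z; simp [hfxy, hfyx, hfx'y, hfyx', T.f_alt])
    (by ext z; simp [hfxy, hfyx, hfx'y, hfyx', T.f_alt])
  convert key using 1
  ext z
  simp only [LinearMap.sub_apply, LinearMap.comp_apply, LinearMap.smul_apply, pair_apply, sq_apply,
    map_add, map_smul, LinearMap.add_apply, smul_eq_mul, hfxy, hfyx, hfx'y, hfyx', T.f_alt, hxx',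
    mul_zero, add_zero, zero_add]
  rw [hc]
  have h2 := T.two_ne_F
  match_scalars <;> field_simp <;> ring

variable [FiniteDimensional K V]

/-- An anisotropic vector orthogonal to two orthogonal anisotropic ones. -/
theorem exists_anisotropic_perp (hm : 3 ≤ Module.finrank K V) {u z : V} (hu : T.h u u ≠ 0)
    (hz : T.h z z ≠ 0) (huz : T.h u z = 0) :
    ∃ e, T.h e e ≠ 0 ∧ T.h e u = 0 ∧ T.h e z = 0 := by
  have hmem : ∀ e ∈ T.annih ![u, z], T.h e u = 0 ∧ T.h e z = 0 := fun e he =>
    ⟨by simpa using (T.mem_annih.mp he) 0, by simpa using (T.mem_annih.mp he) 1⟩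
  by_contra hc
  push Not at hc
  have hiso : ∀ e ∈ T.annih ![u, z], T.h e e = 0 := fun e he => by
    by_contra h; exact hc e h (hmem e he).1 (hmem e he).2
  obtain ⟨e, he, he0⟩ := (T.annih ![u, z]).exists_mem_ne_zero_of_ne_bot (fun h => by
    have := T.finrank_annih ![u, z]
    rw [h, finrank_bot] at this
    omega)
  obtain ⟨y, hy⟩ := T.exists_h_ne he0
  set y' := y - (T.h y u / T.h u u) • u - (T.h y z / T.h z z) • z with hy'
  have hzu : T.h z u = 0 := by rw [T.h_skew u z, huz, map_zero, neg_zero]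
  have hy'mem : y' ∈ T.annih ![u, z] := T.mem_annih.mpr fun i => by
    fin_cases i
    · show T.h y' u = 0
      rw [hy', T.h_sub_left, T.h_sub_left, T.h_smul, T.h_smul, hzu]; field_simp; ring
    · show T.h y' z = 0
      rw [hy', T.h_sub_left, T.h_sub_left, T.h_smul, T.h_smul, huz]; field_simp; ring
  have h := T.h_eq_zero_of_isotropic hiso he hy'mem
  rw [hy', T.h_sub_right, T.h_sub_right, T.h_smul_right, T.h_smul_right, (hmem e he).1, (hmem e he).2,
    mul_zero, mul_zero, sub_zero, sub_zero] at h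
  exact hy h

variable [FiniteDimensional F K] [FiniteDimensional F V]

/-- An element moving an isotropic vector to an anisotropic one gives a centre. -/
theorem centre_of_iso_to_aniso (hX : T.Between X) (hK : Module.finrank F K = 2)
    (hm : 3 ≤ Module.finrank K V) {g : V ≃ₗ[F] V} (hg : g ∈ X) {v : V} (hv : T.h v v = 0)
    (hgv : T.h (g v) (g v) ≠ 0) : ∃ p, p ≠ 0 ∧ T.Centre X p := by
  obtain ⟨d, hd0, hd⟩ := T.exists_a_sq
  have h2 := T.two_ne_F
  have hpres := hX.preserves g hg
  set u := g v with hu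
  set b := g (T.a • v) with hb
  have hv0 : v ≠ 0 := fun h => hgv (by rw [hu, h, map_zero, T.h_zero_left])
  have hN : ∀ c : F, MemOne X (c • (T.sq u - d⁻¹ • T.sq b)) := fun c => by
    have h := (hX.root_eq T hd hd0 hv c).conj hg
    convert h using 1
    have e1 := T.conj_sq hpres c v
    have e2 := T.conj_sq hpres (c * d⁻¹) (T.a • v)
    rw [smul_sub, smul_sub, smul_smul, smul_smul, LinearMap.sub_comp, LinearMap.comp_sub, e1, e2]
  have hub : T.f u b = 0 := by
    rw [hu, hb, hpres]; exact T.f_eq_zero_of_h (by rw [T.h_smul_right, hv, mul_zero])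
  -- `b` has an `F`-multiple of `u` as its component along `u`
  obtain ⟨β, hβ⟩ := T.fixed (T.h b u / T.h u u) (by
    have h := congrArg (algebraMap F K) hub
    rw [T.tr, T.h_skew b u, map_zero, map_neg, T.bar_bar] at h
    rw [map_div₀, T.bar_h_self]
    field_simp
    linear_combination h)
  obtain ⟨z, hz⟩ : ∃ w, w = b - β • u := ⟨_, rfl⟩
  have hzu : T.h z u = 0 := by
    rw [hz, T.h_sub_left, ← algebraMap_smul K β u, T.h_smul, ← hβ, div_mul_cancel₀ _ hgv, sub_self]
  have huz : T.h u z = 0 := by rw [T.h_skew z u, hzu, map_zero, neg_zero]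
  have hz0 : z ≠ 0 := by
    intro h
    rw [hz, hu, hb, sub_eq_zero, ← map_smul] at h
    have h' := g.injective h
    rw [← algebraMap_smul K β v] at h'
    have h'' : T.a = algebraMap F K β := by
      by_contra hne
      exact hv0 ((smul_eq_zero.mp (show (T.a - algebraMap F K β) • v = 0 by
        rw [sub_smul, h', sub_self])).resolve_left (sub_ne_zero.mpr hne))
    have e := T.bar_a
    rw [h'', AlgEquiv.commutes, ← h''] at e
    have : (2 : K) * T.a = 0 := by linear_combination e
    simp [T.two_ne, T.a_ne] at this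
  have hfuz : T.f u z = 0 := T.f_eq_zero_of_h huz
  have hfzu : T.f z u = 0 := T.f_eq_zero_of_h hzu
  have hm1 : (-1 : K) * T.bar (-1) = 1 := by rw [map_neg, map_one]; ring
  by_cases hβ0 : β = 0
  swap
  · -- the reflection in `u` leaves `pair u z`
    obtain ⟨s, hs, -, hsx⟩ := hX.reflection T hgv hm1
    have hsu : s u = -u := by
      rw [hsx, mul_div_assoc, div_self hgv, mul_one, sub_smul, neg_one_smul, one_smul]; abel
    have hsz : s z = z := by rw [hsx, hzu, mul_zero, zero_div, zero_smul, add_zero]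
    have hsb : s b = z - β • u := by
      rw [show b = z + β • u by rw [hz, sub_add_cancel], map_add, map_smul, hsu, hsz, smul_neg,
        ← sub_eq_add_neg]
    refine ⟨z, hz0, T.centre_of_pair hX hgv huz fun c => ?_⟩
    set c' := c * (-d / (2 * β)) with hc'
    have h := (hN c').conj hs
    have hsp := hX.preserves s hs
    have e1 := T.conj_sq hsp c' u
    have e2 := T.conj_sq hsp (c' * d⁻¹) b
    rw [smul_sub, smul_smul, LinearMap.sub_comp, LinearMap.comp_sub, e1, e2, hsu, hsb] at h
    have hbz : b = z + β • u := by rw [hz, sub_add_cancel]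
    have key := (hN c').add (h.neg (by
      ext x
      simp [hfuz, hfzu, T.f_alt])) (by
      ext x
      simp [hbz, hfuz, hfzu, T.f_alt])
    convert key using 1
    ext x
    simp only [hbz, LinearMap.add_apply, LinearMap.neg_apply, LinearMap.sub_apply,
      LinearMap.smul_apply, sq_apply, pair_apply, map_add, map_sub, map_neg, map_smul, smul_eq_mul]
    rw [hc']
    match_scalars <;> field_simp <;> ring
  have hbz : b = z := by rw [hz, hβ0, zero_smul, sub_zero]
  rw [hbz] at hN
  by_cases hzz : T.h z z = 0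
  · -- tori on the isotropic line through `z`
    obtain ⟨z', hz', hzz'⟩ := T.exists_isotropic_ne hK (by omega) hz0
    obtain ⟨k, hk⟩ := T.exists_h_ne hz0
    refine ⟨T.a • z, smul_ne_zero T.a_ne hz0, fun c => ?_⟩
    have hfza : T.f z (T.a • z) = 0 := T.f_eq_zero_of_h (by rw [T.h_smul_right, hzz, mul_zero])
    have hfaz : T.f (T.a • z) z = 0 := by rw [T.f_swap, hfza, neg_zero]
    set c' := c * (-d / 2) with hc'
    -- `z` moved to `(1 ± a) z` with `u` fixed
    have hmove : ∀ e : K, e ≠ 0 → MemOne X ((c' * d⁻¹) • (T.sq z - T.sq (e • z))) := by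
      intro e he
      obtain ⟨w, hw, hzw, huw⟩ : ∃ w, T.h w w = 0 ∧ T.h z w ≠ 0 ∧ T.h u w = 0 := by
        set y := z' - (T.h z' u / T.h u u) • u with hy
        have hzy : T.h z y ≠ 0 := by
          rw [hy, T.h_sub_right, T.h_smul_right, hzu, mul_zero, sub_zero]; exact hzz'
        obtain ⟨s, hs1, hs2⟩ := T.isotropic_shift hzz hzy
        refine ⟨_, hs1, by rw [hs2]; exact hzy, ?_⟩
        rw [T.h_add_right, T.h_smul_right, huz, mul_zero, add_zero, T.h_skew y u, hy, T.h_sub_left,
          T.h_smul, div_mul_cancel₀ _ hgv, sub_self, map_zero, neg_zero]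
      obtain ⟨t, ht, htk, htz, htu⟩ :
          ∃ t ∈ X, (∀ (k : K) x, t (k • x) = k • t x) ∧ t z = e • z ∧ t u = u := by
        obtain ⟨t, ht, hlin, htz, hfix⟩ := hX.torus_fix T hzz hw hzw he
        exact ⟨t, ht, hlin, htz, hfix u huz huw⟩
      have h := (hN c').conj ht
      have htp := hX.preserves t ht
      rw [smul_sub, smul_smul, LinearMap.sub_comp, LinearMap.comp_sub, T.conj_sq htp c' u,
        T.conj_sq htp (c' * d⁻¹) z, htz, htu] at h
      have hfze : T.f z (e • z) = 0 := T.f_eq_zero_of_h (by rw [T.h_smul_right, hzz, mul_zero])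
      have hfue : T.f u (e • z) = 0 := T.f_eq_zero_of_h (by rw [T.h_smul_right, huz, mul_zero])
      have hfez : T.f (e • z) z = 0 := by rw [T.f_swap, hfze, neg_zero]
      have hfeu : T.f (e • z) u = 0 := by rw [T.f_swap, hfue, neg_zero]
      have key := h.add ((hN c').neg (by ext x; simp [hfuz, hfzu, T.f_alt]))
        (by ext x; simp [hfuz, hfzu, hfez, hfeu, hfze, hfue, T.f_alt])
      convert key using 1
      ext x
      simp only [LinearMap.add_apply, LinearMap.neg_apply, LinearMap.sub_apply, LinearMap.smul_apply,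
        sq_apply]
      module
    have h1a : (1 + T.a : K) ≠ 0 := fun h => by
      have e := T.bar_a
      rw [show T.a = -1 by linear_combination h, map_neg, map_one] at e
      exact T.two_ne (by linear_combination -e)
    have h1a' : (1 - T.a : K) ≠ 0 := fun h => by
      have e := T.bar_a
      rw [show T.a = 1 by linear_combination -h, map_one] at e
      exact T.two_ne (by linear_combination e)
    have key := (hmove _ h1a).add (hmove _ h1a')
      (by ext x; simp [sub_smul, add_smul, hfza, hfaz, T.f_alt])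
    convert key using 1
    ext x
    simp only [LinearMap.add_apply, LinearMap.sub_apply, LinearMap.smul_apply, sq_apply, add_smul,
      sub_smul, one_smul, map_add, map_sub, smul_eq_mul]
    rw [hc']
    generalize T.a • z = az
    match_scalars <;> field_simp <;> ring
  -- an orthogonal vector of the same value
  obtain ⟨e, hee, heu, hez⟩ := T.exists_anisotropic_perp hm hgv hzz huz
  obtain ⟨q, hq⟩ := T.fixed (T.h z z / T.h e e) (by
    rw [map_div₀, T.bar_h_self, T.bar_h_self, neg_div_neg_eq])
  obtain ⟨k, hk⟩ := T.norm_surj q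
  rw [← hq, eq_div_iff hee] at hk
  obtain ⟨z', hz'⟩ : ∃ w, w = k • e := ⟨_, rfl⟩
  have hz'z' : T.h z' z' = T.h z z := by rw [hz', T.h_smul, T.h_smul_right, ← mul_assoc, hk]
  have hz'z : T.h z' z = 0 := by rw [hz', T.h_smul, hez, mul_zero]
  have hzz' : T.h z z' = 0 := by rw [T.h_skew z' z, hz'z, map_zero, neg_zero]
  have huz' : T.h u z' = 0 := by
    rw [hz', T.h_smul_right, T.h_skew e u, heu, map_zero, neg_zero, mul_zero]
  have h2K := T.two_ne
  obtain ⟨r, hr⟩ : ∃ w, w = z - z' := ⟨_, rfl⟩
  have hrr : T.h r r = 2 * T.h z z := by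
    rw [hr, T.h_sub_left, T.h_sub_right, T.h_sub_right, hz'z', hz'z, hzz']; ring
  have hrr0 : T.h r r ≠ 0 := by rw [hrr]; exact mul_ne_zero h2K hzz
  obtain ⟨s, hs, -, hsx⟩ := hX.reflection T hrr0 hm1
  have hsz : s z = z' := by
    rw [hsx, hr, T.h_sub_right, hzz', sub_zero, ← hr, hrr]
    rw [show (-1 - 1) * T.h z z / (2 * T.h z z) = (-1 : K) by field_simp; ring, neg_one_smul, hr]
    abel
  have hsu : s u = u := by
    rw [hsx, hr, T.h_sub_right, huz, huz', sub_zero, mul_zero, zero_div, zero_smul, add_zero]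
  refine ⟨z - z', fun h => hrr0 (by rw [hr, h, T.h_zero_left]), T.centre_of_pair hX (x := z + z') ?_ ?_
    fun c => ?_⟩
  · rw [T.h_add, T.h_add_right, T.h_add_right, hz'z', hz'z, hzz']
    rw [add_zero, zero_add, ← two_mul]
    exact mul_ne_zero h2K hzz
  · rw [T.h_add, T.h_sub_right, T.h_sub_right, hz'z', hz'z, hzz']; ring
  set c' := c * (-2 * d) with hc'
  have h := (hN c').conj hs
  have hsp := hX.preserves s hs
  rw [smul_sub, smul_smul, LinearMap.sub_comp, LinearMap.comp_sub, T.conj_sq hsp c' u,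
    T.conj_sq hsp (c' * d⁻¹) z, hsz, hsu] at h
  have hfzz' : T.f z z' = 0 := T.f_eq_zero_of_h hzz'
  have hfz'z : T.f z' z = 0 := T.f_eq_zero_of_h hz'z
  have hfuz' : T.f u z' = 0 := T.f_eq_zero_of_h huz'
  have hfz'u : T.f z' u = 0 := by rw [T.f_swap, hfuz', neg_zero]
  have key := (hN c').add (h.neg (by ext x; simp [hfuz', hfz'u, T.f_alt]))
    (by ext x; simp [hfuz, hfzu, hfzz', hfz'z, hfuz', hfz'u, T.f_alt])
  convert key using 1
  ext x
  simp only [LinearMap.add_apply, LinearMap.neg_apply, LinearMap.sub_apply, LinearMap.smul_apply,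
    sq_apply, pair_apply, map_add, map_sub, smul_eq_mul]
  rw [hc']
  match_scalars <;> field_simp <;> ring

/-- An element preserving the isotropic vectors is semilinear. -/
theorem normalises_of_isotropic (hK : Module.finrank F K = 2) (hm : 2 ≤ Module.finrank K V)
    {g : V ≃ₗ[F] V} (hg : T.Preserves g) (hiso : ∀ v, T.h v v = 0 → T.h (g v) (g v) = 0) (k : K) :
    ∃ k' : K, ∀ v, g (k • g.symm v) = k' • v := by
  obtain ⟨d, hd0, hd⟩ := T.exists_a_sq
  have h2 := T.two_ne_F
  let B : V → V → F := fun x y => T.f x (T.a • y)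
  let B' : V → V → F := fun x y => T.f (g x) (T.a • g y)
  have hBs : ∀ x y, B x y = B y x := fun x y => by
    show T.f x (T.a • y) = T.f y (T.a • x)
    rw [T.f_swap (T.a • x) y, T.f_smul_a, neg_neg]
  have hB's : ∀ x y, B' x y = B' y x := fun x y => hBs (g x) (g y)
  have hQ : ∀ x, T.h x x = 0 → B x x = 0 := fun x hx =>
    T.f_eq_zero_of_h (by rw [T.h_smul_right, hx, mul_zero])
  have hQ' : ∀ x, T.h x x = 0 → B' x x = 0 := fun x hx => hQ _ (hiso x hx)
  have hBh : ∀ x y, algebraMap F K (B x y) = T.a * (T.bar (T.h x y) - T.h x y) := fun x y => by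
    show algebraMap F K (T.f x (T.a • y)) = _
    rw [T.tr, T.h_smul_right, map_mul, T.bar_bar, T.bar_a]; ring
  have hB0 : ∀ x y, B x y = 0 ↔ T.bar (T.h x y) = T.h x y := fun x y => by
    rw [← (map_eq_zero_iff _ (algebraMap F K).injective), hBh, mul_eq_zero, or_iff_right T.a_ne,
      sub_eq_zero]
  -- orthogonal isotropic pairs
  have horth : ∀ v w, T.h v v = 0 → T.h w w = 0 → B v w = 0 → B' v w = 0 := by
    intro v w hv hw hvw
    have hsum : T.h (v + w) (v + w) = 0 := by
      rw [T.h_add, T.h_add_right, T.h_add_right, hv, hw, T.h_skew v w, (hB0 v w).mp hvw]; ring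
    have h := hQ' _ hsum
    simp only [B', map_add, smul_add, LinearMap.add_apply] at h
    have h1 := hQ' v hv
    have h2' := hQ' w hw
    have h3 := hB's w v
    simp only [B'] at h1 h2' h3 ⊢
    rw [h1, h2', h3, zero_add, add_zero, ← two_mul] at h
    exact (mul_eq_zero.mp h).resolve_left h2
  -- the perp of an isotropic vector is spanned by isotropic ones
  have hker : ∀ v, T.h v v = 0 → v ≠ 0 → ∀ y, B v y = 0 → B' v y = 0 := by
    intro v hv hv0 y hy
    obtain ⟨w, hw, hvw⟩ := T.exists_isotropic_ne hK hm hv0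
    obtain ⟨v', hv'⟩ : ∃ p, p = T.bar (T.h v w)⁻¹ • w := ⟨_, rfl⟩
    have hvv' : T.h v v' = 1 := by rw [hv', T.h_smul_right, T.bar_bar, inv_mul_cancel₀ hvw]
    have hv'v' : T.h v' v' = 0 := by rw [hv', T.h_smul, T.h_smul_right, hw, mul_zero, mul_zero]
    have hv'v : T.h v' v = -1 := by rw [T.h_skew v v', hvv', map_one]
    obtain ⟨s, hs⟩ := T.fixed (T.h v y) ((hB0 v y).mp hy)
    set μ := T.h (y - s • v') v' with hμ
    set e := y - s • v' - μ • v with he
    have hye : y = e + (s • v' + μ • v) := by rw [he]; abel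
    have hve : T.h v e = 0 := by
      rw [he, T.h_sub_right, T.h_sub_right, ← algebraMap_smul K s v', T.h_smul_right, T.h_smul_right,
        AlgEquiv.commutes, hvv', hv, hs]
      ring
    have hv'e : T.h v' e = 0 := by
      rw [T.h_skew e v', he, T.h_sub_left, T.h_smul, hvv', mul_one, ← hμ, sub_self, map_zero, neg_zero]
    have hev : T.h e v = 0 := by rw [T.h_skew v e, hve, map_zero, neg_zero]
    have hev' : T.h e v' = 0 := by rw [T.h_skew v' e, hv'e, map_zero, neg_zero]
    -- `v' + e + ν v` is isotropic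
    set ν := -(T.h e e) / 2 with hν
    have h2K := T.two_ne
    have hz : T.h (v' + e + ν • v) (v' + e + ν • v) = 0 := by
      simp only [T.h_add, T.h_add_right, T.h_smul, T.h_smul_right, hv'v', hv'e, hev', hev, hve, hv,
        hvv', hv'v, mul_zero, add_zero, zero_add, mul_neg, mul_one]
      rw [hν, map_div₀, map_neg, T.bar_h_self, T.bar_two, neg_neg]
      field_simp
      ring
    have hBz : B v (v' + e + ν • v) = 0 := by
      rw [hB0, T.h_add_right, T.h_add_right, T.h_smul_right, hvv', hve, hv, mul_zero, add_zero,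
        add_zero, map_one]
    have hBv' : B v v' = 0 := by rw [hB0, hvv', map_one]
    have hνv : T.h (ν • v) (ν • v) = 0 := by rw [T.h_smul, T.h_smul_right, hv, mul_zero, mul_zero]
    have hμv : T.h (μ • v) (μ • v) = 0 := by rw [T.h_smul, T.h_smul_right, hv, mul_zero, mul_zero]
    have h1 := horth v _ hv hz hBz
    have h2' := horth v _ hv hv'v' hBv'
    have h3 := horth v _ hv hνv (by rw [hB0, T.h_smul_right, hv, mul_zero, map_zero])
    have h4 := horth v _ hv hμv (by rw [hB0, T.h_smul_right, hv, mul_zero, map_zero])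
    simp only [B', map_add, smul_add] at h1 h2' h3 h4 ⊢
    rw [h2', h3, zero_add, add_zero] at h1
    rw [hye, map_add, map_add, LinearEquiv.map_smul g s v', smul_add, smul_add, map_add, map_add,
      smul_comm T.a s, (T.f (g v)).map_smul, h1, h2', h4, smul_zero, add_zero, add_zero]
  have hnd : ∀ v, v ≠ 0 → ∃ y, B v y ≠ 0 := by
    intro v hv
    obtain ⟨y, hy⟩ := T.nondeg v hv
    refine ⟨T.a⁻¹ • y, ?_⟩
    show T.f v (T.a • T.a⁻¹ • y) ≠ 0
    rwa [smul_smul, mul_inv_cancel₀ T.a_ne, one_smul]
  have hprop : ∀ v, T.h v v = 0 → ∃ c : F, ∀ y, B' v y = c * B v y := by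
    intro v hv
    rcases eq_or_ne v 0 with rfl | hv0
    · exact ⟨0, fun y => by simp [B', B]⟩
    obtain ⟨y₀, hy₀⟩ := hnd v hv0
    refine ⟨B' v y₀ / B v y₀, fun y => ?_⟩
    have h := hker v hv hv0 (y - (B v y / B v y₀) • y₀) (by
      show T.f v (T.a • (y - (B v y / B v y₀) • y₀)) = 0
      rw [smul_sub, smul_comm T.a, map_sub, (T.f v).map_smul, smul_eq_mul]
      show B v y - B v y / B v y₀ * B v y₀ = 0
      rw [div_mul_cancel₀ _ hy₀, sub_self])
    simp only [B', map_sub, map_smul, smul_sub, smul_comm T.a, smul_eq_mul] at h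
    show B' v y = _
    have h' : B' v y - B v y / B v y₀ * B' v y₀ = 0 := h
    field_simp at h' ⊢
    linear_combination h'
  choose cf hcf using hprop
  -- a common companion
  have hlink : ∀ v (hv : T.h v v = 0) w (hw : T.h w w = 0), v ≠ 0 → w ≠ 0 → cf v hv = cf w hw := by
    intro v hv w hw hv0 hw0
    have hadj : ∀ p (hp : T.h p p = 0) q (hq : T.h q q = 0), B p q ≠ 0 → cf p hp = cf q hq := by
      intro p hp q hq hpq
      have h1 := hcf p hp q
      rw [hB's, hcf q hq p, hBs q p] at h1
      exact (mul_right_cancel₀ hpq h1).symm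
    obtain ⟨x, hx, hvx, hwx⟩ := T.exists_isotropic_ne_two hK hm hv0 hw0
    -- some multiple of `x` pairs with both
    have htwo : ∀ p : V, T.h p x ≠ 0 → ∀ i j : K, T.bar i * j ≠ i * T.bar j →
        B p (i • x) = 0 → B p (j • x) ≠ 0 := by
      intro p hp i j hij hi hj
      rw [hB0, T.h_smul_right, map_mul, T.bar_bar] at hi hj
      refine hij (mul_left_cancel₀ ((map_ne_zero T.bar).mpr hp) ?_)
      linear_combination (-T.bar j) * hi + T.bar i * hj
    have ne01 : T.bar (1 : K) * T.a ≠ 1 * T.bar T.a := by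
      rw [map_one, T.bar_a]
      intro h
      have : (2 : K) * T.a = 0 := by linear_combination h
      simp [T.two_ne, T.a_ne] at this
    have ne02 : T.bar (1 : K) * (1 + T.a) ≠ 1 * T.bar (1 + T.a) := by
      rw [map_add, map_one, T.bar_a]
      intro h
      have : (2 : K) * T.a = 0 := by linear_combination h
      simp [T.two_ne, T.a_ne] at this
    have ne12 : T.bar T.a * (1 + T.a) ≠ T.a * T.bar (1 + T.a) := by
      rw [map_add, map_one, T.bar_a]
      intro h
      have : (2 : K) * T.a = 0 := by linear_combination -h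
      simp [T.two_ne, T.a_ne] at this
    obtain ⟨i, h1, h2'⟩ : ∃ i : K, B v (i • x) ≠ 0 ∧ B w (i • x) ≠ 0 := by
      by_contra hc
      push Not at hc
      by_cases e0 : B v ((1 : K) • x) = 0
      · have e1 := htwo v hvx _ _ ne01 e0
        have e2 := htwo v hvx _ _ ne02 e0
        exact htwo w hwx _ _ ne12 (hc _ e1) (hc _ e2)
      · have f0 := hc _ e0
        have f1 := htwo w hwx _ _ ne01 f0
        have f2 := htwo w hwx _ _ ne02 f0
        by_cases e1 : B v (T.a • x) = 0
        · exact f2 (hc _ (htwo v hvx _ _ ne12 e1))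
        · exact f1 (hc _ e1)
    have hix : T.h (i • x) (i • x) = 0 := by rw [T.h_smul, T.h_smul_right, hx, mul_zero, mul_zero]
    rw [hadj v hv _ hix h1, hadj w hw _ hix h2']
  obtain ⟨v₀, hv₀0, hv₀⟩ := T.exists_isotropic_vector hm
  set c := cf v₀ hv₀ with hc
  have hcall : ∀ v, T.h v v = 0 → ∀ y, B' v y = c * B v y := fun v hv y => by
    rcases eq_or_ne v 0 with rfl | hv0
    · simp [B', B]
    · rw [hcf v hv y, hlink v hv v₀ hv₀ hv0 hv₀0]
  have hall : ∀ x y, B' x y = c * B x y := by
    intro x y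
    rcases eq_or_ne x 0 with rfl | hx
    · simp [B', B]
    obtain ⟨u, hu, hxu⟩ := T.exists_isotropic_ne hK hm hx
    have hux : T.h u x ≠ 0 := by
      rw [T.h_skew x u]; exact neg_ne_zero.mpr ((map_ne_zero T.bar).mpr hxu)
    obtain ⟨e, he, -⟩ := T.isotropic_shift hu hux
    have heu : T.h (e • u) (e • u) = 0 := by rw [T.h_smul, T.h_smul_right, hu, mul_zero, mul_zero]
    have h1 := hcall _ he y
    have h2' := hcall _ heu y
    simp only [B', B, map_add, LinearMap.add_apply] at h1 h2' ⊢
    linear_combination h1 - h2'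
  -- `g` carries `a` to a multiple of it
  have hcomm : ∀ y, T.a • g y = c • g (T.a • y) := by
    intro y
    by_contra hne
    obtain ⟨z, hz⟩ := T.nondeg _ (sub_ne_zero.mpr hne)
    apply hz
    obtain ⟨x, rfl⟩ := g.surjective z
    have h := hall x y
    simp only [B', B] at h
    rw [T.f_swap (g x), neg_eq_zero, map_sub, (T.f (g x)).map_smul, hg, h, smul_eq_mul, sub_self]
  have hc2 : c * c = 1 := by
    obtain ⟨y, hy⟩ : ∃ y : V, y ≠ 0 := ⟨v₀, hv₀0⟩
    have h1 : T.a • g (T.a • y) = c • (d • g y) := by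
      rw [hcomm, smul_smul T.a T.a, hd, algebraMap_smul, LinearEquiv.map_smul]
    have h' : d • g y = (c * (c * d)) • g y := by
      rw [← smul_smul, ← smul_smul, ← h1, ← algebraMap_smul K d (g y), ← hd, mul_smul, hcomm y,
        smul_comm T.a c]
    have hgy : g y ≠ 0 := by simpa using hy
    by_contra hne
    apply hgy
    have h'' : (d - c * (c * d)) • g y = 0 := by rw [sub_smul, ← h', sub_self]
    refine (smul_eq_zero.mp h'').resolve_left fun h0 => hne ?_
    exact mul_left_cancel₀ hd0 (by linear_combination -h0)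
  obtain ⟨p, hp⟩ := T.fixed ((k + T.bar k) / 2) (by
    rw [map_div₀, map_add, T.bar_bar, T.bar_two, add_comm])
  obtain ⟨q, hq⟩ := T.fixed ((k - T.bar k) / (2 * T.a)) (by
    rw [map_div₀, map_sub, T.bar_bar, map_mul, T.bar_two, T.bar_a, mul_neg, div_neg, ← neg_div, neg_sub])
  have hk : k = algebraMap F K p + algebraMap F K q * T.a := by
    rw [← hp, ← hq]
    have h2K := T.two_ne
    have ha := T.a_ne
    field_simp
    ring
  refine ⟨algebraMap F K p + algebraMap F K (q * c) * T.a, fun v => ?_⟩
  obtain ⟨y, rfl⟩ := g.surjective v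
  rw [g.symm_apply_apply, hk, add_smul, add_smul, mul_smul, mul_smul, algebraMap_smul, algebraMap_smul,
    algebraMap_smul, algebraMap_smul, map_add, LinearEquiv.map_smul, LinearEquiv.map_smul, mul_smul, hcomm y,
    smul_smul c c, hc2, one_smul]

/-- A group containing the unitary group and moving `K` contains every transvection, from dimension
three on. -/
theorem forall_sq_of_moved_three (hX : T.Between X) (hK : Module.finrank F K = 2)
    (hm : 3 ≤ Module.finrank K V)
    (hmove : ∃ g ∈ X, ∃ k : K, ¬ ∃ k' : K, ∀ v, g (k • g.symm v) = k' • v) (c : F) (v : V) :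
    MemOne X (c • T.sq v) := by
  obtain ⟨g, hg, k, hk⟩ := hmove
  by_cases hiso : ∀ w, T.h w w = 0 → T.h (g w) (g w) = 0
  · exact absurd (T.normalises_of_isotropic hK (by omega) (hX.preserves g hg) hiso k) hk
  push Not at hiso
  obtain ⟨w, hw, hgw⟩ := hiso
  obtain ⟨p, hp0, hp⟩ := T.centre_of_iso_to_aniso hX hK hm hg hw hgw
  exact T.centre_all hX hK (by omega) hp0 hp v c

end HermTower

end CfsgLib.ExtField
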