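import Cfsg.Agent.ExtField.Four
import Cfsg.Agent.MaxSub.Transvection
import Cfsg.Agent.S5887

/-!
# Maximality of normalisers of extension fields of prime degree in matrix groups
-/

set_option autoImplicit false

namespace CfsgLib.ExtField

open Cfsg.Geo CfsgLib.MaxSub
open scoped Matrix MatrixGroups

variable {F : Type*} [Field F] {n : ℕ}

/-- Matrices as automorphisms of column vectors. -/
noncomputable def glEquiv : GL (Fin n) F ≃* ((Fin n → F) ≃ₗ[F] (Fin n → F)) :=
  Matrix.GeneralLinearGroup.toLin.trans (LinearMap.GeneralLinearGroup.generalLinearEquiv F _)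

theorem glEquiv_apply (g : GL (Fin n) F) (v : Fin n → F) :
    glEquiv g v = (g : Matrix (Fin n) (Fin n) F) *ᵥ v := rfl

theorem glEquiv_det (g : GL (Fin n) F) :
    LinearEquiv.det (glEquiv g) = Matrix.GeneralLinearGroup.det g := by
  apply Units.ext
  rw [LinearEquiv.coe_det]
  show LinearMap.det (Matrix.toLin' (g : Matrix (Fin n) (Fin n) F)) = _
  rw [LinearMap.det_toLin']
  rfl

/-- One inclusion suffices to normalise a subalgebra. -/
theorem mem_subalgebraNormalizer_of_forall {K : Subalgebra F (Matrix (Fin n) (Fin n) F)}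
    {g : GL (Fin n) F}
    (h : ∀ k ∈ K, (g : Matrix (Fin n) (Fin n) F) * k
      * ((g⁻¹ : GL (Fin n) F) : Matrix (Fin n) (Fin n) F) ∈ K) :
    g ∈ subalgebraNormalizer K := by
  intro k
  refine ⟨h k, fun hk => ?_⟩
  let f : Subalgebra.toSubmodule K →ₗ[F] Subalgebra.toSubmodule K :=
    { toFun := fun x => ⟨(g : Matrix (Fin n) (Fin n) F) * (x : Matrix (Fin n) (Fin n) F)
        * ((g⁻¹ : GL (Fin n) F) : Matrix (Fin n) (Fin n) F), h _ x.2⟩
      map_add' := fun x y => Subtype.ext (by simp [mul_add, add_mul])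
      map_smul' := fun c x => Subtype.ext (by simp) }
  have hinj : Function.Injective f := by
    intro x y hxy
    have := congrArg Subtype.val hxy
    simp only [f, LinearMap.coe_mk, AddHom.coe_mk] at this
    rw [Units.mul_left_inj, Units.mul_right_inj] at this
    exact Subtype.ext this
  obtain ⟨x, hx⟩ := LinearMap.injective_iff_surjective.mp hinj ⟨_, hk⟩
  have := congrArg Subtype.val hx
  simp only [f, LinearMap.coe_mk, AddHom.coe_mk] at this
  rw [Units.mul_left_inj, Units.mul_right_inj] at this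
  rw [← this]
  exact x.2

/-- An element commuting with `K` normalises it. -/
theorem mem_subalgebraNormalizer_of_commute {K : Subalgebra F (Matrix (Fin n) (Fin n) F)}
    {g : GL (Fin n) F}
    (h : ∀ k ∈ K, (g : Matrix (Fin n) (Fin n) F) * k = k * (g : Matrix (Fin n) (Fin n) F)) :
    g ∈ subalgebraNormalizer K := by
  refine mem_subalgebraNormalizer_of_forall fun k hk => ?_
  rw [h k hk, mul_assoc, Units.mul_inv, mul_one]
  exact hk

variable {r : ℕ} {K : Subalgebra F (Matrix (Fin n) (Fin n) F)}

/-- The field structure on `K`. -/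
theorem isField_of_isFieldSubalgebra (hn : 0 < n) (hK : IsFieldSubalgebra r K) : IsField K :=
  { exists_pair_ne := ⟨0, 1, fun h => by
      haveI : Nonempty (Fin n) := ⟨⟨0, hn⟩⟩
      exact zero_ne_one (congrArg Subtype.val h)⟩
    mul_comm := fun x y => Subtype.ext (hK.comm x.1 x.2 y.1 y.2)
    mul_inv_cancel := fun {x} hx => by
      obtain ⟨y, hy, h⟩ := hK.inv x.1 x.2 (fun h => hx (Subtype.ext h))
      exact ⟨⟨y, hy⟩, Subtype.ext h⟩ }

variable [Fintype F]

/-- A group containing the determinant one elements of the normaliser and one element outside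
contains `SL`. -/
theorem specialLinear_le_of_not_mem (hr : r.Prime) (hlt : r < n) (hK : IsFieldSubalgebra r K)
    {M : Subgroup (GL (Fin n) F)}
    (hM : subalgebraNormalizer K ⊓ specialLinear (Fin n) F ≤ M) {g : GL (Fin n) F} (hg : g ∈ M)
    (hgN : g ∉ subalgebraNormalizer K) : specialLinear (Fin n) F ≤ M := by
  classical
  have hn : 0 < n := by omega
  letI : Field K := (isField_of_isFieldSubalgebra hn hK).toField
  letI : Module K (Fin n → F) :=
    { smul := fun a v => (a : Matrix (Fin n) (Fin n) F) *ᵥ v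
      one_smul := fun v => Matrix.one_mulVec v
      mul_smul := fun a b v => (Matrix.mulVec_mulVec v _ _).symm
      smul_zero := fun a => Matrix.mulVec_zero _
      smul_add := fun a v w => Matrix.mulVec_add _ v w
      add_smul := fun a b v => Matrix.add_mulVec _ _ v
      zero_smul := fun v => Matrix.zero_mulVec v }
  have hsmul : ∀ (a : K) (v : Fin n → F), a • v = (a : Matrix (Fin n) (Fin n) F) *ᵥ v :=
    fun _ _ => rfl
  haveI : IsScalarTower F K (Fin n → F) := ⟨fun c a v => by
    rw [hsmul, hsmul]; exact Matrix.smul_mulVec c _ v⟩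
  haveI : Finite K := Subtype.finite
  haveI : FiniteDimensional K (Fin n → F) := Module.Finite.of_finite
  have hfin : Module.finrank F K = r := hK.finrank_eq
  have hprime : (Module.finrank F K).Prime := by rw [hfin]; exact hr
  have hm : 2 ≤ Module.finrank K (Fin n → F) := by
    have h := Module.finrank_mul_finrank F K (Fin n → F)
    rw [hfin, Module.finrank_fin_fun] at h
    by_contra hc
    interval_cases hk : Module.finrank K (Fin n → F) <;> omega
  set X := M.map (glEquiv (F := F) (n := n)).toMonoidHom with hXdef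
  have hX : ContainsSL K X := by
    intro x hlin hdet
    obtain ⟨y, rfl⟩ := (glEquiv (F := F) (n := n)).surjective x
    refine ⟨y, hM ⟨mem_subalgebraNormalizer_of_commute fun k hk => ?_, ?_⟩, rfl⟩
    · apply Matrix.ext_of_mulVec_single
      intro i
      have := hlin ⟨k, hk⟩ (Pi.single i 1)
      rw [hsmul, hsmul, glEquiv_apply, glEquiv_apply] at this
      rw [← Matrix.mulVec_mulVec, ← Matrix.mulVec_mulVec]
      exact this
    · show Matrix.GeneralLinearGroup.det y = 1
      rw [← glEquiv_det]; exact hdet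
  obtain ⟨k, hk, hkg⟩ : ∃ k ∈ K, (g : Matrix (Fin n) (Fin n) F) * k
      * ((g⁻¹ : GL (Fin n) F) : Matrix (Fin n) (Fin n) F) ∉ K := by
    by_contra hc
    push Not at hc
    exact hgN (mem_subalgebraNormalizer_of_forall hc)
  have hmove : ∃ x ∈ X, ∃ k : K, ¬ ∃ k' : K, ∀ v, x (k • x.symm v) = k' • v := by
    refine ⟨glEquiv g, ⟨g, hg, rfl⟩, ⟨k, hk⟩, ?_⟩
    rintro ⟨k', hk'⟩
    apply hkg
    have : (g : Matrix (Fin n) (Fin n) F) * k
        * ((g⁻¹ : GL (Fin n) F) : Matrix (Fin n) (Fin n) F) = k' := by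
      apply Matrix.ext_of_mulVec_single
      intro i
      have h := hk' (Pi.single i 1)
      rw [hsmul, hsmul, glEquiv_apply] at h
      rw [← Matrix.mulVec_mulVec, ← Matrix.mulVec_mulVec]
      have e : (glEquiv g).symm (Pi.single i 1)
          = ((g⁻¹ : GL (Fin n) F) : Matrix (Fin n) (Fin n) F) *ᵥ Pi.single i 1 := by
        apply (glEquiv g).injective
        rw [LinearEquiv.apply_symm_apply, glEquiv_apply, Matrix.mulVec_mulVec, Units.mul_inv,
          Matrix.one_mulVec]
      rw [e] at h
      exact h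
    rw [this]
    exact k'.2
  refine specialLinear_le_of_forall_tv fun v a => ?_
  by_cases h : a ⬝ᵥ v = 0
  swap
  · rw [tv, dif_neg h]; exact M.one_mem
  let φ : (Fin n → F) →ₗ[F] F := dotProductEquiv F (Fin n) a
  have hφ : ∀ x, φ x = a ⬝ᵥ x := fun x => rfl
  obtain ⟨x, ⟨y, hy, rfl⟩, hyx⟩ :=
    transvections_mem_of_moved hX hprime hm hmove φ v (by rw [hφ]; exact h)
  suffices e : tv v a = y by rw [e]; exact hy
  apply Units.ext
  apply Matrix.ext_of_mulVec_single
  intro i
  rw [tv_mulVec h, ← hφ]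
  exact (hyx _).symm

/-- The determinant is surjective on the centraliser of `K`. -/
theorem exists_det_eq (hr : r.Prime) (hn : 0 < n) (hK : IsFieldSubalgebra r K) (c : Fˣ) :
    ∃ h ∈ subalgebraNormalizer K, Matrix.GeneralLinearGroup.det h = c := by
  classical
  letI : Field K := (isField_of_isFieldSubalgebra hn hK).toField
  letI : Module K (Fin n → F) :=
    { smul := fun a v => (a : Matrix (Fin n) (Fin n) F) *ᵥ v
      one_smul := fun v => Matrix.one_mulVec v
      mul_smul := fun a b v => (Matrix.mulVec_mulVec v _ _).symm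
      smul_zero := fun a => Matrix.mulVec_zero _
      smul_add := fun a v w => Matrix.mulVec_add _ v w
      add_smul := fun a b v => Matrix.add_mulVec _ _ v
      zero_smul := fun v => Matrix.zero_mulVec v }
  have hsmul : ∀ (a : K) (v : Fin n → F), a • v = (a : Matrix (Fin n) (Fin n) F) *ᵥ v :=
    fun _ _ => rfl
  haveI : IsScalarTower F K (Fin n → F) := ⟨fun c a v => by
    rw [hsmul, hsmul]; exact Matrix.smul_mulVec c _ v⟩
  haveI : Finite K := Subtype.finite
  haveI : FiniteDimensional K (Fin n → F) := Module.Finite.of_finite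
  haveI : Nonempty (Fin n) := ⟨⟨0, hn⟩⟩
  obtain ⟨k, hk⟩ := FiniteField.norm_surjective F K (c : F)
  have hk0 : k ≠ 0 := by
    intro h0; rw [h0, Algebra.norm_zero] at hk; exact c.ne_zero hk.symm
  obtain ⟨u, hu⟩ := exists_ne (0 : Fin n → F)
  obtain ⟨ψ, hψ⟩ := Module.Projective.exists_dual_ne_zero K hu
  set v := ((k - 1) * (ψ u)⁻¹) • u with hv
  have hval : 1 + ψ v = k := by
    rw [hv, map_smul, smul_eq_mul, mul_assoc, inv_mul_cancel₀ hψ]; ring
  have hu' : IsUnit (1 + ψ v) := by rw [hval]; exact isUnit_iff_ne_zero.mpr hk0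
  obtain ⟨y, hy⟩ := (glEquiv (F := F) (n := n)).surjective
    ((LinearEquiv.dilatransvection hu').restrictScalars F)
  refine ⟨y, mem_subalgebraNormalizer_of_commute fun a ha => ?_, ?_⟩
  · apply Matrix.ext_of_mulVec_single
    intro i
    have := map_smul (LinearEquiv.dilatransvection hu') (⟨a, ha⟩ : K) (Pi.single i (1 : F))
    have e : ∀ x, LinearEquiv.dilatransvection hu' x
        = (y : Matrix (Fin n) (Fin n) F) *ᵥ x := fun x => by
      rw [← glEquiv_apply, hy]; rfl
    rw [e, e, hsmul, hsmul] at this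
    rw [← Matrix.mulVec_mulVec, ← Matrix.mulVec_mulVec]
    exact this
  · rw [← glEquiv_det, hy]
    apply Units.ext
    rw [LinearEquiv.coe_det, det_dilatransvection, hval, hk]

/-- Some element of `SL` does not normalise `K`. -/
theorem exists_not_normalizing (hr : r.Prime) (hlt : r < n) (hK : IsFieldSubalgebra r K) :
    ∃ g ∈ specialLinear (Fin n) F, g ∉ subalgebraNormalizer K := by
  classical
  have hn : 0 < n := by omega
  haveI : Nonempty (Fin n) := ⟨⟨0, hn⟩⟩
  obtain ⟨k, hk, hk'⟩ : ∃ k ∈ K, k ∉ (⊥ : Subalgebra F (Matrix (Fin n) (Fin n) F)) := by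
    by_contra hc
    push Not at hc
    have h1 : K = ⊥ := le_bot_iff.mp hc
    have h2 := hK.finrank_eq
    rw [h1, Subalgebra.finrank_bot] at h2
    exact hr.one_lt.ne h2
  obtain ⟨g, -, hg, hg'⟩ := Cfsg.Agent.S5887.exists_centralizing_not_normalizing
    (⊥ : Subalgebra F (Matrix (Fin n) (Fin n) F)) K
    (fun x hx y _ => by
      obtain ⟨c, rfl⟩ := Algebra.mem_bot.mp hx
      exact Algebra.commutes c y)
    (fun x hx hx0 => by
      obtain ⟨c, rfl⟩ := Algebra.mem_bot.mp hx
      have hc : c ≠ 0 := by intro h; exact hx0 (by rw [h, map_zero])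
      exact ⟨algebraMap F _ c⁻¹, Subalgebra.algebraMap_mem _ _,
        by rw [← map_mul, mul_inv_cancel₀ hc, map_one]⟩)
    hK.inv hK.comm bot_le k hk hk' (by rw [hK.finrank_eq]; exact hlt)
  exact ⟨g, hg, hg'⟩

/-- The normaliser of an extension field of prime degree is maximal in `GL` and in `SL`. -/
theorem isCoatom_and_isMaximalIn (hr : r.Prime) (hlt : r < n) (hK : IsFieldSubalgebra r K) :
    IsCoatom (subalgebraNormalizer K) ∧
      IsMaximalIn (specialLinear (Fin n) F) (subalgebraNormalizer K ⊓ specialLinear (Fin n) F) := by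
  obtain ⟨g₀, hg₀, hg₀N⟩ := exists_not_normalizing hr hlt hK
  refine ⟨⟨fun h => hg₀N (by rw [h]; exact Subgroup.mem_top _), fun M hM => ?_⟩, ?_⟩
  · obtain ⟨g, hg, hgN⟩ := SetLike.exists_of_lt hM
    have hsl := specialLinear_le_of_not_mem hr hlt hK (inf_le_left.trans hM.le) hg hgN
    rw [eq_top_iff]
    intro x _
    obtain ⟨h, hh, hdet⟩ := exists_det_eq hr (by omega) hK (Matrix.GeneralLinearGroup.det x)
    have hx : x * h⁻¹ ∈ specialLinear (Fin n) F := by
      rw [specialLinear, MonoidHom.mem_ker, map_mul, map_inv, hdet, mul_inv_cancel]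
    have := M.mul_mem (hsl hx) (hM.le hh)
    rwa [inv_mul_cancel_right] at this
  · refine isMaximalIn_of inf_le_right ⟨g₀, hg₀, fun h => hg₀N h.1⟩ fun M hHM hMK g hg hgH => ?_
    exact specialLinear_le_of_not_mem hr hlt hK hHM hg fun hgN => hgH ⟨hgN, hMK hg⟩

end CfsgLib.ExtField
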