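import Cfsg.Agent.ExtField.Basic

/-!
# Two lines with a large intersection

If a group containing the `K`-linear automorphisms of determinant one does not normalise `K`, some
image of a `K`-line meets a different `K`-line in an `F`-hyperplane of that line.
-/

set_option autoImplicit false

namespace CfsgLib.ExtField

open Module

variable {F K V : Type*} [Field F] [Field K] [Algebra F K] [AddCommGroup V] [Module F V]
  [Module K V] [IsScalarTower F K V]

variable (F K) in
/-- The `K`-line of `v` as an `F`-subspace. -/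
def kline (v : V) : Submodule F V := (Submodule.span K ({v} : Set V)).restrictScalars F

theorem mem_kline {v x : V} : x ∈ kline F K v ↔ ∃ k : K, k • v = x := by
  rw [kline, Submodule.restrictScalars_mem, Submodule.mem_span_singleton]

theorem smul_mem_kline (v : V) (k : K) : k • v ∈ kline F K v := mem_kline.mpr ⟨k, rfl⟩

theorem self_mem_kline (v : V) : v ∈ kline F K v := mem_kline.mpr ⟨1, one_smul K v⟩

/-- The coordinate map of a line. -/
def lineHom (v : V) : K →ₗ[F] V := (LinearMap.toSpanSingleton K V v).restrictScalars F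

@[simp] theorem lineHom_apply (v : V) (k : K) : lineHom (F := F) v k = k • v := rfl

theorem lineHom_injective {v : V} (hv : v ≠ 0) : Function.Injective (lineHom (F := F) (K := K) v) :=
  fun _ _ h => smul_left_injective K hv h

theorem range_lineHom (v : V) : LinearMap.range (lineHom (F := F) (K := K) v) = kline F K v := by
  ext x
  simp [mem_kline]

theorem finrank_kline {v : V} (hv : v ≠ 0) :
    Module.finrank F (kline F K v) = Module.finrank F K := by
  rw [← range_lineHom, LinearMap.finrank_range_of_inj (lineHom_injective hv)]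

theorem kline_eq_of_mem {u v : V} (hv : v ≠ 0) (h : v ∈ kline F K u) :
    kline F K u = kline F K v := by
  obtain ⟨k, hk⟩ := mem_kline.mp h
  have hk0 : k ≠ 0 := by intro h0; rw [h0, zero_smul] at hk; exact hv hk.symm
  apply le_antisymm
  · intro x hx
    obtain ⟨l, hl⟩ := mem_kline.mp hx
    exact mem_kline.mpr ⟨l * k⁻¹, by rw [← hk, smul_smul, mul_assoc, inv_mul_cancel₀ hk0, mul_one, hl]⟩
  · intro x hx
    obtain ⟨l, hl⟩ := mem_kline.mp hx
    exact mem_kline.mpr ⟨l * k, by rw [← smul_smul, hk, hl]⟩

omit [Module F V] [IsScalarTower F K V] in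
/-- A map sending every vector to a multiple of itself is a scalar. -/
theorem exists_scalar (hm : ∀ u : V, ∃ z, z ∉ Submodule.span K ({u} : Set V)) {T : V →+ V}
    (h : ∀ v, ∃ c : K, T v = c • v) :
    ∃ c : K, ∀ v, T v = c • v := by
  obtain ⟨u, hu⟩ := hm 0
  have hu0 : u ≠ 0 := fun h => hu (by rw [h]; exact Submodule.zero_mem _)
  obtain ⟨c, hc⟩ := h u
  have key : ∀ v, v ∉ Submodule.span K ({u} : Set V) → T v = c • v := by
    intro v hv
    obtain ⟨cv, hcv⟩ := h v
    obtain ⟨cs, hcs⟩ := h (u + v)
    rw [map_add, hc, hcv, smul_add] at hcs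
    have he : (c - cs) • u = (cs - cv) • v := by
      rw [sub_smul, sub_smul, sub_eq_sub_iff_add_eq_add, hcs]
      abel
    by_cases hz : cs - cv = 0
    · rw [hz, zero_smul] at he
      have := (smul_eq_zero.mp he).resolve_right hu0
      rw [sub_eq_zero] at this hz
      rw [hcv, this, hz]
    · exfalso
      apply hv
      rw [Submodule.mem_span_singleton]
      exact ⟨(cs - cv)⁻¹ * (c - cs), by rw [← smul_smul, he, inv_smul_smul₀ hz]⟩
  refine ⟨c, fun v => ?_⟩
  by_cases hv : v ∈ Submodule.span K ({u} : Set V)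
  swap
  · exact key v hv
  obtain ⟨z, hz⟩ := hm u
  have h1 := key z hz
  have h2 := key (v + z) (fun h' => hz (by simpa using Submodule.sub_mem _ h' hv))
  rw [map_add, h1, smul_add] at h2
  exact add_right_cancel h2

variable [FiniteDimensional F K] [FiniteDimensional K V]

/-- A group not normalising `K` moves some `K`-line to something that is not a `K`-line. -/
theorem exists_moved_line (hm : 2 ≤ Module.finrank K V) {X : Subgroup (V ≃ₗ[F] V)}
    {g : V ≃ₗ[F] V} (hg : g ∈ X) {k : K}
    (hk : ¬ ∃ k' : K, ∀ v, g (k • g.symm v) = k' • v) :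
    ∃ g ∈ X, ∃ w : V, w ≠ 0 ∧ ∀ u : V, (kline F K w).map g.toLinearMap ≠ kline F K u := by
  by_contra hc
  push Not at hc
  apply hk
  let T : V →+ V :=
    { toFun := fun v => g (k • g.symm v)
      map_zero' := by simp
      map_add' := fun a b => by simp }
  refine exists_scalar (T := T) (fun u => exists_notMem_span_singleton hm) fun v => ?_
  rcases eq_or_ne v 0 with rfl | hv
  · exact ⟨0, by simp⟩
  obtain ⟨u, hu⟩ := hc g hg (g.symm v) (by simpa using hv)
  have hv' : v ∈ kline F K u := by
    rw [← hu]
    exact ⟨g.symm v, self_mem_kline _, by simp⟩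
  have hT : T v ∈ kline F K u := by
    rw [← hu]
    exact ⟨k • g.symm v, smul_mem_kline _ _, rfl⟩
  rw [kline_eq_of_mem hv hv', mem_kline] at hT
  obtain ⟨c, hc⟩ := hT
  exact ⟨c, hc.symm⟩

variable [FiniteDimensional F V]

theorem finrank_map_kline (g : V ≃ₗ[F] V) {w : V} (hw : w ≠ 0) :
    Module.finrank F ((kline F K w).map g.toLinearMap) = Module.finrank F K := by
  rw [← finrank_kline (F := F) (K := K) hw]
  exact LinearEquiv.finrank_map_eq g _

/-- Enlarging the intersection. -/
theorem improve_inter {X : Subgroup (V ≃ₗ[F] V)} (hX : ContainsSL K X)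
    (hprime : (Module.finrank F K).Prime) {g : V ≃ₗ[F] V} (hg : g ∈ X) {w u : V}
    (hw : w ≠ 0) (hu : u ≠ 0) (hne : (kline F K w).map g.toLinearMap ≠ kline F K u)
    (h1 : 1 ≤ Module.finrank F ((kline F K w).map g.toLinearMap ⊓ kline F K u : Submodule F V))
    (h2 : Module.finrank F ((kline F K w).map g.toLinearMap ⊓ kline F K u : Submodule F V) + 2
      ≤ Module.finrank F K) :
    ∃ g' ∈ X, ∃ w' u' : V, w' ≠ 0 ∧ u' ≠ 0 ∧
      (kline F K w').map g'.toLinearMap ≠ kline F K u' ∧
      Module.finrank F ((kline F K w).map g.toLinearMap ⊓ kline F K u : Submodule F V) <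
        Module.finrank F
          ((kline F K w').map g'.toLinearMap ⊓ kline F K u' : Submodule F V) := by
  set B : Submodule F V := (kline F K w).map g.toLinearMap with hB
  set D : Submodule F V := B ⊓ kline F K u with hD
  have hBdim : Module.finrank F B = Module.finrank F K := finrank_map_kline g hw
  obtain ⟨a1, ha1, ha1'⟩ : ∃ a ∈ B, a ∉ kline F K u := by
    by_contra hc
    push Not at hc
    exact hne (Submodule.eq_of_le_of_finrank_eq hc (by rw [hBdim, finrank_kline hu]))
  obtain ⟨ψ, hψu, hψa⟩ := exists_dual_zero_one (K := K) (u := u) (w := a1)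
    (fun h => ha1' h)
  let Dk : Submodule F K := D.comap (lineHom u)
  have hDk : ∀ k : K, k • u ∈ D ↔ k ∈ Dk := fun k => Iff.rfl
  have hψD : ∀ x ∈ D, ψ x = 0 := by
    intro x hx
    obtain ⟨k, hk⟩ := mem_kline.mp hx.2
    rw [← hk, map_smul, hψu, smul_zero]
  -- it is enough to find a root
  suffices h : ∃ b : K, (∃ a ∈ B, a ∉ D ∧ b * ψ a ∈ Dk) ∧ ∃ a ∈ B, b * ψ a ∉ Dk by
    obtain ⟨b, ⟨a0, ha0, ha0D, hb0⟩, a2, ha2, hb2⟩ := h
    obtain ⟨t, ht, htN⟩ := hX.root (ψ := b • ψ) (u := u) (by simp [hψu])
    simp only [rootMap_apply, LinearMap.smul_apply, smul_eq_mul] at htN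
    have htD : ∀ x ∈ D, t x = x := fun x hx => by
      rw [htN, hψD x hx, mul_zero, zero_smul, add_zero]
    have hne' : B.map t.toLinearMap ≠ B := by
      intro he
      apply hb2
      rw [← hDk]
      have h3 : t a2 ∈ B := he.le ⟨a2, ha2, rfl⟩
      rw [htN] at h3
      exact ⟨by simpa using B.sub_mem h3 ha2, smul_mem_kline _ _⟩
    have hlt : D < B.map t.toLinearMap ⊓ B := by
      refine lt_of_le_of_ne (fun x hx => ⟨⟨x, hx.1, htD x hx⟩, hx.1⟩) fun he => ?_
      have h3 : t a0 ∈ B.map t.toLinearMap ⊓ B := by
        refine ⟨⟨a0, ha0, rfl⟩, ?_⟩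
        rw [htN]
        exact B.add_mem ha0 ((hDk _).mpr hb0).1
      rw [← he, htN] at h3
      exact ha0D (by simpa using D.sub_mem h3 ((hDk _).mpr hb0))
    refine ⟨g⁻¹ * t * g, X.mul_mem (X.mul_mem (X.inv_mem hg) ht) hg, w, w, hw, hw, ?_, ?_⟩
    · intro he
      apply hne'
      have e1 : ((kline F K w).map (g⁻¹ * t * g).toLinearMap).map g.toLinearMap
          = B.map t.toLinearMap := by
        rw [hB, ← Submodule.map_comp, ← Submodule.map_comp]
        congr 1
        ext x
        show g (g.symm (t (g x))) = t (g x)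
        rw [g.apply_symm_apply]
      rw [← e1, he]
    · have e1 : ((kline F K w).map (g⁻¹ * t * g).toLinearMap ⊓ kline F K w).map g.toLinearMap
          = B.map t.toLinearMap ⊓ B := by
        rw [Submodule.map_inf _ g.injective]
        congr 1
        rw [hB, ← Submodule.map_comp, ← Submodule.map_comp]
        congr 1
        ext x
        show g (g.symm (t (g x))) = t (g x)
        rw [g.apply_symm_apply]
      calc Module.finrank F D < Module.finrank F (B.map t.toLinearMap ⊓ B : Submodule F V) :=
            Submodule.finrank_lt_finrank_of_lt hlt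
        _ = _ := by
          rw [← e1]
          exact LinearEquiv.finrank_map_eq g _
  by_contra hc
  push Not at hc
  -- everything is forced into a proper subfield
  have hinj : ∀ a ∈ B, ψ a = 0 → a ∈ D := by
    intro a ha hψ0
    by_contra had
    obtain ⟨k, hk⟩ : ∃ k : K, k ∉ Dk := by
      by_contra hk
      push Not at hk
      apply ha1'
      have hle : kline F K u ≤ B := by
        intro x hx
        obtain ⟨l, rfl⟩ := mem_kline.mp hx
        exact ((hDk l).mpr (hk l)).1
      have := Submodule.eq_of_le_of_finrank_eq hle (by rw [hBdim, finrank_kline hu])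
      rw [this]; exact ha1
    have := hc k ⟨a, ha, had, by rw [hψ0, mul_zero]; exact Dk.zero_mem⟩ a1 ha1
    rw [hψa, mul_one] at this
    exact hk this
  let S : Subalgebra F K :=
    { carrier := {k | ∀ e ∈ Dk, k * e ∈ Dk}
      mul_mem' := fun {a b} ha hb e he => by rw [mul_assoc]; exact ha _ (hb e he)
      one_mem' := fun e he => by rwa [one_mul]
      add_mem' := fun {a b} ha hb e he => by rw [add_mul]; exact Dk.add_mem (ha e he) (hb e he)
      zero_mem' := fun e _ => by rw [zero_mul]; exact Dk.zero_mem
      algebraMap_mem' := fun c e he => by rw [← Algebra.smul_def]; exact Dk.smul_mem c he }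
  have hDkdim : Module.finrank F Dk = Module.finrank F D := by
    have e : Dk.map (lineHom u) = D := by
      rw [Submodule.map_comap_eq, range_lineHom]
      exact inf_eq_right.mpr inf_le_right
    have := (Submodule.equivMapOfInjective (lineHom u) (lineHom_injective hu) Dk).finrank_eq
    rw [e] at this
    exact this
  have hPS : ∀ a ∈ B, ψ a ∈ S := by
    intro a ha e he
    have := hc e ⟨a1, ha1, fun h => ha1' h.2, by rw [hψa, mul_one]; exact he⟩ a ha
    rw [mul_comm]; exact this
  have hS : S = ⊥ := by
    haveI := Subalgebra.isSimpleOrder_of_finrank_prime F K hprime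
    rcases IsSimpleOrder.eq_bot_or_eq_top S with h | h
    · exact h
    exfalso
    obtain ⟨e, he, he0⟩ := (Submodule.ne_bot_iff _).mp (by
      intro hbot
      rw [hbot, finrank_bot] at hDkdim
      omega : Dk ≠ ⊥)
    have hall : ∀ k : K, k ∈ Dk := by
      intro k
      have hk : k * e⁻¹ ∈ S := by rw [h]; exact Algebra.mem_top
      have := hk e he
      rwa [mul_assoc, inv_mul_cancel₀ he0, mul_one] at this
    have : Dk = ⊤ := Submodule.eq_top_iff'.mpr hall
    rw [this, finrank_top] at hDkdim
    omega
  have hBD : B ≤ D ⊔ Submodule.span F {a1} := by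
    intro a ha
    have := hPS a ha
    rw [hS, Algebra.mem_bot] at this
    obtain ⟨c, hc⟩ := this
    have h4 : a - c • a1 ∈ D := by
      apply hinj _ (B.sub_mem ha (B.smul_mem c ha1))
      rw [map_sub, LinearMap.map_smul_of_tower, hψa, ← Algebra.algebraMap_eq_smul_one, hc,
        sub_self]
    rw [show a = (a - c • a1) + c • a1 by abel]
    exact Submodule.add_mem_sup h4 (Submodule.smul_mem _ _ (Submodule.mem_span_singleton_self a1))
  have h5 := Submodule.finrank_mono hBD
  have h6 := Submodule.finrank_add_le_finrank_add_finrank D (Submodule.span F {a1})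
  have h7 : Module.finrank F (Submodule.span F ({a1} : Set V)) ≤ 1 := by
    simpa using finrank_span_le_card ({a1} : Set V)
  omega

/-- Some image of a line meets another line in a hyperplane. -/
theorem exists_hyperplane_inter {X : Subgroup (V ≃ₗ[F] V)} (hX : ContainsSL K X)
    (hprime : (Module.finrank F K).Prime) (hm : 2 ≤ Module.finrank K V)
    (hmove : ∃ g ∈ X, ∃ k : K, ¬ ∃ k' : K, ∀ v, g (k • g.symm v) = k' • v) :
    ∃ g ∈ X, ∃ w u : V, w ≠ 0 ∧ u ≠ 0 ∧
      (kline F K w).map g.toLinearMap ≠ kline F K u ∧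
      Module.finrank F ((kline F K w).map g.toLinearMap ⊓ kline F K u : Submodule F V) + 1
        = Module.finrank F K := by
  obtain ⟨g₀, hg₀, k, hk⟩ := hmove
  obtain ⟨g, hg, w, hw, hwg⟩ := exists_moved_line hm hg₀ hk
  set u := g w with hu'
  have hu : u ≠ 0 := fun h => hw (g.injective (h.trans (map_zero g).symm))
  have hlt : ∀ g : V ≃ₗ[F] V, ∀ w u : V, w ≠ 0 → u ≠ 0 →
      (kline F K w).map g.toLinearMap ≠ kline F K u →
      Module.finrank F ((kline F K w).map g.toLinearMap ⊓ kline F K u : Submodule F V)
        < Module.finrank F K := by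
    intro g w u hw hu hne
    have hlt' : (kline F K w).map g.toLinearMap ⊓ kline F K u < kline F K u := by
      refine lt_of_le_of_ne inf_le_right fun he => hne ?_
      exact (Submodule.eq_of_le_of_finrank_eq (inf_eq_right.mp he)
        (by rw [finrank_map_kline g hw, finrank_kline hu])).symm
    have := Submodule.finrank_lt_finrank_of_lt hlt'
    rwa [finrank_kline hu] at this
  suffices h : ∀ j, ∀ g ∈ X, ∀ w u : V, w ≠ 0 → u ≠ 0 →
      (kline F K w).map g.toLinearMap ≠ kline F K u →
      1 ≤ Module.finrank F ((kline F K w).map g.toLinearMap ⊓ kline F K u : Submodule F V) →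
      Module.finrank F K ≤ j + Module.finrank F
        ((kline F K w).map g.toLinearMap ⊓ kline F K u : Submodule F V) →
      ∃ g ∈ X, ∃ w u : V, w ≠ 0 ∧ u ≠ 0 ∧
        (kline F K w).map g.toLinearMap ≠ kline F K u ∧
        Module.finrank F ((kline F K w).map g.toLinearMap ⊓ kline F K u : Submodule F V) + 1
          = Module.finrank F K by
    refine h (Module.finrank F K) g hg w u hw hu (hwg u) ?_ (Nat.le_add_right _ _)
    rw [Nat.one_le_iff_ne_zero]
    intro h0
    rw [Submodule.finrank_eq_zero] at h0
    have hmem : u ∈ (kline F K w).map g.toLinearMap ⊓ kline F K u :=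
      ⟨⟨w, self_mem_kline w, rfl⟩, self_mem_kline u⟩
    rw [h0, Submodule.mem_bot] at hmem
    exact hu hmem
  intro j
  induction j with
  | zero =>
    intro g _ w u hw hu hne _ hj
    have := hlt g w u hw hu hne
    omega
  | succ j ih =>
    intro g hg w u hw hu hne h1 hj
    have h2 := hlt g w u hw hu hne
    rcases Nat.lt_or_ge (Module.finrank F
      ((kline F K w).map g.toLinearMap ⊓ kline F K u : Submodule F V) + 1)
      (Module.finrank F K) with h3 | h3
    · obtain ⟨g', hg', w', u', hw', hu', hne', h4⟩ :=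
        improve_inter hX hprime hg hw hu hne h1 (by omega)
      exact ih g' hg' w' u' hw' hu' hne' (by omega) (by omega)
    · exact ⟨g, hg, w, u, hw, hu, hne, by omega⟩

end CfsgLib.ExtField
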