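import Cfsg.Agent.ExtField.Fiber

/-!
# Dimension two
-/

set_option autoImplicit false

namespace CfsgLib.ExtField

open Module

variable {F K V : Type*} [Field F] [Field K] [Algebra F K] [AddCommGroup V] [Module F V]
  [Module K V] [IsScalarTower F K V] {X : Subgroup (V ≃ₗ[F] V)}

namespace Frame

variable [Finite K] [FiniteDimensional F K] [FiniteDimensional K V] [FiniteDimensional F V]

/-- The commutator of two roots from the intersection. -/
theorem commutator_mem (hX : ContainsSL K X) (fr : Frame X K) {φ : K →ₗ[F] F}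
    (hφ0 : ∀ d ∈ fr.Dk, φ d = 0) (hφ : ∀ e, e - algebraMap F K (φ e) * fr.a ∈ fr.Dk) {c c' : K}
    (hc : c ∈ fr.Dk) (hc' : c' ∈ fr.Dk) {α : K →ₗ[F] F}
    (hα : ∀ x, fr.ψ (fr.M (c' • fr.u) x) = algebraMap F K (α (fr.ψ x))) :
    LinearMap.mulLeft F c ∘ₗ Algebra.linearMap F K ∘ₗ α
      - LinearMap.mulLeft F c' ∘ₗ Algebra.linearMap F K ∘ₗ φ ∘ₗ LinearMap.mulLeft F c
      ∈ fr.fiber := by
  have hval : ∀ e : K, fr.M (c' • fr.u) (e • fr.u) = φ e • (c' • fr.u) := by
    intro e
    have := fr.M_smul_u hφ hc' 0 e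
    simpa using this
  have hN : ∀ x, rootMap (F := F) (c • fr.ψ) fr.u x = (c * fr.ψ x) • fr.u := fun x => by simp
  have hM2 : ∀ x, fr.M (c' • fr.u) (fr.M (c' • fr.u) x) = 0 := by
    intro x
    obtain ⟨d, hd, e, he⟩ := fr.M_range (c' • fr.u) x
    rw [he, map_add, fr.M_u _ d hd, map_smul, fr.M_w, smul_zero, add_zero]
  have h := (hX.root (show (c • fr.ψ) fr.u = 0 by simp [fr.ψu])).commutator
    (fr.M_mem (c' • fr.u)) (LinearMap.ext fun x => by simp [fr.ψu])
    (LinearMap.ext hM2)
    (LinearMap.ext fun x => by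
      simp only [LinearMap.comp_apply, hN, hval, map_smul, LinearMap.map_smul_of_tower]
      simp [fr.ψu])
    (LinearMap.ext fun x => by
      simp only [LinearMap.comp_apply, hN, hα]
      rw [← Algebra.commutes, ← Algebra.smul_def, smul_assoc, map_smul, fr.M_u _ c hc, smul_zero]
      rfl)
  rw [mem_fiber]
  convert h using 1
  ext x
  simp only [off_apply, LinearMap.sub_apply, LinearMap.comp_apply, LinearMap.mulLeft_apply,
    Algebra.linearMap_apply, hN, hα, hval]
  rw [sub_smul, mul_comm c' _, mul_smul _ c' fr.u, algebraMap_smul]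

/-- Degree at least three. -/
theorem fiber_eq_top_of_three (hX : ContainsSL K X) (hr : 3 ≤ Module.finrank F K)
    (hprime : (Module.finrank F K).Prime) (fr : Frame X K) (f : K →ₗ[F] K) : f ∈ fr.fiber := by
  haveI : Finite F := Finite.of_injective _ (algebraMap F K).injective
  refine bimodule_eq_top (fiber_isBimodule hX (by omega) fr) (id_mem hX fr) (fun σ hσ => ?_) f
  obtain ⟨φ, hφ0, hφa, hφ⟩ := fr.exists_phi
  obtain ⟨t, ht⟩ := exists_trace_eq φ
  have ht0 : t ≠ 0 := by
    intro h0
    have h := ht fr.a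
    simp [hφa, h0] at h
  -- an element of `Dk` moved by `σ`
  obtain ⟨c, hc, hcσ⟩ : ∃ c ∈ fr.Dk, σ c ≠ c := by
    let S : Subalgebra F K :=
      { carrier := {x | σ x = x}
        mul_mem' := fun {a b} (ha : σ a = a) (hb : σ b = b) => by
          show σ (a * b) = a * b; rw [map_mul, ha, hb]
        one_mem' := map_one σ
        add_mem' := fun {a b} (ha : σ a = a) (hb : σ b = b) => by
          show σ (a + b) = a + b; rw [map_add, ha, hb]
        zero_mem' := map_zero σ
        algebraMap_mem' := fun c => σ.commutes c }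
    by_contra h
    push Not at h
    haveI := Subalgebra.isSimpleOrder_of_finrank_prime F K hprime
    rcases IsSimpleOrder.eq_bot_or_eq_top S with hS | hS
    · have hle : fr.Dk ≤ Subalgebra.toSubmodule S := fun x hx => h x hx
      have h1 := Submodule.finrank_mono hle
      rw [hS, Subalgebra.finrank_toSubmodule, Subalgebra.finrank_bot] at h1
      have := fr.finrank_Dk
      omega
    · apply hσ
      ext x
      have : x ∈ S := by rw [hS]; exact Algebra.mem_top
      exact this
  by_contra hall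
  push Not at hall
  -- the coefficient of `σ` in the commutators
  have coef : ∀ e e' : K, e ∈ fr.Dk → e' ∈ fr.Dk → ∀ (α : K →ₗ[F] F) (θ : K),
      (∀ x, fr.ψ (fr.M (e' • fr.u) x) = algebraMap F K (α (fr.ψ x))) →
      (∀ y, algebraMap F K (α y) = ∑ σ : Gal(K/F), σ (θ * y)) →
      e * σ θ = e' * σ (t * e) := by
    intro e e' he he' α θ hα hθ
    have hmem := fr.commutator_mem hX hφ0 hφ he he' hα
    rw [← sub_eq_zero]
    refine hall (fun τ => e * τ θ - e' * τ (t * e)) ?_
    convert hmem using 1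
    ext y
    simp only [autSum_apply, LinearMap.sub_apply, LinearMap.comp_apply, LinearMap.mulLeft_apply,
      Algebra.linearMap_apply, hθ, ht, Finset.mul_sum, ← Finset.sum_sub_distrib, map_mul]
    refine Finset.sum_congr rfl fun τ _ => ?_
    ring
  obtain ⟨α₁, -, hα₁⟩ := fr.exists_alpha hφ fr.one_mem
  obtain ⟨θ₁, hθ₁⟩ := exists_trace_eq α₁
  have h11 := coef 1 1 fr.one_mem fr.one_mem α₁ θ₁ hα₁ hθ₁
  have hc1 := coef c 1 hc fr.one_mem α₁ θ₁ hα₁ hθ₁
  rw [one_mul, one_mul, mul_one] at h11
  rw [one_mul, h11, map_mul, mul_comm (σ t) (σ c)] at hc1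
  exact hcσ ((mul_right_cancel₀ ((map_ne_zero σ).mpr ht0) hc1).symm)

/-- Degree two: either the fiber is everything or the scalar is the trace of `a`. -/
theorem fiber_top_or_field_two (hX : ContainsSL K X) (hr : Module.finrank F K = 2)
    (fr : Frame X K) {φ : K →ₗ[F] F} (hφ0 : ∀ d ∈ fr.Dk, φ d = 0) (hφa : φ fr.a = 1)
    (hφ : ∀ e, e - algebraMap F K (φ e) * fr.a ∈ fr.Dk) {e : F} (he : e ≠ 0) {s t : F}
    (hst : fr.a * fr.a = algebraMap F K s * fr.a + algebraMap F K t) :
    (∀ f : K →ₗ[F] K, f ∈ fr.fiber) ∨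
      (e = s ∧ (2 : F) = 0 ∧ ∀ x, fr.ψ (fr.M (algebraMap F K e • fr.u) x)
        = algebraMap F K (e * φ (fr.ψ x))) := by
  have heD : algebraMap F K e ∈ fr.Dk := by
    rw [Algebra.algebraMap_eq_smul_one]; exact fr.Dk.smul_mem e fr.one_mem
  obtain ⟨α, hα1, hα⟩ := fr.exists_alpha hφ heD
  have hφ1 : φ 1 = 0 := hφ0 1 fr.one_mem
  obtain ⟨γ, hγ, hγx⟩ := fr.M_mem (algebraMap F K e • fr.u)
  have hMu : ∀ y : K, fr.M (algebraMap F K e • fr.u) (y • fr.u)
      = (algebraMap F K (e * φ y)) • fr.u := by
    intro y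
    have := fr.M_smul_u hφ heD 0 y
    rw [zero_smul, add_zero] at this
    rw [this, ← algebraMap_smul K (φ y), smul_smul, ← map_mul, mul_comm]
  -- conjugates of the standard roots
  have hfb : ∀ b : K,
      (LinearMap.id + Algebra.linearMap F K ∘ₗ (e • φ)) ∘ₗ LinearMap.mulLeft F b ∘ₗ
        (LinearMap.id - Algebra.linearMap F K ∘ₗ α) ∈ fr.fiber := by
    intro b
    have h := (hX.root (show (b • fr.ψ) fr.u = 0 by simp [fr.ψu])).conj hγ
    rw [mem_fiber]
    convert h using 1
    ext x
    have hinv : fr.ψ (γ.symm x) = fr.ψ x - algebraMap F K (α (fr.ψ x)) := by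
      have e1 : x = γ.symm x + fr.M (algebraMap F K e • fr.u) (γ.symm x) := by
        rw [← hγx, γ.apply_symm_apply]
      have e2 : fr.M (algebraMap F K e • fr.u) x
          = fr.M (algebraMap F K e • fr.u) (γ.symm x) := by
        conv_lhs => rw [e1]
        obtain ⟨d, hd, c, hc⟩ := fr.M_range (algebraMap F K e • fr.u) (γ.symm x)
        rw [map_add, hc, map_add, fr.M_u _ d hd, map_smul, fr.M_w]
        simp
      rw [eq_sub_iff_add_eq, ← hα, e2]
      conv_rhs => rw [e1, map_add]
    simp only [LinearMap.comp_apply, LinearEquiv.coe_coe, rootMap_apply, LinearMap.smul_apply,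
      smul_eq_mul, off_apply, hinv, hγx, hMu, LinearMap.add_apply, LinearMap.id_apply,
      LinearMap.mulLeft_apply, LinearMap.sub_apply, Algebra.linearMap_apply]
    rw [← add_smul]
  by_cases hlin : ∀ b : K, ∃ β : K, ∀ y,
      b * (y - algebraMap F K (α y)) + algebraMap F K (e * φ (b * (y - algebraMap F K (α y))))
        = β * y
  swap
  · push Not at hlin
    obtain ⟨b, hb⟩ := hlin
    left
    refine bimodule_eq_top_of_two hr (fiber_isBimodule hX (by omega) fr) (id_mem hX fr) (hfb b) ?_
    intro β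
    obtain ⟨y, hy⟩ := hb β
    exact ⟨y, by simpa using hy⟩
  right
  have hbeta : ∀ b y : K,
      b * (y - algebraMap F K (α y)) + algebraMap F K (e * φ (b * (y - algebraMap F K (α y))))
        = (b + algebraMap F K (e * φ b)) * y := by
    intro b y
    obtain ⟨β, hβ⟩ := hlin b
    have h1 := hβ 1
    rw [hα1, map_zero, sub_zero, mul_one, mul_one] at h1
    rw [hβ y, h1]
  have hαφ : ∀ y, α y = e * φ y := by
    intro y
    have h := hbeta 1 y
    simp only [one_mul, hφ1, mul_zero, map_zero, add_zero, map_sub] at h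
    have h2 : φ (algebraMap F K (α y)) = 0 := by
      rw [Algebra.algebraMap_eq_smul_one, map_smul, hφ1, smul_zero]
    simp only [Algebra.linearMap_apply, h2, sub_zero] at h
    apply (algebraMap F K).injective
    linear_combination -h
  have hmul : ∀ b z : K,
      b * z + algebraMap F K (e * φ (b * z))
        = (b + algebraMap F K (e * φ b)) * (z + algebraMap F K (e * φ z)) := by
    intro b z
    have h := hbeta b (z + algebraMap F K (e * φ z))
    have h2 : α (z + algebraMap F K (e * φ z)) = e * φ z := by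
      rw [hαφ, map_add, Algebra.algebraMap_eq_smul_one, map_smul, hφ1, smul_zero, add_zero]
    rw [h2, add_sub_cancel_right] at h
    exact h
  have hsq := hmul fr.a fr.a
  rw [hφa, mul_one, hst, map_add, ← Algebra.smul_def, map_smul, hφa,
    Algebra.algebraMap_eq_smul_one t, map_smul, hφ1, smul_zero, add_zero, smul_eq_mul, mul_one,
    Algebra.smul_def, ← Algebra.algebraMap_eq_smul_one, map_mul] at hsq
  -- compare coordinates along `a`
  have hkey : algebraMap F K (2 * e) * fr.a = algebraMap F K (e * s - e * e) := by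
    rw [map_mul, map_sub, map_mul, map_mul, map_ofNat]
    linear_combination -hsq - hst
  have h2e : 2 * e = 0 := by
    by_contra hne
    apply fr.a_notMem
    have : fr.a = algebraMap F K ((2 * e)⁻¹ * (e * s - e * e)) := by
      rw [map_mul, ← hkey, ← mul_assoc, ← map_mul, inv_mul_cancel₀ hne, map_one, one_mul]
    rw [this, Algebra.algebraMap_eq_smul_one]
    exact fr.Dk.smul_mem _ fr.one_mem
  refine ⟨?_, (mul_eq_zero.mp h2e).resolve_right he, fun x => by rw [hα, hαφ]⟩
  rw [h2e, map_zero, zero_mul, eq_comm, map_eq_zero_iff _ (algebraMap F K).injective,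
    sub_eq_zero] at hkey
  exact (mul_left_cancel₀ he hkey).symm

end Frame

end CfsgLib.ExtField
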