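import Mathlib

/-!
# A small system of quadratic forms over a prime field has a non-zero common zero
-/

set_option autoImplicit false

namespace CfsgLib.ExtField

open MvPolynomial

/-- If the diagonal of a biadditive map on `W` takes its values in `Z` and `|Z|² < |W|`,
it vanishes at a non-zero vector. -/
theorem exists_diag_eq_zero {p : ℕ} [Fact p.Prime] {W U : Type*} [AddCommGroup W]
    [AddCommGroup U] [Module (ZMod p) W] [Module (ZMod p) U] [Finite W] [Finite U]
    (B : W →+ W →+ U) (Z : Submodule (ZMod p) U) (hZ : ∀ x, B x x ∈ Z)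
    (hcard : Nat.card Z * Nat.card Z < Nat.card W) : ∃ x : W, x ≠ 0 ∧ B x x = 0 := by
  classical
  have hp : 1 < p := (Fact.out : p.Prime).one_lt
  obtain ⟨π, hπ⟩ := Z.subtype.exists_leftInverse_of_injective Z.ker_subtype
  let e := Module.finBasis (ZMod p) W
  let z := Module.finBasis (ZMod p) Z
  have hdeg : 2 * Module.finrank (ZMod p) Z < Module.finrank (ZMod p) W := by
    rw [Module.natCard_eq_pow_finrank (K := ZMod p), Module.natCard_eq_pow_finrank (K := ZMod p)
      (V := W), Nat.card_zmod, ← pow_add, Nat.pow_lt_pow_iff_right hp] at hcard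
    omega
  let c : Fin (Module.finrank (ZMod p) Z) → Fin (Module.finrank (ZMod p) W) →
      Fin (Module.finrank (ZMod p) W) → ZMod p := fun i j k => z.repr (π (B (e j) (e k))) i
  let P : Fin (Module.finrank (ZMod p) Z) → MvPolynomial (Fin (Module.finrank (ZMod p) W)) (ZMod p) :=
    fun i => ∑ j, ∑ k, C (c i j k) * X j * X k
  have htd : (∑ i ∈ Finset.univ, (P i).totalDegree)
      < Fintype.card (Fin (Module.finrank (ZMod p) W)) := by
    have h2 : ∀ i, (P i).totalDegree ≤ 2 := fun i => by
      refine totalDegree_finsetSum_le fun j _ => totalDegree_finsetSum_le fun k _ => ?_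
      refine (totalDegree_mul _ _).trans ?_
      refine (Nat.add_le_add_right (totalDegree_mul _ _) _).trans ?_
      rw [totalDegree_C, totalDegree_X, totalDegree_X]
    calc (∑ i ∈ Finset.univ, (P i).totalDegree)
        ≤ ∑ _i : Fin (Module.finrank (ZMod p) Z), 2 := Finset.sum_le_sum fun i _ => h2 i
      _ < _ := by simp; omega
  have hdvd : p ∣ Nat.card { x : Fin (Module.finrank (ZMod p) W) → ZMod p //
      ∀ i ∈ (Finset.univ : Finset (Fin (Module.finrank (ZMod p) Z))), eval x (P i) = 0 } := by
    rw [Nat.card_eq_fintype_card]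
    convert char_dvd_card_solutions_of_sum_lt p htd
  have heval : ∀ (i) (x : W), eval (fun j => e.repr x j) (P i) = z.repr (π (B x x)) i := by
    intro i x
    let BL : W →ₗ[ZMod p] W →ₗ[ZMod p] U := LinearMap.mk₂ (ZMod p) (fun x y => B x y)
      (fun x x' y => by simp) (fun a x y => by simpa using ZMod.map_smul (B.flip y) a x)
      (fun x y y' => by simp) (fun a x y => ZMod.map_smul (B x) a y)
    have hx : B x x = ∑ j, ∑ k, e.repr x j • e.repr x k • B (e j) (e k) := by
      show BL x x = _
      conv_lhs => rw [← e.sum_repr x]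
      simp only [map_sum, LinearMap.map_smul, LinearMap.sum_apply, LinearMap.smul_apply,
        Finset.smul_sum]
      rw [Finset.sum_comm]
      refine Finset.sum_congr rfl fun j _ => Finset.sum_congr rfl fun k _ => ?_
      rfl
    simp only [P, map_sum, eval_mul, eval_C, eval_X, hx, map_smul, Finsupp.coe_finsetSum,
      Finset.sum_apply, Finsupp.coe_smul, Pi.smul_apply, smul_eq_mul, c]
    exact Finset.sum_congr rfl fun j _ => Finset.sum_congr rfl fun k _ => by ring
  by_contra hc
  push Not at hc
  have _ : Subsingleton { x : Fin (Module.finrank (ZMod p) W) → ZMod p //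
      ∀ i ∈ (Finset.univ : Finset (Fin (Module.finrank (ZMod p) Z))), eval x (P i) = 0 } := by
    refine ⟨fun a b => ?_⟩
    have key : ∀ a : { x : Fin (Module.finrank (ZMod p) W) → ZMod p //
        ∀ i ∈ (Finset.univ : Finset (Fin (Module.finrank (ZMod p) Z))), eval x (P i) = 0 },
        a.1 = 0 := by
      intro a
      obtain ⟨x, hx⟩ := e.equivFun.surjective a.1
      have hx' : (fun j => e.repr x j) = a.1 := by rw [← hx]; rfl
      have h0 : π (B x x) = 0 := by
        apply z.repr.injective
        ext i
        rw [← heval i x, hx', a.2 i (Finset.mem_univ i)]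
        simp
      have h1 : B x x = 0 := by
        have := LinearMap.congr_fun hπ ⟨B x x, hZ x⟩
        simp only [LinearMap.comp_apply, Submodule.subtype_apply, LinearMap.id_apply] at this
        rw [h0] at this
        exact (congrArg Subtype.val this).symm
      rcases eq_or_ne x 0 with rfl | hx0
      · rw [← hx, map_zero]
      · exact absurd h1 (hc x hx0)
    exact Subtype.ext ((key a).trans (key b).symm)
  have _ : Nonempty { x : Fin (Module.finrank (ZMod p) W) → ZMod p //
      ∀ i ∈ (Finset.univ : Finset (Fin (Module.finrank (ZMod p) Z))), eval x (P i) = 0 } :=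
    ⟨⟨0, fun i _ => by simp [P]⟩⟩
  rw [Nat.card_eq_one_iff_unique.mpr ⟨inferInstance, inferInstance⟩]
    at hdvd
  exact (Fact.out : p.Prime).not_dvd_one hdvd

end CfsgLib.ExtField
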