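import Cfsg.Agent.ExtField.Basic

/-!
# Symplectic groups over an extension field inside symplectic groups over the ground field

`h` is a non-degenerate alternating `K`-form on `V` and `f` its trace to `F`.
-/

set_option autoImplicit false

namespace CfsgLib.ExtField

open Module

variable {F K V : Type*} [Field F] [Field K] [Algebra F K] [AddCommGroup V] [Module F V]
  [Module K V] [IsScalarTower F K V]

variable (F K V) in
/-- An alternating form over `K` and its trace. -/
structure SympTower where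
  f : V →ₗ[F] V →ₗ[F] F
  h : V →ₗ[K] V →ₗ[K] K
  tr : ∀ x y, f x y = Algebra.trace F K (h x y)
  alt : ∀ x, h x x = 0
  nondeg : ∀ x, x ≠ 0 → ∃ y, h x y ≠ 0

namespace SympTower

variable (S : SympTower F K V)

theorem h_swap (x y : V) : S.h y x = -S.h x y := by
  have h1 := S.alt (x + y)
  simp only [map_add, LinearMap.add_apply, S.alt, zero_add, add_zero] at h1
  exact eq_neg_of_add_eq_zero_left h1

theorem f_alt (x : V) : S.f x x = 0 := by rw [S.tr, S.alt, map_zero]

theorem f_swap (x y : V) : S.f y x = -S.f x y := by rw [S.tr, S.tr, S.h_swap x y, map_neg]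

theorem f_smul_smul (u : V) (k l : K) : S.f (k • u) (l • u) = 0 := by simp [S.tr, S.alt]

/-- The elements preserving the form. -/
def Preserves (g : V ≃ₗ[F] V) : Prop := ∀ x y, S.f (g x) (g y) = S.f x y

theorem Preserves.symm {g : V ≃ₗ[F] V} (h : S.Preserves g) : S.Preserves g.symm := fun x y => by
  rw [← h, g.apply_symm_apply, g.apply_symm_apply]

/-- `X` lies in the symplectic group over `F` and contains the one over `K`. -/
structure Between (X : Subgroup (V ≃ₗ[F] V)) : Prop where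
  preserves : ∀ g ∈ X, S.Preserves g
  contains : ∀ g : V ≃ₗ[K] V, (∀ x y, S.h (g x) (g y) = S.h x y) → g.restrictScalars F ∈ X

/-- The square map of a vector. -/
def sq (v : V) : V →ₗ[F] V := (S.f.flip v).smulRight v

@[simp] theorem sq_apply (v x : V) : S.sq v x = S.f x v • v := rfl

/-- The symmetric product of two vectors. -/
def pair (p q : V) : V →ₗ[F] V := (S.f.flip p).smulRight q + (S.f.flip q).smulRight p

@[simp] theorem pair_apply (p q x : V) : S.pair p q x = S.f x p • q + S.f x q • p := rfl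

/-- The root map of `u` with parameter `b`. -/
def root (b : K) (u : V) : V →ₗ[F] V := rootMap (b • S.h.flip u) u

@[simp] theorem root_apply (b : K) (u x : V) : S.root b u x = (b * S.h x u) • u := rfl

theorem Between.root {X : Subgroup (V ≃ₗ[F] V)} (hX : S.Between X) (b : K) (u : V) :
    MemOne X (S.root b u) := by
  have h0 : (b • S.h.flip u) u = 0 := by simp [S.alt]
  refine ⟨_, hX.contains (LinearEquiv.transvection h0) (fun x y => ?_),
    fun x => LinearEquiv.transvection.apply h0 x⟩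
  rw [LinearEquiv.transvection.apply, LinearEquiv.transvection.apply]
  simp only [LinearMap.smul_apply, LinearMap.flip_apply, smul_eq_mul, map_add, map_smul,
    LinearMap.add_apply, LinearMap.smul_apply, S.alt, S.h_swap y u]
  ring

/-- An element of `X` fixing the orthogonal of `a, b` and sending `a` to `b`, when `h a b ≠ 0`. -/
theorem Between.step {X : Subgroup (V ≃ₗ[F] V)} (hX : S.Between X) {a b : V} (hab : S.h a b ≠ 0) :
    ∃ g ∈ X, (∀ (k : K) x, g (k • x) = k • g x) ∧ g a = b ∧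
      ∀ x, S.h x a = 0 → S.h x b = 0 → g x = x := by
  obtain ⟨g, hg, hgx⟩ := hX.root S (S.h a b)⁻¹ (b - a)
  refine ⟨g, hg, fun k x => ?_, ?_, fun x ha hb => ?_⟩
  · rw [hgx, hgx, root_apply, root_apply, map_smul, LinearMap.smul_apply, smul_eq_mul, smul_add,
      smul_smul]
    ring_nf
  · rw [hgx, root_apply, map_sub, S.alt, sub_zero, inv_mul_cancel₀ hab, one_smul]
    abel
  · rw [hgx, root_apply, map_sub, ha, hb, sub_zero, mul_zero, zero_smul, add_zero]

/-- An element of `X` sending `a` to `b`, fixing what is orthogonal to `a, b, z`. -/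
theorem Between.move {X : Subgroup (V ≃ₗ[F] V)} (hX : S.Between X) {a b z : V}
    (haz : S.h a z ≠ 0) (hzb : S.h z b ≠ 0) :
    ∃ g ∈ X, (∀ (k : K) x, g (k • x) = k • g x) ∧ g a = b ∧
      ∀ x, S.h x a = 0 → S.h x b = 0 → S.h x z = 0 → g x = x := by
  obtain ⟨g₁, hg₁, hl₁, ha₁, hf₁⟩ := hX.step S haz
  obtain ⟨g₂, hg₂, hl₂, hb₂, hf₂⟩ := hX.step S hzb
  refine ⟨g₂ * g₁, X.mul_mem hg₂ hg₁, fun k x => ?_, ?_, fun x ha hb hz => ?_⟩
  · show g₂ (g₁ (k • x)) = k • g₂ (g₁ x)
    rw [hl₁, hl₂]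
  · show g₂ (g₁ a) = b
    rw [ha₁, hb₂]
  · show g₂ (g₁ x) = x
    rw [hf₁ x ha hz, hf₂ x hz hb]

/-- A vector orthogonal to neither of two non-zero vectors. -/
theorem exists_nonorth {a b : V} (ha : a ≠ 0) (hb : b ≠ 0) :
    ∃ z, S.h a z ≠ 0 ∧ S.h z b ≠ 0 := by
  obtain ⟨z₁, h₁⟩ := S.nondeg a ha
  obtain ⟨z₂, h₂⟩ := S.nondeg b hb
  have h₂' : S.h z₂ b ≠ 0 := by rw [S.h_swap b z₂]; exact neg_ne_zero.mpr h₂
  by_cases c₁ : S.h z₁ b = 0
  · by_cases c₂ : S.h a z₂ = 0
    · exact ⟨z₁ + z₂, by rwa [map_add, c₂, add_zero],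
        by rwa [map_add, LinearMap.add_apply, c₁, zero_add]⟩
    · exact ⟨z₂, c₂, h₂'⟩
  · exact ⟨z₁, h₁, c₁⟩

theorem sq_smul (c : F) (v : V) : S.sq (c • v) = (c * c) • S.sq v := by
  ext x
  simp [smul_smul]
  ring_nf

theorem sq_sq (c : F) (v : V) : (c • S.sq v) ∘ₗ (c • S.sq v) = 0 := by
  ext x
  simp [S.f_alt]

theorem conj_sq {g : V ≃ₗ[F] V} (hg : S.Preserves g) (c : F) (v : V) :
    g.toLinearMap ∘ₗ (c • S.sq v) ∘ₗ g.symm.toLinearMap = c • S.sq (g v) := by
  ext x
  have e : S.f (g.symm x) v = S.f x (g v) := by rw [← hg, g.apply_symm_apply]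
  simp [e]

variable [Finite K] [FiniteDimensional F K]

omit [Finite K] [FiniteDimensional F K] in
theorem exists_f_ne {x : V} (hx : x ≠ 0) [Finite K] [FiniteDimensional F K] :
    ∃ y, S.f x y ≠ 0 := by
  haveI : Finite F := Finite.of_injective _ (algebraMap F K).injective
  obtain ⟨y, hy⟩ := S.nondeg x hx
  obtain ⟨k, hk⟩ := Algebra.trace_surjective F K 1
  refine ⟨(k / S.h x y) • y, ?_⟩
  rw [S.tr, map_smul, smul_eq_mul, div_mul_cancel₀ k hy, hk]
  exact one_ne_zero

/-- One transvection gives all of them. -/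
theorem Between.forall_sq {X : Subgroup (V ≃ₗ[F] V)} (hX : S.Between X) {v₀ : V} {c₀ : F}
    (hv₀ : v₀ ≠ 0) (hc₀ : c₀ ≠ 0) (h₀ : MemOne X (c₀ • S.sq v₀)) (c : F) (v : V) :
    MemOne X (c • S.sq v) := by
  haveI : Finite F := Finite.of_injective _ (algebraMap F K).injective
  rcases eq_or_ne v 0 with rfl | hv
  · rw [show c • S.sq 0 = 0 by ext x; simp]
    exact MemOne.zero X
  -- every multiple `e² c₀` of every centre
  have hsq : ∀ e : F, MemOne X ((c₀ * (e * e)) • S.sq v) := by
    intro e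
    rcases eq_or_ne e 0 with rfl | he
    · rw [show (c₀ * (0 * 0)) • S.sq v = 0 by ext x; simp]
      exact MemOne.zero X
    have hev : e • v ≠ 0 := smul_ne_zero he hv
    obtain ⟨z, hz1, hz2⟩ := S.exists_nonorth hv₀ hev
    obtain ⟨g, hg, -, hgv, -⟩ := hX.move S hz1 hz2
    have := h₀.conj hg
    rw [S.conj_sq (hX.preserves g hg), hgv, sq_smul, smul_smul] at this
    exact this
  by_cases h2 : (2 : F) = 0
  · haveI : CharP F 2 := CharTwo.of_one_ne_zero_of_two_eq_zero one_ne_zero h2
    haveI : PerfectRing F 2 := PerfectRing.ofFiniteOfIsReduced 2 F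
    obtain ⟨e, he⟩ := surjective_frobenius F 2 (c / c₀)
    have := hsq e
    rw [← pow_two, ← frobenius_def, he, mul_div_cancel₀ c hc₀] at this
    exact this
  · set e₁ := (c / c₀ + 1) / 2
    set e₂ := (c / c₀ - 1) / 2
    have := (hsq e₁).add ((hsq e₂).neg (S.sq_sq _ _)) (by ext x; simp [S.f_alt])
    convert this using 1
    rw [← sub_eq_add_neg, ← sub_smul]
    congr 1
    simp only [e₁, e₂]
    field_simp
    ring

end SympTower

end CfsgLib.ExtField
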