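import Cfsg.Agent.ExtField.SympBasic
import Cfsg.Agent.ExtField.Meet

/-!
# Lines with large intersection in the symplectic case
-/

set_option autoImplicit false

namespace CfsgLib.ExtField

open Module

variable {F K V : Type*} [Field F] [Field K] [Algebra F K] [AddCommGroup V] [Module F V]
  [Module K V] [IsScalarTower F K V]

/-- A group is not the union of two proper subgroups. -/
theorem exists_notMem_two {G : Type*} [AddGroup G] {S T : AddSubgroup G} (hS : ∃ x, x ∉ S)
    (hT : ∃ x, x ∉ T) : ∃ x, x ∉ S ∧ x ∉ T := by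
  obtain ⟨a, ha⟩ := hS
  obtain ⟨b, hb⟩ := hT
  by_cases haT : a ∈ T
  swap
  · exact ⟨a, ha, haT⟩
  by_cases hbS : b ∈ S
  swap
  · exact ⟨b, hbS, hb⟩
  refine ⟨a + b, fun h => ha ?_, fun h => hb ?_⟩
  · simpa using S.sub_mem h hbS
  · simpa using T.add_mem (T.neg_mem haT) h

namespace SympTower

variable (S : SympTower F K V) [Finite K] [FiniteDimensional F K] [FiniteDimensional K V]

omit [FiniteDimensional K V] in
theorem eq_zero_of_forall_f {x : V} (h : ∀ y, S.f x y = 0) : x = 0 := by
  by_contra hx
  obtain ⟨y, hy⟩ := S.exists_f_ne hx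
  exact hy (h y)

/-- A `K`-linear conjugate of a scalar commuting with its conjugates by transvections is scalar. -/
theorem scalar_of_commute (hm : 2 ≤ Module.finrank K V) {T : V →ₗ[K] V} {Q : ℕ} (hQ : 0 < Q)
    (hQ2 : (2 : K) = 0 → 2 ∣ Q) (hTQ : ∀ x, (fun y => T y)^[Q] x = T x)
    (hself : ∀ x y, S.h (T x) y = S.h x (T y)) (hperp : ∀ z, S.h (T z) z = 0)
    (hcomm : ∀ z x, T (S.h (T x) z • z - S.h x z • T z)
      = S.h (T (T x)) z • z - S.h (T x) z • T z) :
    ∃ c : K, ∀ x, T x = c • x := by
  have hm' : ∀ u : V, ∃ z, z ∉ Submodule.span K ({u} : Set V) :=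
    fun u => exists_notMem_span_singleton hm
  suffices h : ∀ z, ∃ c : K, T z = c • z from
    exists_scalar hm' (T := T.toAddMonoidHom) h
  by_cases h2 : (2 : K) = 0
  · -- characteristic two: the square is scalar
    have hsq : ∀ z, ∃ c : K, T (T z) = c • z := by
      intro z
      rcases eq_or_ne z 0 with rfl | hz0
      · exact ⟨0, by simp⟩
      by_cases hz : T z ∈ Submodule.span K ({z} : Set V)
      · obtain ⟨c, hc⟩ := Submodule.mem_span_singleton.mp hz
        exact ⟨c * c, by rw [← hc, map_smul, ← hc, smul_smul]⟩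
      obtain ⟨x, hx⟩ := S.nondeg z hz0
      refine ⟨S.h x (T (T z)) / S.h x z, ?_⟩
      have hxz : S.h x z ≠ 0 := by rw [S.h_swap z x]; exact neg_ne_zero.mpr hx
      have h := hcomm z x
      simp only [map_sub, map_smul, hself] at h
      have e : S.h x (T z) • T z + S.h x (T z) • T z = 0 := by
        rw [← add_smul, ← two_mul, h2, zero_mul, zero_smul]
      have h' : S.h x z • T (T z) = -(S.h x (T (T z)) • z) := by
        linear_combination (norm := module) (-1 : K) • h + e
      rw [← neg_smul, show -S.h x (T (T z)) = S.h x (T (T z)) by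
        linear_combination (-(S.h x (T (T z)))) * h2] at h'
      rw [div_eq_inv_mul, ← smul_smul, ← h', inv_smul_smul₀ hxz]
    obtain ⟨lam, hlam⟩ := exists_scalar hm' (T := (T ∘ₗ T).toAddMonoidHom) hsq
    obtain ⟨j, rfl⟩ := hQ2 h2
    intro z
    have e : ∀ i x, (fun y => T y)^[2 * i] x = lam ^ i • x := by
      intro i
      induction i with
      | zero => intro x; simp
      | succ i ih =>
        intro x
        have e2 : T (T x) = lam • x := hlam x
        rw [show 2 * (i + 1) = 2 * i + 2 by ring, Function.iterate_add_apply, ih]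
        show lam ^ i • T (T x) = _
        rw [e2, smul_smul, pow_succ]
    exact ⟨lam ^ j, by rw [← hTQ, e]⟩
  · intro z
    by_contra hc
    push Not at hc
    have hz : T z ∉ Submodule.span K ({z} : Set V) := by
      intro h
      obtain ⟨c, hc'⟩ := Submodule.mem_span_singleton.mp h
      exact hc c hc'.symm
    obtain ⟨φ, hφz, hφT⟩ := exists_dual_zero_one hz
    obtain ⟨x, hx⟩ : ∃ x, ∀ y, S.h x y = φ y := by
      have hinj : Function.Injective S.h := by
        rw [← LinearMap.ker_eq_bot, Submodule.eq_bot_iff]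
        intro x hx
        by_contra hx0
        obtain ⟨y, hy⟩ := S.nondeg x hx0
        rw [LinearMap.mem_ker] at hx
        exact hy (by rw [hx]; rfl)
      have hd : Module.finrank K V = Module.finrank K (V →ₗ[K] K) :=
        Subspace.dual_finrank_eq.symm
      obtain ⟨x, hx⟩ := (LinearMap.injective_iff_surjective_of_finrank_eq_finrank hd).mp hinj φ
      exact ⟨x, fun y => by rw [hx]⟩
    have h := hcomm z x
    simp only [map_sub, map_smul, hself, hx, hφz, hφT, one_smul, zero_smul, sub_zero] at h
    refine hc (φ (T (T z)) / 2) ?_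
    rw [div_eq_inv_mul, ← smul_smul]
    have h3 : (2 : K) • T z = φ (T (T z)) • z := by
      linear_combination (norm := module) h
    rw [← h3, inv_smul_smul₀ h2]

omit [FiniteDimensional F K] in
theorem two_dvd_card (h2 : (2 : K) = 0) : 2 ∣ Nat.card K := by
  haveI : CharP K 2 := CharTwo.of_one_ne_zero_of_two_eq_zero one_ne_zero h2
  haveI : Fintype K := Fintype.ofFinite K
  obtain ⟨n, hp, hc⟩ := FiniteField.card K 2
  rw [Nat.card_eq_fintype_card, hc]
  exact dvd_pow_self 2 n.ne_zero

/-- If every image of every line is totally isotropic over `K`, the group normalises `K`. -/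
theorem normalizes_of_perp {X : Subgroup (V ≃ₗ[F] V)} (hX : S.Between X)
    (hm : 2 ≤ Module.finrank K V)
    (hperp : ∀ g ∈ X, ∀ (w : V) (k : K), S.h (g w) (g (k • w)) = 0) {g : V ≃ₗ[F] V}
    (hg : g ∈ X) (k : K) : ∃ k' : K, ∀ v, g (k • g.symm v) = k' • v := by
  -- the conjugates of a scalar are `K`-linear
  have hlin : ∀ g ∈ X, ∀ c l : K, ∀ x, g.symm (c • g (l • x)) = l • g.symm (c • g x) := by
    intro g hg c l y
    have hβ : ∀ x y : V, S.f (g x) (c • g y) = S.f x (g.symm (c • g y)) := fun x y => by
      rw [← (hX.preserves g hg) x (g.symm (c • g y)), g.apply_symm_apply]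
    have hvan : ∀ (x : V) (l : K), S.f (g x) (c • g (l • x)) = 0 := fun x l => by
      rw [S.tr, map_smul, hperp g hg x l, smul_zero, map_zero]
    have halt : ∀ x y, S.f (g x) (c • g y) = -S.f (g y) (c • g x) := fun x y => by
      simp only [S.tr, map_smul]; rw [S.h_swap (g x) (g y), smul_neg, map_neg, neg_neg]
    have hsym : ∀ x y : V, S.f (g x) (c • g (l • y)) = S.f (g (l • x)) (c • g y) := by
      intro x y
      have h := hvan (x + y) l
      simp only [smul_add, map_add, LinearMap.add_apply, hvan, zero_add, add_zero] at h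
      rw [halt (l • x) y]
      linear_combination h
    rw [← sub_eq_zero]
    refine S.eq_zero_of_forall_f fun z => ?_
    rw [S.f_swap z, map_sub, neg_eq_zero, sub_eq_zero, ← hβ, hsym, hβ]
    simp [S.tr]
  let T : V →ₗ[K] V :=
    { toFun := fun x => g (k • g.symm x)
      map_add' := fun x y => by simp
      map_smul' := fun l x => hlin g.symm (X.inv_mem hg) k l x }
  have hT : ∀ x, T x = g (k • g.symm x) := fun _ => rfl
  have hfT : ∀ x y, S.f x (T y) = S.f (g.symm x) (k • g.symm y) := fun x y => by
    rw [hT, ← (hX.preserves g hg) (g.symm x), g.apply_symm_apply]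
  have hfself : ∀ x y, S.f (T x) y = S.f x (T y) := by
    intro x y
    rw [S.f_swap y, hfT, hfT]
    simp only [S.tr, map_smul]
    rw [S.h_swap (g.symm x) (g.symm y), smul_neg, map_neg, neg_neg]
  -- equal traces of all multiples give equality
  have htr : ∀ a b : K, (∀ l : K, Algebra.trace F K (l * a) = Algebra.trace F K (l * b)) →
      a = b := by
    intro a b h
    haveI : Finite F := Finite.of_injective _ (algebraMap F K).injective
    by_contra hne
    obtain ⟨s, hs⟩ := Algebra.trace_surjective F K 1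
    have := h (s / (a - b))
    rw [← sub_eq_zero, ← map_sub, ← mul_sub, div_mul_cancel₀ _ (sub_ne_zero.mpr hne), hs] at this
    exact one_ne_zero this
  have hself : ∀ x y, S.h (T x) y = S.h x (T y) := by
    intro x y
    refine htr _ _ fun l => ?_
    have h := hfself (l • x) y
    rw [S.tr, S.tr] at h
    simpa using h
  have hperpT : ∀ z, S.h (T z) z = 0 := by
    intro z
    refine htr _ _ fun l => ?_
    have h : S.f (l • z) (T z) = 0 := by
      rw [hfT, S.tr, map_smul]
      have := hperp g.symm (X.inv_mem hg) z l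
      rw [S.h_swap, show S.h (g.symm z) (g.symm (l • z)) = 0 from this]
      simp
    rw [S.tr, map_smul, LinearMap.smul_apply, smul_eq_mul, ← hself] at h
    rw [mul_zero, map_zero]
    exact h
  have hcomm : ∀ z x, T (S.h (T x) z • z - S.h x z • T z)
      = S.h (T (T x)) z • z - S.h (T x) z • T z := by
    intro z
    obtain ⟨t, ht, htx⟩ := hX.root S 1 z
    simp only [root_apply, one_mul] at htx
    have hsymm : ∀ x, t.symm x = x - S.h x z • z := fun x => by
      apply t.injective
      rw [t.apply_symm_apply, htx, map_sub, map_smul, LinearMap.sub_apply, LinearMap.smul_apply,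
        S.alt, smul_zero, sub_zero]
      abel
    -- the conjugate of `T` by `t` commutes with `T`
    have hc : ∀ x, t (T (t.symm (T x))) = T (t (T (t.symm x))) := by
      intro x
      obtain ⟨e, he, he'⟩ : ∃ e ∈ X, e = g.symm * t * g :=
        ⟨_, X.mul_mem (X.mul_mem (X.inv_mem hg) ht) hg, rfl⟩
      have key : ∀ y, e (k • e.symm (k • y)) = k • e (k • e.symm y) := fun y =>
        hlin e.symm (X.inv_mem he) k k y
      have h2 := congrArg g (key (g.symm x))
      have e1 : ∀ y, e y = g.symm (t (g y)) := fun y => by rw [he']; rfl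
      have e2 : ∀ y, e.symm y = g.symm (t.symm (g y)) := fun y => by
        apply e.injective
        rw [e.apply_symm_apply, e1, g.apply_symm_apply, t.apply_symm_apply, g.symm_apply_apply]
      simp only [e1, e2, g.apply_symm_apply] at h2
      exact h2
    intro x
    have h := hc x
    simp only [htx, hsymm, map_sub, map_add, map_smul, LinearMap.add_apply, LinearMap.smul_apply,
      LinearMap.sub_apply, hperpT, smul_zero, sub_zero] at h
    simp only [map_sub, map_smul]
    linear_combination (norm := module) (-1 : K) • h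
  have hTQ : ∀ x, (fun y => T y)^[Nat.card K] x = T x := by
    intro x
    haveI : Fintype K := Fintype.ofFinite K
    have e : ∀ (i : ℕ) x, (fun y => T y)^[i] x = g (k ^ i • g.symm x) := by
      intro i
      induction i with
      | zero => intro x; simp
      | succ i ih =>
        intro x
        rw [Function.iterate_succ_apply, ih, hT, g.symm_apply_apply, smul_smul, ← pow_succ]
    rw [e, Nat.card_eq_fintype_card, FiniteField.pow_card, hT]
  obtain ⟨c, hc⟩ := S.scalar_of_commute hm Nat.card_pos (two_dvd_card (K := K)) hTQ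
    hself hperpT hcomm
  exact ⟨c, hc⟩

variable [FiniteDimensional F V]

/-- The data of a line and a line image meeting it, not orthogonal over `K`. -/
def Good (X : Subgroup (V ≃ₗ[F] V)) (g : V ≃ₗ[F] V) (w u : V) : Prop :=
  g ∈ X ∧ w ≠ 0 ∧ u ≠ 0 ∧ (∃ k : K, S.h (g (k • w)) u ≠ 0) ∧
    1 ≤ Module.finrank F ((kline F K w).map g.toLinearMap ⊓ kline F K u : Submodule F V)

/-- Enlarging the intersection. -/
theorem improve {X : Subgroup (V ≃ₗ[F] V)} (hX : S.Between X)
    (hprime : (Module.finrank F K).Prime) {g : V ≃ₗ[F] V} {w u : V} (hG : S.Good X g w u)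
    (h2 : Module.finrank F ((kline F K w).map g.toLinearMap ⊓ kline F K u : Submodule F V) + 2
      ≤ Module.finrank F K) :
    ∃ g' w' u', S.Good X g' w' u' ∧
      Module.finrank F ((kline F K w).map g.toLinearMap ⊓ kline F K u : Submodule F V) <
        Module.finrank F
          ((kline F K w').map g'.toLinearMap ⊓ kline F K u' : Submodule F V) := by
  haveI : Finite F := Finite.of_injective _ (algebraMap F K).injective
  obtain ⟨hg, hw, hu, ⟨k₁, hk₁⟩, h1⟩ := hG
  set B : Submodule F V := (kline F K w).map g.toLinearMap with hB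
  set D : Submodule F V := B ⊓ kline F K u with hD
  set a1 := g (k₁ • w) with ha1def
  have ha1 : a1 ∈ B := ⟨_, smul_mem_kline w k₁, rfl⟩
  have hBiso : ∀ x ∈ B, ∀ y ∈ B, S.f x y = 0 := by
    rintro x ⟨x', hx, rfl⟩ y ⟨y', hy, rfl⟩
    obtain ⟨k, rfl⟩ := mem_kline.mp hx
    obtain ⟨l, rfl⟩ := mem_kline.mp hy
    show S.f (g (k • w)) (g (l • w)) = 0
    rw [hX.preserves g hg, S.f_smul_smul]
  let ψ : V →ₗ[K] K := S.h.flip u
  have hψ : ∀ x, ψ x = S.h x u := fun _ => rfl
  have ha1' : a1 ∉ kline F K u := by
    intro h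
    obtain ⟨k, hk⟩ := mem_kline.mp h
    apply hk₁
    rw [← hk, map_smul, LinearMap.smul_apply, S.alt, smul_zero]
  let Dk : Submodule F K := D.comap (lineHom u)
  have hDk : ∀ k : K, k • u ∈ D ↔ k ∈ Dk := fun _ => Iff.rfl
  have hψD : ∀ x ∈ D, ψ x = 0 := by
    intro x hx
    obtain ⟨k, hk⟩ := mem_kline.mp hx.2
    rw [← hk, hψ, map_smul, LinearMap.smul_apply, S.alt, smul_zero]
  -- it suffices to find a parameter
  suffices h : ∃ b : K, (∃ a ∈ B, a ∉ D ∧ b * ψ a ∈ Dk) ∧
      (∃ a ∈ B, ∃ a' ∈ B, Algebra.trace F K (b * ψ a * ψ a') ≠ 0) by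
    obtain ⟨b, ⟨a0, ha0, ha0D, hb0⟩, a2, ha2, a3, ha3, hb2⟩ := h
    obtain ⟨t, ht, htN⟩ := hX.root S b u
    simp only [root_apply] at htN
    have htD : ∀ x ∈ D, t x = x := fun x hx => by
      rw [htN, ← hψ, hψD x hx, mul_zero, zero_smul, add_zero]
    have hlt : D < B.map t.toLinearMap ⊓ B := by
      refine lt_of_le_of_ne (fun x hx => ⟨⟨x, hx.1, htD x hx⟩, hx.1⟩) fun he => ?_
      have h3 : t a0 ∈ B.map t.toLinearMap ⊓ B := by
        refine ⟨⟨a0, ha0, rfl⟩, ?_⟩
        rw [htN]
        exact B.add_mem ha0 ((hDk _).mpr hb0).1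
      rw [← he, htN] at h3
      refine ha0D ?_
      have h5 := D.sub_mem h3 ((hDk _).mpr hb0)
      rwa [hψ, add_sub_cancel_right] at h5
    have e1 : ((kline F K w).map (g⁻¹ * t * g).toLinearMap ⊓ kline F K w).map g.toLinearMap
        = B.map t.toLinearMap ⊓ B := by
      rw [Submodule.map_inf _ g.injective]
      congr 1
      rw [hB, ← Submodule.map_comp, ← Submodule.map_comp]
      congr 1
      ext x
      show g (g.symm (t (g x))) = t (g x)
      rw [g.apply_symm_apply]
    have e2 : Module.finrank F
        ((kline F K w).map (g⁻¹ * t * g).toLinearMap ⊓ kline F K w : Submodule F V)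
        = Module.finrank F (B.map t.toLinearMap ⊓ B : Submodule F V) := by
      rw [← e1]
      exact (LinearEquiv.finrank_map_eq g _).symm
    have hlt' := Submodule.finrank_lt_finrank_of_lt hlt
    refine ⟨g⁻¹ * t * g, w, w, ⟨X.mul_mem (X.mul_mem (X.inv_mem hg) ht) hg, hw, hw, ?_, ?_⟩, ?_⟩
    · obtain ⟨_, hx, hx'⟩ := ha2
      obtain ⟨k, rfl⟩ := mem_kline.mp hx
      obtain ⟨_, hy, hy'⟩ := ha3
      obtain ⟨l, rfl⟩ := mem_kline.mp hy
      refine ⟨k, fun h0 => hb2 ?_⟩
      have h4 : S.f (t a2) a3 = 0 := by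
        rw [← hx', ← hy', ← (hX.preserves g hg).symm S]
        show S.f (g.symm (t (g (k • w)))) (g.symm (g (l • w))) = 0
        rw [g.symm_apply_apply, S.tr, map_smul]
        rw [show S.h (g.symm (t (g (k • w)))) w = 0 from h0, smul_zero, map_zero]
      rw [htN, map_add, LinearMap.add_apply, hBiso _ ⟨_, smul_mem_kline w k, hx'⟩ _
        ⟨_, smul_mem_kline w l, hy'⟩, zero_add, S.tr, map_smul, LinearMap.smul_apply,
        S.h_swap a3 u, smul_eq_mul, mul_neg, map_neg, neg_eq_zero] at h4
      rw [hψ, hψ]
      exact h4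
    · rw [e2]; omega
    · rw [e2]; exact hlt'
  by_contra hc
  push Not at hc
  have hψa1 : ψ a1 ≠ 0 := hk₁
  have hinj : ∀ a ∈ B, ψ a = 0 → a ∈ D := by
    intro a ha hψ0
    by_contra had
    obtain ⟨s, hs⟩ := Algebra.trace_surjective F K 1
    have := hc (s / (ψ a1 * ψ a1)) ⟨a, ha, had, by rw [hψ0, mul_zero]; exact Dk.zero_mem⟩
      a1 ha1 a1 ha1
    rw [mul_assoc, div_mul_cancel₀ _ (mul_ne_zero hψa1 hψa1), hs] at this
    exact one_ne_zero this
  -- the image of `B`
  let P : Submodule F K := B.map (ψ.restrictScalars F)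
  have hbad : ∀ e ∈ Dk, ∀ a ∈ B, ∀ a' ∈ B,
      Algebra.trace F K (e / ψ a1 * ψ a * ψ a') = 0 := by
    intro e he
    exact hc (e / ψ a1) ⟨a1, ha1, fun h => ha1' h.2, by rw [div_mul_cancel₀ _ hψa1]; exact he⟩
  let Pperp : Submodule F K := LinearMap.BilinForm.orthogonal (Algebra.traceForm F K) P
  have hmemP : ∀ x : K, x ∈ Pperp ↔ ∀ a ∈ B, Algebra.trace F K (ψ a * x) = 0 := fun x =>
    ⟨fun h a ha => h (ψ a) ⟨a, ha, rfl⟩, fun h => by rintro _ ⟨a, ha, rfl⟩; exact h a ha⟩
  have hDkP : Dk ≤ Pperp := by
    intro e he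
    rw [hmemP]
    intro a ha
    have := hBiso a ha (e • u) ((hDk e).mpr he).1
    rw [S.tr, map_smul, smul_eq_mul, mul_comm] at this
    exact this
  have hDkdim : Module.finrank F Dk = Module.finrank F D := by
    have e : Dk.map (lineHom u) = D := by
      rw [Submodule.map_comap_eq, range_lineHom]
      exact inf_eq_right.mpr inf_le_right
    have := (Submodule.equivMapOfInjective (lineHom u) (lineHom_injective hu) Dk).finrank_eq
    rw [e] at this
    exact this
  have hBdim : Module.finrank F B = Module.finrank F K := finrank_map_kline g hw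
  have hPdim : Module.finrank F K ≤ Module.finrank F P + Module.finrank F D := by
    let f : B →ₗ[F] K := ψ.restrictScalars F ∘ₗ B.subtype
    have hr := f.finrank_range_add_finrank_ker
    rw [hBdim] at hr
    have h3 : Module.finrank F (LinearMap.range f) = Module.finrank F P := by
      rw [LinearMap.range_comp, Submodule.range_subtype]
    have h4 : Module.finrank F (LinearMap.ker f) ≤ Module.finrank F D := by
      rw [(Submodule.equivMapOfInjective B.subtype B.injective_subtype (LinearMap.ker f)).finrank_eq]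
      apply Submodule.finrank_mono
      rintro _ ⟨x, hx, rfl⟩
      exact hinj _ x.2 hx
    omega
  have hPeq : Dk = Pperp := by
    refine Submodule.eq_of_le_of_finrank_le hDkP ?_
    have h3 := LinearMap.BilinForm.finrank_orthogonal (traceForm_nondegenerate F K)
      (W := P)
    change Module.finrank F Pperp = _ at h3
    omega
  -- a proper stabiliser forces the ground field
  let T : Subalgebra F K :=
    { carrier := {k | ∀ e ∈ Dk, k * e ∈ Dk}
      mul_mem' := fun {a b} ha hb e he => by rw [mul_assoc]; exact ha _ (hb e he)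
      one_mem' := fun e he => by rwa [one_mul]
      add_mem' := fun {a b} ha hb e he => by rw [add_mul]; exact Dk.add_mem (ha e he) (hb e he)
      zero_mem' := fun e _ => by rw [zero_mul]; exact Dk.zero_mem
      algebraMap_mem' := fun c e he => by rw [← Algebra.smul_def]; exact Dk.smul_mem c he }
  have hPT : ∀ a ∈ B, ψ a / ψ a1 ∈ T := by
    intro a ha e he
    rw [hPeq, hmemP]
    intro a' ha'
    have := hbad e he a' ha' a ha
    convert this using 2
    field_simp
  have hT : T = ⊥ := by
    haveI := Subalgebra.isSimpleOrder_of_finrank_prime F K hprime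
    rcases IsSimpleOrder.eq_bot_or_eq_top T with h | h
    · exact h
    exfalso
    obtain ⟨e, he, he0⟩ := (Submodule.ne_bot_iff _).mp (by
      intro hbot
      rw [hbot, finrank_bot] at hDkdim
      omega : Dk ≠ ⊥)
    have hall : ∀ k : K, k ∈ Dk := by
      intro k
      have hk : k * e⁻¹ ∈ T := by rw [h]; exact Algebra.mem_top
      have := hk e he
      rwa [mul_assoc, inv_mul_cancel₀ he0, mul_one] at this
    have : Dk = ⊤ := Submodule.eq_top_iff'.mpr hall
    rw [this, finrank_top] at hDkdim
    omega
  have hP1 : P ≤ Submodule.span F {ψ a1} := by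
    rintro _ ⟨a, ha, rfl⟩
    have := hPT a ha
    rw [hT, Algebra.mem_bot] at this
    obtain ⟨c, hc⟩ := this
    refine Submodule.mem_span_singleton.mpr ⟨c, ?_⟩
    rw [Algebra.smul_def, hc, div_mul_cancel₀ _ hψa1]
    rfl
  have h5 := Submodule.finrank_mono hP1
  have h7 : Module.finrank F (Submodule.span F ({ψ a1} : Set K)) ≤ 1 := by
    simpa using finrank_span_le_card ({ψ a1} : Set K)
  omega

/-- Some image of a line meets a line, not orthogonal to it, in a hyperplane. -/
theorem exists_hyperplane {X : Subgroup (V ≃ₗ[F] V)} (hX : S.Between X)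
    (hprime : (Module.finrank F K).Prime) (hm : 2 ≤ Module.finrank K V)
    (hmove : ∃ g ∈ X, ∃ k : K, ¬ ∃ k' : K, ∀ v, g (k • g.symm v) = k' • v) :
    ∃ g w u, S.Good X g w u ∧
      Module.finrank F ((kline F K w).map g.toLinearMap ⊓ kline F K u : Submodule F V) + 1
        = Module.finrank F K := by
  obtain ⟨g₀, hg₀, k, hk⟩ := hmove
  obtain ⟨g, hg, w, c, hgc⟩ : ∃ g ∈ X, ∃ (w : V) (c : K), S.h (g w) (g (c • w)) ≠ 0 := by
    by_contra hc
    push Not at hc
    exact hk (S.normalizes_of_perp hX hm hc hg₀ k)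
  have hw : w ≠ 0 := by rintro rfl; simp at hgc
  have hu : g w ≠ 0 := fun h => by rw [h] at hgc; simp at hgc
  have hgood : S.Good X g w (g w) := by
    refine ⟨hg, hw, hu, ⟨c, by rw [S.h_swap]; exact neg_ne_zero.mpr hgc⟩, ?_⟩
    rw [Nat.one_le_iff_ne_zero]
    intro h0
    rw [Submodule.finrank_eq_zero] at h0
    have hmem : g w ∈ (kline F K w).map g.toLinearMap ⊓ kline F K (g w) :=
      ⟨⟨w, self_mem_kline w, rfl⟩, self_mem_kline _⟩
    rw [h0, Submodule.mem_bot] at hmem
    exact hu hmem
  have hlt : ∀ g w u, S.Good X g w u →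
      Module.finrank F ((kline F K w).map g.toLinearMap ⊓ kline F K u : Submodule F V)
        < Module.finrank F K := by
    rintro g w u ⟨-, hw, hu, ⟨k, hk⟩, -⟩
    have hlt' : (kline F K w).map g.toLinearMap ⊓ kline F K u < kline F K u := by
      refine lt_of_le_of_ne inf_le_right fun he => hk ?_
      have := (Submodule.eq_of_le_of_finrank_eq (inf_eq_right.mp he)
        (by rw [finrank_map_kline g hw, finrank_kline hu])).symm
      have hmem : g (k • w) ∈ kline F K u := this ▸ ⟨_, smul_mem_kline w k, rfl⟩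
      obtain ⟨l, hl⟩ := mem_kline.mp hmem
      rw [← hl, map_smul, LinearMap.smul_apply, S.alt, smul_zero]
    have := Submodule.finrank_lt_finrank_of_lt hlt'
    rwa [finrank_kline hu] at this
  suffices h : ∀ j, ∀ g w u, S.Good X g w u →
      Module.finrank F K ≤ j + Module.finrank F
        ((kline F K w).map g.toLinearMap ⊓ kline F K u : Submodule F V) →
      ∃ g w u, S.Good X g w u ∧
        Module.finrank F ((kline F K w).map g.toLinearMap ⊓ kline F K u : Submodule F V) + 1
          = Module.finrank F K from h _ g w (g w) hgood (Nat.le_add_right _ _)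
  intro j
  induction j with
  | zero =>
    intro g w u hG hj
    have := hlt g w u hG
    omega
  | succ j ih =>
    intro g w u hG hj
    have h2 := hlt g w u hG
    rcases Nat.lt_or_ge (Module.finrank F
      ((kline F K w).map g.toLinearMap ⊓ kline F K u : Submodule F V) + 1)
      (Module.finrank F K) with h3 | h3
    · obtain ⟨g', w', u', hG', h4⟩ := S.improve hX hprime hG (by omega)
      exact ih g' w' u' hG' (by omega)
    · exact ⟨g, w, u, hG, by omega⟩

end SympTower

end CfsgLib.ExtField
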