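import Cfsg.Agent.ExtField.SympMeet
import Cfsg.Agent.ExtField.Frame

/-!
# A hyperplane intersection gives a symplectic transvection
-/

set_option autoImplicit false

namespace CfsgLib.ExtField

open Module

variable {F K V : Type*} [Field F] [Field K] [Algebra F K] [AddCommGroup V] [Module F V]
  [Module K V] [IsScalarTower F K V]

namespace SympTower

variable (S : SympTower F K V)

theorem conj_pair {g : V ≃ₗ[F] V} (hg : S.Preserves g) (p q : V) :
    g.toLinearMap ∘ₗ S.pair p q ∘ₗ g.symm.toLinearMap = S.pair (g p) (g q) := by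
  ext x
  have e : ∀ v, S.f (g.symm x) v = S.f x (g v) := fun v => by rw [← hg, g.apply_symm_apply]
  simp [e]

theorem pair_comm (p q : V) : S.pair p q = S.pair q p := by
  ext x; simp [add_comm]

theorem sq_add (v w : V) : S.sq (v + w) = S.sq v + S.sq w + S.pair v w := by
  ext x; simp [add_smul, smul_add]; abel

theorem pair_self (v : V) : S.pair v v = (2 : F) • S.sq v := by
  ext x; simp [two_smul]

theorem smul_pair (c : F) (v w : V) : S.pair (c • v) w = c • S.pair v w := by
  ext x; simp [smul_smul, mul_comm]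

/-- Two root like maps on two isotropic subspaces meeting in a hyperplane. -/
theorem memOne_pair {X : Subgroup (V ≃ₗ[F] V)} {A B D : Submodule F V} {a a' p q : V}
    (hp : p ∈ D) (hq : q ∈ D) (ha : a ∈ A)
    (hA : A ≤ D ⊔ Submodule.span F {a}) (hB : B ≤ D ⊔ Submodule.span F {a'})
    (hAA : ∀ x ∈ A, ∀ y ∈ A, S.f x y = 0) (hBB : ∀ x ∈ B, ∀ y ∈ B, S.f x y = 0)
    (hDA : D ≤ A) (hDB : D ≤ B) (ha'B : a' ∈ B) (hne : S.f a a' ≠ 0) {N M : V →ₗ[F] V}
    (hNX : MemOne X N) (hMX : MemOne X M)
    (hN : ∀ x y, S.f (N x) y = -S.f x (N y)) (hM : ∀ x y, S.f (M x) y = -S.f x (M y))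
    (hNA : ∀ x, N x ∈ A) (hMB : ∀ x, M x ∈ B)
    (hN0 : ∀ x ∈ A, N x = 0) (hM0 : ∀ x ∈ B, M x = 0)
    (hNa : N a' = p) (hMa : M a = q) : MemOne X ((S.f a a')⁻¹ • S.pair p q) := by
  have decA : ∀ z ∈ A, ∃ d ∈ D, z = d + (S.f z a' / S.f a a') • a := by
    intro z hz
    obtain ⟨d, hd, e, he, rfl⟩ := Submodule.mem_sup.mp (hA hz)
    obtain ⟨c, rfl⟩ := Submodule.mem_span_singleton.mp he
    refine ⟨d, hd, ?_⟩
    rw [map_add, LinearMap.add_apply, hBB _ (hDB hd) _ ha'B, zero_add, map_smul,
      LinearMap.smul_apply, smul_eq_mul, mul_div_cancel_right₀ c hne]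
  have decB : ∀ z ∈ B, ∃ d ∈ D, z = d + (S.f a z / S.f a a') • a' := by
    intro z hz
    obtain ⟨d, hd, e, he, rfl⟩ := Submodule.mem_sup.mp (hB hz)
    obtain ⟨c, rfl⟩ := Submodule.mem_span_singleton.mp he
    refine ⟨d, hd, ?_⟩
    rw [map_add, hAA _ ha _ (hDA hd), zero_add, map_smul, smul_eq_mul,
      mul_div_cancel_right₀ c hne]
  have eNM : ∀ x, N (M x) = (S.f x q / S.f a a') • p := by
    intro x
    obtain ⟨d, hd, he⟩ := decB _ (hMB x)
    rw [he, map_add, map_smul, hNa, hN0 _ (hDA hd), zero_add]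
    congr 2
    rw [← neg_neg (S.f a (M x)), ← hM, hMa, S.f_swap q x]
  have eMN : ∀ x, M (N x) = (-(S.f x p) / S.f a a') • q := by
    intro x
    obtain ⟨d, hd, he⟩ := decA _ (hNA x)
    rw [he, map_add, map_smul, hMa, hM0 _ (hDB hd), zero_add, hN, hNa]
  have h := hNX.commutator hMX (LinearMap.ext fun x => hN0 _ (hNA x))
    (LinearMap.ext fun x => hM0 _ (hMB x))
    (LinearMap.ext fun x => by
      simp only [LinearMap.comp_apply, eNM, LinearMap.zero_apply]
      rw [hAA _ (hNA x) _ (hDA hq), zero_div, zero_smul])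
    (LinearMap.ext fun x => by
      simp only [LinearMap.comp_apply, eMN, LinearMap.zero_apply]
      rw [hBB _ (hMB x) _ (hDB hp), neg_zero, zero_div, zero_smul])
  convert h using 1
  ext x
  simp only [LinearMap.smul_apply, pair_apply, LinearMap.sub_apply, LinearMap.comp_apply, eNM, eMN]
  rw [smul_add, smul_smul, smul_smul, neg_div, neg_smul, sub_neg_eq_add, div_eq_inv_mul,
    div_eq_inv_mul, add_comm]

theorem root_skew (b : K) (u x y : V) : S.f (S.root b u x) y = -S.f x (S.root b u y) := by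
  rw [S.tr, S.tr, root_apply, root_apply, map_smul, map_smul, LinearMap.smul_apply,
    S.h_swap y u, smul_eq_mul, smul_eq_mul, ← (Algebra.trace F K).map_neg]
  congr 1
  ring

variable [Finite K] [FiniteDimensional F K] [FiniteDimensional K V] [FiniteDimensional F V]

/-- The data of stage C: pairs from the intersection. -/
theorem exists_pairs {X : Subgroup (V ≃ₗ[F] V)} (hX : S.Between X) {g : V ≃ₗ[F] V} {w u : V}
    (hG : S.Good X g w u)
    (hD : Module.finrank F ((kline F K w).map g.toLinearMap ⊓ kline F K u : Submodule F V) + 1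
      = Module.finrank F K) :
    ∃ (a a' : V) (M : V →ₗ[F] V), a ∈ kline F K u ∧
      a' ∈ (kline F K w).map g.toLinearMap ∧ S.f a a' ≠ 0 ∧
      kline F K u ≤ ((kline F K w).map g.toLinearMap ⊓ kline F K u) ⊔ Submodule.span F {a} ∧
      (kline F K w).map g.toLinearMap ≤
        ((kline F K w).map g.toLinearMap ⊓ kline F K u) ⊔ Submodule.span F {a'} ∧
      (∀ p ∈ (kline F K w).map g.toLinearMap ⊓ kline F K u,
        ∀ q ∈ (kline F K w).map g.toLinearMap ⊓ kline F K u, MemOne X (S.pair p q)) ∧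
      MemOne X M ∧ (∀ x y, S.f (M x) y = -S.f x (M y)) ∧
      (∀ x, M x ∈ (kline F K w).map g.toLinearMap) ∧
      (∀ x ∈ (kline F K w).map g.toLinearMap, M x = 0) ∧
      M a ∈ (kline F K w).map g.toLinearMap ⊓ kline F K u ∧ M a ≠ 0 := by
  haveI : Finite F := Finite.of_injective _ (algebraMap F K).injective
  obtain ⟨hg, hw, hu, ⟨k₁, hk₁⟩, h1⟩ := hG
  set B : Submodule F V := (kline F K w).map g.toLinearMap with hB
  set A : Submodule F V := kline F K u with hA
  set a' := g (k₁ • w) with ha'def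
  have ha'B : a' ∈ B := ⟨_, smul_mem_kline w k₁, rfl⟩
  have hAA : ∀ x ∈ A, ∀ y ∈ A, S.f x y = 0 := by
    intro x hx y hy
    obtain ⟨k, rfl⟩ := mem_kline.mp hx
    obtain ⟨l, rfl⟩ := mem_kline.mp hy
    exact S.f_smul_smul u k l
  have hBB : ∀ x ∈ B, ∀ y ∈ B, S.f x y = 0 := by
    rintro x ⟨x', hx, rfl⟩ y ⟨y', hy, rfl⟩
    obtain ⟨k, rfl⟩ := mem_kline.mp hx
    obtain ⟨l, rfl⟩ := mem_kline.mp hy
    show S.f (g (k • w)) (g (l • w)) = 0
    rw [hX.preserves g hg, S.f_smul_smul]
  obtain ⟨s, hs⟩ := Algebra.trace_surjective F K 1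
  set a := (s / S.h u a') • u with hadef
  have hua' : S.h u a' ≠ 0 := by rw [S.h_swap a' u]; exact neg_ne_zero.mpr hk₁
  have haA : a ∈ A := smul_mem_kline u _
  have hfa : S.f a a' = 1 := by
    rw [S.tr, hadef, map_smul, LinearMap.smul_apply, smul_eq_mul, div_mul_cancel₀ _ hua', hs]
  have hBdim : Module.finrank F B = Module.finrank F K := finrank_map_kline g hw
  have hAle := le_sup_span_of_hyperplane (inf_le_right : B ⊓ A ≤ A)
    (by rw [hD, hA, finrank_kline hu]) haA (fun h => by
      rw [hBB a h.1 a' ha'B] at hfa; exact zero_ne_one hfa)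
  have hBle := le_sup_span_of_hyperplane (inf_le_left : B ⊓ A ≤ B)
    (by rw [hD, hBdim]) ha'B (fun h => by
      rw [hAA a haA a' h.2] at hfa; exact zero_ne_one hfa)
  have hga : S.h (g.symm a) w ≠ 0 := by
    intro h0
    have h : S.f (g.symm a) (k₁ • w) = 1 := by
      rw [← hX.preserves g hg, g.apply_symm_apply]; exact hfa
    rw [S.tr, map_smul, h0, smul_zero, map_zero] at h
    exact zero_ne_one h
  -- the conjugate roots
  have hMex : ∀ q ∈ B, ∃ M : V →ₗ[F] V, MemOne X M ∧ (∀ x y, S.f (M x) y = -S.f x (M y)) ∧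
      (∀ x, M x ∈ B) ∧ (∀ x ∈ B, M x = 0) ∧ M a = q := by
    intro q hq
    obtain ⟨_, hy, hyq⟩ := hq
    obtain ⟨k, rfl⟩ := mem_kline.mp hy
    refine ⟨g.toLinearMap ∘ₗ S.root (k / S.h (g.symm a) w) w ∘ₗ g.symm.toLinearMap,
      (hX.root S _ w).conj hg, fun x y => ?_, fun x => ⟨_, smul_mem_kline w _, rfl⟩, ?_, ?_⟩
    · show S.f (g (S.root _ w (g.symm x))) y = -S.f x (g (S.root _ w (g.symm y)))
      rw [← (hX.preserves g hg).symm S, g.symm_apply_apply, root_skew]
      rw [← hX.preserves g hg (g.symm x), g.apply_symm_apply]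
    · rintro x ⟨z, hz, rfl⟩
      obtain ⟨l, rfl⟩ := mem_kline.mp hz
      simp [S.alt]
    · rw [← hyq]
      simp [div_mul_cancel₀ _ hga]
  obtain ⟨d₀, hd₀, hd₀0⟩ : ∃ d ∈ B ⊓ A, d ≠ 0 := (Submodule.ne_bot_iff _).mp (by
    intro h
    rw [h, finrank_bot] at h1
    omega)
  obtain ⟨M₀, hM₀X, hM₀s, hM₀B, hM₀0, hM₀a⟩ := hMex d₀ hd₀.1
  refine ⟨a, a', M₀, haA, ha'B, by rw [hfa]; exact one_ne_zero, hAle, hBle, ?_, hM₀X, hM₀s,
    hM₀B, hM₀0, by rw [hM₀a]; exact hd₀, by rw [hM₀a]; exact hd₀0⟩
  intro p hp q hq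
  obtain ⟨c, hc⟩ := mem_kline.mp hp.2
  obtain ⟨M, hMX, hMs, hMB, hM0, hMa⟩ := hMex q hq.1
  have h := S.memOne_pair (X := X) (D := B ⊓ A) hp hq haA hAle hBle hAA hBB inf_le_right inf_le_left
    ha'B (by rw [hfa]; exact one_ne_zero) (hX.root S (c / S.h a' u) u) hMX
    (S.root_skew _ u) hMs (fun x => smul_mem_kline u _) hMB
    (fun x hx => by
      obtain ⟨l, rfl⟩ := mem_kline.mp hx
      simp [S.alt])
    hM0 (by rw [root_apply, div_mul_cancel₀ _ hk₁, hc]) hMa
  rwa [hfa, inv_one, one_smul] at h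

/-- Symmetric double sums are squares up to pairs. -/
theorem sum_sq_mod_pairs [CharP F 2] {X : Subgroup (V ≃ₗ[F] V)} {A : Submodule F V}
    (hAA : ∀ x ∈ A, ∀ y ∈ A, S.f x y = 0)
    (hP : ∀ x ∈ A, ∀ y ∈ A, MemOne X (S.pair x y)) {ι : Type*} (s : Finset ι) (G : ι → ι → F)
    (hG : ∀ i j, G i j = G j i) (c : ι → F) (hc : ∀ i, c i * c i = G i i) (e : ι → V)
    (he : ∀ i, e i ∈ A) (N : V →ₗ[F] V) (hN0 : ∀ x ∈ A, N x = 0)
    (hNX : MemOne X (N + ∑ i ∈ s, ∑ j ∈ s, G i j • (S.f.flip (e i)).smulRight (e j))) :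
    MemOne X (N + S.sq (∑ i ∈ s, c i • e i)) := by
  classical
  induction s using Finset.induction_on generalizing N with
  | empty =>
    rw [show S.sq (∑ i ∈ (∅ : Finset ι), c i • e i) = 0 by ext x; simp]
    simpa using hNX
  | @insert i t hi ih =>
    rw [Finset.sum_insert hi]
    set σ := ∑ j ∈ t, c j • e j with hσ
    have hσA : σ ∈ A := A.sum_mem fun j _ => A.smul_mem _ (he j)
    set τ := ∑ j ∈ t, G i j • e j with hτ
    have hτA : τ ∈ A := A.sum_mem fun j _ => A.smul_mem _ (he j)
    have e1 : N + ∑ a ∈ insert i t, ∑ b ∈ insert i t, G a b • (S.f.flip (e a)).smulRight (e b)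
        = (N + S.sq (c i • e i) + S.pair (e i) τ)
          + ∑ a ∈ t, ∑ b ∈ t, G a b • (S.f.flip (e a)).smulRight (e b) := by
      ext x
      simp only [Finset.sum_insert hi, LinearMap.add_apply, LinearMap.sum_apply,
        LinearMap.smul_apply, LinearMap.smulRight_apply, LinearMap.flip_apply, sq_apply, pair_apply,
        Finset.sum_add_distrib, map_smul, smul_eq_mul, smul_smul, map_sum, Finset.smul_sum,
        Finset.sum_smul, τ]
      simp only [← hc i]
      have : ∀ j ∈ t, (G i j * S.f x (e j)) • e i = (G j i * S.f x (e j)) • e i := fun j _ => by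
        rw [hG]
      rw [Finset.sum_congr rfl this]
      have : ∀ j ∈ t, (G i j * S.f x (e i)) • e j = (S.f x (e i) * G i j) • e j := fun j _ => by
        rw [mul_comm]
      rw [Finset.sum_congr rfl this]
      module
    rw [e1] at hNX
    have h1 := ih (N + S.sq (c i • e i) + S.pair (e i) τ) (fun x hx => by
      rw [LinearMap.add_apply, LinearMap.add_apply, hN0 x hx, sq_apply,
        hAA x hx _ (A.smul_mem _ (he i)), pair_apply, hAA x hx _ (he i), hAA x hx _ hτA]
      simp) hNX
    -- remove the pairs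
    have h2 := (h1.add (hP _ (he i) _ hτA) ?_).add (hP _ (A.smul_mem (c i) (he i)) _ hσA) ?_
    · convert h2 using 1
      rw [sq_add]
      ext x
      simp only [LinearMap.add_apply]
      linear_combination (norm := module)
        (CharTwo.add_self_eq_zero (R := F) 1) • (-(S.pair (e i) τ x))
    · ext x
      have hP0 : ∀ p ∈ A, ∀ q ∈ A, ∀ z ∈ A, S.pair p q z = 0 := fun p hp q hq z hz => by
        rw [pair_apply, hAA z hz p hp, hAA z hz q hq]; simp
      have hmem : S.pair (e i) τ x ∈ A := A.add_mem (A.smul_mem _ hτA) (A.smul_mem _ (he i))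
      simp only [LinearMap.comp_apply, LinearMap.add_apply, LinearMap.zero_apply, hN0 _ hmem,
        sq_apply, hAA _ hmem _ hσA, hAA _ hmem _ (A.smul_mem (c i) (he i)), zero_smul, zero_add,
        hP0 _ (he i) _ hτA _ hmem]
    · ext x
      have hmem : S.pair (c i • e i) σ x ∈ A :=
        A.add_mem (A.smul_mem _ hσA) (A.smul_mem _ (A.smul_mem _ (he i)))
      simp only [LinearMap.comp_apply, LinearMap.add_apply, LinearMap.zero_apply, hN0 _ hmem,
        sq_apply, hAA _ hmem _ hσA, hAA _ hmem _ (A.smul_mem (c i) (he i)), zero_smul, zero_add,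
        pair_apply (p := e i), hAA _ hmem _ hτA, hAA _ hmem _ (he i), add_zero]

/-- All pairs on a line give a transvection, in characteristic two. -/
theorem exists_sq_of_pairs [CharP F 2] {X : Subgroup (V ≃ₗ[F] V)} (hX : S.Between X) {u : V}
    (hu : u ≠ 0) (hP : ∀ x ∈ kline F K u, ∀ y ∈ kline F K u, MemOne X (S.pair x y)) :
    ∃ v, v ≠ 0 ∧ MemOne X ((1 : F) • S.sq v) := by
  haveI : Finite F := Finite.of_injective _ (algebraMap F K).injective
  haveI : PerfectRing F 2 := PerfectRing.ofFiniteOfIsReduced 2 F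
  let b := Module.finBasis F K
  have hnd := traceForm_nondegenerate F K
  let b' := LinearMap.BilinForm.dualBasis (Algebra.traceForm F K) hnd b
  let G : Fin (Module.finrank F K) → Fin (Module.finrank F K) → F := fun i j =>
    Algebra.trace F K (b' i * b' j)
  choose c hc using fun i => surjective_frobenius F 2 (G i i)
  have hc' : ∀ i, c i * c i = G i i := fun i => by rw [← hc i, frobenius_def, pow_two]
  have hsym : (Algebra.traceForm F K).IsSymm := Algebra.traceForm_isSymm F
  have hrep : ∀ k : K, k = ∑ i, Algebra.trace F K (k * b i) • b' i := by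
    intro k
    conv_lhs => rw [← b'.sum_repr k]
    refine Finset.sum_congr rfl fun i _ => ?_
    congr 1
    simp [b', LinearMap.BilinForm.dualBasis_repr_apply]
  have hb' : ∀ i, b' i = ∑ j, G i j • b j := by
    intro i
    have : ∀ j, b.repr (b' i) j = G i j := by
      intro j
      show b.repr (b' i) j = Algebra.trace F K (b' i * b' j)
      conv_rhs => rw [← b.sum_repr (b' i), Finset.sum_mul, map_sum]
      rw [Finset.sum_eq_single j]
      · rw [smul_mul_assoc, map_smul]
        have : Algebra.trace F K (b' j * b j) = 1 := by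
          have := LinearMap.BilinForm.apply_dualBasis_left (B := Algebra.traceForm F K)
            (hB := hnd) b j j
          simpa [Algebra.traceForm_apply] using this
        rw [mul_comm, this, smul_eq_mul, mul_one]
      · intro k _ hk
        rw [smul_mul_assoc, map_smul]
        have : Algebra.trace F K (b' j * b k) = 0 := by
          have := LinearMap.BilinForm.apply_dualBasis_left (B := Algebra.traceForm F K)
            (hB := hnd) b j k
          simpa [Algebra.traceForm_apply, hk, Ne.symm hk] using this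
        rw [mul_comm, this, smul_zero]
      · simp
    conv_lhs => rw [← b.sum_repr (b' i)]
    simp_rw [this]
  have hGs : ∀ i j, G i j = G j i := fun i j => by
    show Algebra.trace F K _ = Algebra.trace F K _; rw [mul_comm]
  have hNsum : S.root 1 u
      = ∑ i, ∑ j, G i j • (S.f.flip (b i • u)).smulRight (b j • u) := by
    ext x
    simp only [root_apply, one_mul, LinearMap.sum_apply, LinearMap.smul_apply,
      LinearMap.smulRight_apply, LinearMap.flip_apply]
    conv_lhs => rw [hrep (S.h x u), Finset.sum_smul]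
    refine Finset.sum_congr rfl fun i _ => ?_
    rw [hb' i, Finset.smul_sum, Finset.sum_smul]
    refine Finset.sum_congr rfl fun j _ => ?_
    rw [S.tr, map_smul, smul_assoc, smul_assoc, smul_smul, smul_smul, mul_comm, smul_eq_mul,
      mul_comm (S.h x u)]
  refine ⟨∑ i, c i • (b i • u), ?_, ?_⟩
  · intro h0
    have h1 : ∑ i, c i • b i = 0 := by
      have : (∑ i, c i • b i) • u = 0 := by rw [Finset.sum_smul]; simpa [smul_assoc] using h0
      exact (smul_eq_zero.mp this).resolve_right hu
    have h2 := Fintype.linearIndependent_iff.mp b.linearIndependent c h1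
    -- every square has trace zero
    have h3 : ∀ k : K, Algebra.trace F K (k * k) = Algebra.trace F K k * Algebra.trace F K k := by
      intro k
      haveI : CharP K 2 := charP_of_injective_algebraMap (algebraMap F K).injective 2
      apply (algebraMap F K).injective
      rw [(algebraMap F K).map_mul]
      simp only [trace_eq_sum_automorphisms]
      rw [← pow_two (∑ σ : Gal(K/F), σ k), CharTwo.sum_sq]
      exact Finset.sum_congr rfl fun σ _ => by rw [map_mul, pow_two]
    have h4 : ∀ i, Algebra.trace F K (b' i) = 0 := fun i => by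
      have := hc' i
      rw [h2 i, mul_zero] at this
      exact mul_self_eq_zero.mp ((h3 _).symm.trans this.symm)
    obtain ⟨s, hs⟩ := Algebra.trace_surjective F K 1
    rw [← b'.sum_repr s, map_sum] at hs
    simp [h4] at hs
  · rw [one_smul, show S.sq (∑ i, c i • (b i • u)) = 0 + S.sq (∑ i, c i • (b i • u)) by rw [zero_add]]
    refine S.sum_sq_mod_pairs (A := kline F K u) ?_ hP Finset.univ G hGs c hc' _
      (fun i => smul_mem_kline u _) 0 (fun _ _ => rfl) ?_
    · intro x hx y hy
      obtain ⟨k, rfl⟩ := mem_kline.mp hx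
      obtain ⟨l, rfl⟩ := mem_kline.mp hy
      exact S.f_smul_smul u k l
    · rw [zero_add, ← hNsum]
      exact hX.root S 1 u

/-- A hyperplane intersection gives a transvection. -/
theorem exists_sq {X : Subgroup (V ≃ₗ[F] V)} (hX : S.Between X)
    (hr : 2 ≤ Module.finrank F K) (hm : Module.finrank F K = 2 → 4 ≤ Module.finrank K V)
    {g : V ≃ₗ[F] V} {w u : V} (hG : S.Good X g w u)
    (hD : Module.finrank F ((kline F K w).map g.toLinearMap ⊓ kline F K u : Submodule F V) + 1
      = Module.finrank F K) :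
    ∃ (v : V) (c : F), v ≠ 0 ∧ c ≠ 0 ∧ MemOne X (c • S.sq v) := by
  haveI : Finite F := Finite.of_injective _ (algebraMap F K).injective
  obtain ⟨a, a', M, haA, ha'B, hne, hAle, hBle, hP, hMX, hMs, hMB, hM0, hMa, hMa0⟩ :=
    S.exists_pairs hX hG hD
  set B : Submodule F V := (kline F K w).map g.toLinearMap with hB
  set d₀ := M a with hd₀
  by_cases h2 : (2 : F) = 0
  swap
  · exact ⟨d₀, 2, hMa0, h2, by rw [← S.pair_self]; exact hP _ hMa _ hMa⟩
  haveI : CharP F 2 := CharTwo.of_one_ne_zero_of_two_eq_zero one_ne_zero h2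
  have hu : u ≠ 0 := hG.2.2.1
  suffices hall : ∀ x ∈ kline F K u, ∀ y ∈ kline F K u, MemOne X (S.pair x y) by
    obtain ⟨v, hv, h⟩ := S.exists_sq_of_pairs hX hu hall
    exact ⟨v, 1, hv, one_ne_zero, h⟩
  let Dk : Submodule F K := (B ⊓ kline F K u).comap (lineHom u)
  have hDkdim : Module.finrank F Dk + 1 = Module.finrank F K := by
    have e : Dk.map (lineHom u) = B ⊓ kline F K u := by
      rw [Submodule.map_comap_eq, range_lineHom]
      exact inf_eq_right.mpr inf_le_right
    have := (Submodule.equivMapOfInjective (lineHom u) (lineHom_injective hu) Dk).finrank_eq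
    rw [e] at this
    omega
  -- translate by scalars
  have hscale : ∀ e : K, e ≠ 0 → ∀ k ∈ Dk, ∀ l ∈ Dk,
      MemOne X (S.pair ((e * k) • u) ((e * l) • u)) := by
    intro e he k hk l hl
    obtain ⟨z, hz1, hz2⟩ := S.exists_nonorth hu (smul_ne_zero he hu)
    obtain ⟨t, ht, hlin, htu, -⟩ := hX.move S hz1 hz2
    have := (hP _ hk _ hl).conj ht
    rw [S.conj_pair (hX.preserves t ht)] at this
    simpa [hlin, htu, smul_smul, mul_comm] using this
  rcases (show Module.finrank F K = 2 ∨ 3 ≤ Module.finrank F K by omega) with h | h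
  swap
  · -- two elements lie in one translate
    intro x hx y hy
    obtain ⟨k, rfl⟩ := mem_kline.mp hx
    obtain ⟨l, rfl⟩ := mem_kline.mp hy
    let L : Submodule F K :=
      Dk.comap (LinearMap.mulLeft F k) ⊓ Dk.comap (LinearMap.mulLeft F l)
    have hcod : ∀ k : K, Module.finrank F K
        ≤ Module.finrank F (Dk.comap (LinearMap.mulLeft F k) : Submodule F K) + 1 := by
      intro k
      let T : K →ₗ[F] K ⧸ Dk := Dk.mkQ ∘ₗ LinearMap.mulLeft F k
      have h1 := T.finrank_range_add_finrank_ker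
      have h2 := Submodule.finrank_le (LinearMap.range T)
      have h3 := Submodule.finrank_quotient_add_finrank Dk
      rw [LinearMap.ker_comp, Submodule.ker_mkQ] at h1
      omega
    have hL : L ≠ ⊥ := by
      intro h0
      have h1 := Submodule.finrank_sup_add_finrank_inf_eq (Dk.comap (LinearMap.mulLeft F k))
        (Dk.comap (LinearMap.mulLeft F l))
      rw [show Dk.comap (LinearMap.mulLeft F k) ⊓ Dk.comap (LinearMap.mulLeft F l) = ⊥ from h0,
        finrank_bot] at h1
      have h4 := Submodule.finrank_le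
        (Dk.comap (LinearMap.mulLeft F k) ⊔ Dk.comap (LinearMap.mulLeft F l))
      have h5 := hcod k
      have h6 := hcod l
      omega
    obtain ⟨e, he, he0⟩ := (Submodule.ne_bot_iff _).mp hL
    have := hscale e⁻¹ (inv_ne_zero he0) (k * e) he.1 (l * e) he.2
    rwa [mul_comm k e, mul_comm l e, inv_mul_cancel_left₀ he0, inv_mul_cancel_left₀ he0] at this
  -- degree two: pairs with an orthogonal vector
  have hm4 := hm h
  obtain ⟨γ, hγ, hγx⟩ := hMX
  obtain ⟨hg, -, -, -, -⟩ := hG
  have hBA : ∀ z : V, S.h z u = 0 → S.h z a' = 0 → ∀ x ∈ B, S.h x z = 0 := by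
    intro z hzu hza x hx
    obtain ⟨d, hd, e, he, rfl⟩ := Submodule.mem_sup.mp (hBle hx)
    obtain ⟨c, rfl⟩ := Submodule.mem_span_singleton.mp he
    obtain ⟨k, rfl⟩ := mem_kline.mp hd.2
    rw [S.h_swap]
    simp [hzu, hza, LinearMap.map_smul_of_tower]
  have huu : ∀ x ∈ kline F K u, S.h x u = 0 := fun x hx => by
    obtain ⟨k, rfl⟩ := mem_kline.mp hx
    simp [S.alt]
  obtain ⟨d, hd⟩ := mem_kline.mp hMa.2
  have hd0 : d ≠ 0 := by intro h0; rw [h0, zero_smul] at hd; exact hMa0 hd.symm
  obtain ⟨ka, hka⟩ := mem_kline.mp haA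
  have hη : S.h a' u ≠ 0 := by
    intro h0
    apply hne
    rw [S.tr, ← hka, map_smul, LinearMap.smul_apply, S.h_swap a' u, h0, neg_zero, smul_zero,
      map_zero]
  have haA2 : ∀ x ∈ kline F K u, ∀ y ∈ kline F K u, S.f x y = 0 := by
    intro x hx y hy
    obtain ⟨k, rfl⟩ := mem_kline.mp hx
    obtain ⟨l, rfl⟩ := mem_kline.mp hy
    exact S.f_smul_smul u k l
  -- pairs with a vector orthogonal to the plane
  set η := S.h a' u with hηdef
  set lam := S.f a a' with hlam
  have hMu : ∀ k : K, M (k • u) = (S.f (k • u) a' / lam) • d₀ := by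
    intro k
    obtain ⟨x, hx, e, he, hxe⟩ := Submodule.mem_sup.mp (hAle (smul_mem_kline u k))
    obtain ⟨c, rfl⟩ := Submodule.mem_span_singleton.mp he
    rw [← hxe, map_add, map_smul, hM0 _ hx.1, zero_add, ← hd₀]
    congr 1
    have hx0 : S.f x a' = 0 := by
      obtain ⟨_, hy, rfl⟩ := hx.1
      obtain ⟨_, hy', hy''⟩ := ha'B
      obtain ⟨i, rfl⟩ := mem_kline.mp hy
      obtain ⟨j, rfl⟩ := mem_kline.mp hy'
      rw [← hy'']
      show S.f (g (i • w)) (g (j • w)) = 0
      rw [hX.preserves g hg, S.f_smul_smul]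
    rw [map_add, LinearMap.add_apply, hx0, zero_add, map_smul, LinearMap.smul_apply, smul_eq_mul,
      ← hlam, mul_div_cancel_right₀ c hne]
  have hMsymm : ∀ x, γ.symm x = x - M x := fun x => by
    apply γ.injective
    rw [γ.apply_symm_apply, hγx, map_sub, hM0 _ (hMB x), sub_zero]
    abel
  have hhz : ∀ z : V, S.h z u = 0 → S.h z a' = 0 → ∀ k : K, M (k • z) = 0 := by
    intro z hzu hza k
    apply S.eq_zero_of_forall_f
    intro y
    rw [hMs, S.tr, map_smul, LinearMap.smul_apply, S.h_swap (M y) z, hBA z hzu hza _ (hMB y),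
      neg_zero, smul_zero, map_zero, neg_zero]
  have hu_ne : S.h u a' ≠ 0 := by rw [S.h_swap a' u]; exact neg_ne_zero.mpr hη
  have hZ : ∀ z : V, S.h z u = 0 → S.h z a' = 0 → MemOne X (S.pair z d₀) := by
    intro z hzu hza
    set b := algebraMap F K (-lam) * η⁻¹ with hb
    let R : V → (V →ₗ[F] V) := fun v => S.root b v
    have huz : S.h u z = 0 := by rw [S.h_swap z u, hzu, neg_zero]
    have hR2 : ∀ v x, R v (R v x) = 0 := fun v x => by simp [R, S.alt]
    let P : V →ₗ[F] V := R (u + z) + -R u + -R z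
    have hPX : MemOne X P := by
      refine ((hX.root S b (u + z)).add ((hX.root S b u).neg ?_) ?_).add
        ((hX.root S b z).neg ?_) ?_
      · ext x; exact hR2 u x
      · ext x; simp [S.alt, huz]
      · ext x; exact hR2 z x
      · ext x; simp [R, S.alt, huz, hzu]
    have hPx : ∀ x, P x = (b * S.h x u) • z + (b * S.h x z) • u := by
      intro x
      simp only [P, R, LinearMap.add_apply, LinearMap.neg_apply, root_apply, map_add, mul_add,
        smul_add, add_smul]
      abel
    have hPh : ∀ x y, (y = u ∨ y = z) → S.h (P x) y = 0 := by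
      rintro x y (rfl | rfl) <;> simp [hPx, S.alt, huz, hzu]
    have hPP : P ∘ₗ P = 0 := by
      ext x
      rw [LinearMap.comp_apply, hPx (P x), hPh x u (Or.inl rfl), hPh x z (Or.inr rfl)]
      simp
    -- the conjugate differs from `P` by the pair
    have hdiff : ∀ x, γ (P (γ.symm x)) = S.pair z d₀ x + P x := by
      intro x
      have hzB : S.h (M x) z = 0 := hBA z hzu hza _ (hMB x)
      have hMxu : S.h (M x) u = algebraMap F K (S.f x d₀ / lam) * η := by
        obtain ⟨y, hy, e, he, hye⟩ := Submodule.mem_sup.mp (hBle (hMB x))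
        obtain ⟨c, rfl⟩ := Submodule.mem_span_singleton.mp he
        have hc : S.f x d₀ = c * lam := by
          have h1 : S.f a (M x) = c * lam := by
            rw [← hye, map_add, map_smul, smul_eq_mul, ← hlam, haA2 a haA y hy.2, zero_add]
          rw [← h1, ← neg_neg (S.f a (M x)), ← hMs, ← hd₀, S.f_swap d₀ x]
        rw [hc, mul_div_cancel_right₀ c hne, ← hye, map_add, LinearMap.add_apply, huu _ hy.2,
          zero_add, LinearMap.map_smul_of_tower, LinearMap.smul_apply, Algebra.smul_def, hηdef]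
      have hMP : ∀ y, M (P y) = (S.f ((b * S.h y z) • u) a' / lam) • d₀ := fun y => by
        rw [hPx, map_add, hhz z hzu hza, zero_add, hMu]
      have hβ : S.f ((b * S.h x z) • u) a' / lam = S.f x z := by
        rw [S.tr, map_smul, LinearMap.smul_apply, smul_eq_mul, S.h_swap a' u, ← hηdef,
          div_eq_iff hne, S.tr, hb]
        rw [show algebraMap F K (-lam) * η⁻¹ * S.h x z * -η
          = lam • S.h x z * (η⁻¹ * η) by rw [map_neg, Algebra.smul_def]; ring]
        rw [inv_mul_cancel₀ hη, mul_one, map_smul, smul_eq_mul, mul_comm]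
      have hα : (b * S.h (M x) u) • z = -(S.f x d₀ • z) := by
        rw [hMxu, hb, show algebraMap F K (-lam) * η⁻¹ * (algebraMap F K (S.f x d₀ / lam) * η)
          = algebraMap F K (-lam * (S.f x d₀ / lam)) * (η⁻¹ * η) by rw [map_mul]; ring]
        rw [inv_mul_cancel₀ hη, mul_one, algebraMap_smul, neg_mul, mul_div_cancel₀ _ hne, neg_smul]
      rw [hMsymm, hγx, map_sub P, map_sub M, hMP, hMP, hzB, mul_zero, zero_smul, map_zero,
        LinearMap.zero_apply, zero_div, zero_smul, sub_zero, hβ, hPx (M x), hzB, mul_zero,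
        zero_smul, add_zero, hα, pair_apply]
      abel
    have h := (hPX.conj hγ).add (hPX.neg hPP) (by
      ext x
      have hPP' : P (P x) = 0 := LinearMap.congr_fun hPP x
      simp only [LinearMap.comp_apply, LinearMap.neg_apply, LinearEquiv.coe_coe, map_neg,
        LinearMap.zero_apply, hdiff, hPP', add_zero, pair_apply, neg_eq_zero]
      rw [S.tr, S.tr, hPh x z (Or.inr rfl)]
      rw [← hd, map_smul, hPh x u (Or.inl rfl)]
      simp)
    convert h using 1
    ext x
    simp only [LinearMap.add_apply, LinearMap.comp_apply, LinearEquiv.coe_coe, LinearMap.neg_apply,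
      hdiff]
    abel
  -- every multiple of `u` as second factor
  have hZ' : ∀ z : V, S.h z u = 0 → S.h z a' = 0 → ∀ x ∈ kline F K u, MemOne X (S.pair z x) := by
    intro z hzu hza x hx
    obtain ⟨k, rfl⟩ := mem_kline.mp hx
    rcases eq_or_ne k 0 with rfl | hk
    · rw [show S.pair z ((0 : K) • u) = 0 by ext x; simp]
      exact MemOne.zero X
    obtain ⟨t, ht, -, htd, htfix⟩ := hX.move S (a := d₀) (b := k • u) (z := a')
      (by rw [← hd, map_smul, LinearMap.smul_apply, smul_eq_mul]; exact mul_ne_zero hd0 hu_ne)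
      (by rw [map_smul, smul_eq_mul]; exact mul_ne_zero hk hη)
    have htz : t z = z := htfix z (by rw [← hd, map_smul, hzu, smul_zero])
      (by rw [map_smul, hzu, smul_zero]) hza
    have := (hZ z hzu hza).conj ht
    rw [S.conj_pair (hX.preserves t ht), htd, htz] at this
    exact this
  -- the projection to the orthogonal of the plane
  let proj : V → V := fun v => v - (S.h v a' / S.h u a') • u - (S.h v u / η) • a'
  have hproju : ∀ v, S.h (proj v) u = 0 := fun v => by
    simp [proj, S.alt, ← hηdef, div_mul_cancel₀ _ hη]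
  have hproja : ∀ v, S.h (proj v) a' = 0 := fun v => by
    simp [proj, S.alt, div_mul_cancel₀ _ hu_ne]
  obtain ⟨v, hv⟩ := exists_notMem_span_pair (K := K) (u := u) (w := a') (by omega : 3 ≤ _)
  have hz : proj v ≠ 0 := by
    intro h0
    apply hv
    rw [Submodule.mem_span_pair]
    refine ⟨S.h v a' / S.h u a', S.h v u / η, ?_⟩
    simp only [proj, sub_sub, sub_eq_zero] at h0
    exact h0.symm
  set z := proj v with hzdef
  obtain ⟨v', hv'⟩ := S.exists_f_ne hz
  set z' := (S.f z v')⁻¹ • proj v' with hz'def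
  have hfzz : S.f z z' = 1 := by
    have hp : S.h z (proj v') = S.h z v' := by
      show S.h z (v' - _ - _) = _
      rw [map_sub, map_sub, map_smul, map_smul, hproju, hproja]
      simp
    rw [hz'def, map_smul, smul_eq_mul, S.tr z (proj v'), hp, ← S.tr, inv_mul_cancel₀ hv']
  have hz'u : S.h z' u = 0 := by
    rw [hz'def, LinearMap.map_smul_of_tower, LinearMap.smul_apply, hproju, smul_zero]
  have hz'a : S.h z' a' = 0 := by
    rw [hz'def, LinearMap.map_smul_of_tower, LinearMap.smul_apply, hproja, smul_zero]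
  intro x hx y hy
  have hxz' : S.f x z' = 0 := by
    obtain ⟨k, rfl⟩ := mem_kline.mp hx
    rw [S.f_swap z', S.tr, map_smul, hz'u]; simp
  have hzx : S.f z x = 0 := by
    obtain ⟨k, rfl⟩ := mem_kline.mp hx
    rw [S.tr, map_smul, hproju]; simp
  have hzy : S.f z y = 0 := by
    obtain ⟨k, rfl⟩ := mem_kline.mp hy
    rw [S.tr, map_smul, hproju]; simp
  have hxz : S.f x z = 0 := by rw [S.f_swap z x, hzx, neg_zero]
  have hyz : S.f y z = 0 := by rw [S.f_swap z y, hzy, neg_zero]
  have hz'x : S.f z' x = 0 := by rw [S.f_swap x z', hxz', neg_zero]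
  have hz'y : S.f z' y = 0 := by
    obtain ⟨k, rfl⟩ := mem_kline.mp hy
    rw [S.tr, map_smul, hz'u]; simp
  have hyz' : S.f y z' = 0 := by rw [S.f_swap z' y, hz'y, neg_zero]
  have hz'z : S.f z' z = -1 := by rw [S.f_swap z z', hfzz]
  have hxy := haA2 x hx y hy
  have hyx := haA2 y hy x hx
  have h' := (hZ' z' hz'u hz'a y hy).commutator (hZ' z (hproju v) (hproja v) x hx)
    (by ext t; simp [hyz', hz'y, hyz, S.f_alt])
    (by ext t; simp [hxz, hzx, S.f_alt])
    (by ext t; simp [hxz, hzx, hyz', hz'y, hxz', hz'x, hxy, hyx, hyz, hzy, hfzz, hz'z, S.f_alt])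
    (by ext t; simp [hxz, hzx, hyz', hz'y, hxz', hz'x, hxy, hyx, hyz, hzy, hfzz, hz'z, S.f_alt])
  convert h' using 1
  ext t
  simp [hxz, hzx, hyz', hz'y, hxz', hz'x, hxy, hyx, hyz, hzy, hfzz, hz'z, S.f_alt]

/-- A group between the two symplectic groups not normalising `K` contains every transvection. -/
theorem forall_sq_of_moved {X : Subgroup (V ≃ₗ[F] V)} (hX : S.Between X)
    (hprime : (Module.finrank F K).Prime) (hm : 2 ≤ Module.finrank K V)
    (hm2 : Module.finrank F K = 2 → 4 ≤ Module.finrank K V)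
    (hmove : ∃ g ∈ X, ∃ k : K, ¬ ∃ k' : K, ∀ v, g (k • g.symm v) = k' • v) (c : F) (v : V) :
    MemOne X (c • S.sq v) := by
  obtain ⟨g, w, u, hG, hD⟩ := S.exists_hyperplane hX hprime hm hmove
  obtain ⟨v₀, c₀, hv₀, hc₀, h₀⟩ := S.exists_sq hX hprime.two_le hm2 hG hD
  exact hX.forall_sq S hv₀ hc₀ h₀ c v

end SympTower

end CfsgLib.ExtField
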