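import Cfsg.Agent.ExtField.Meet
import Cfsg.Agent.ExtField.QuadZero

/-!
# Unitary groups over an odd degree extension inside unitary groups over the ground field

`h` is a hermitian `K`-form on `V` for the involution `bar` of `K`, which extends the involution
`σ` of `F`, and `f` is its trace to `F`.
-/

set_option autoImplicit false

namespace CfsgLib.ExtField

open Module

variable {F K V : Type*} [Field F] [Field K] [Algebra F K] [AddCommGroup V] [Module F V]
  [Module K V] [IsScalarTower F K V]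

variable (F K V) in
/-- A hermitian form over `K` and its trace. -/
structure UOddTower where
  f : V → V → F
  h : V → V → K
  bar : K ≃+* K
  σ : F ≃+* F
  bar_bar : ∀ k, bar (bar k) = k
  bar_algebraMap : ∀ c, bar (algebraMap F K c) = algebraMap F K (σ c)
  moved : ∃ c, σ c ≠ c
  h_add : ∀ x x' y, h (x + x') y = h x y + h x' y
  h_smul : ∀ (k : K) x y, h (k • x) y = k * h x y
  h_swap : ∀ x y, h y x = bar (h x y)
  tr : ∀ x y, f x y = Algebra.trace F K (h x y)
  nondeg : ∀ x, x ≠ 0 → ∃ y, h x y ≠ 0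

namespace UOddTower

variable (T : UOddTower F K V)

theorem h_add_right (x y y' : V) : T.h x (y + y') = T.h x y + T.h x y' := by
  rw [T.h_swap (y + y') x, T.h_add, map_add, ← T.h_swap, ← T.h_swap]

theorem h_smul_right (k : K) (x y : V) : T.h x (k • y) = T.bar k * T.h x y := by
  rw [T.h_swap (k • y) x, T.h_smul, map_mul, ← T.h_swap]

@[simp] theorem h_zero_left (y : V) : T.h 0 y = 0 := by
  have := T.h_smul 0 0 y
  simpa using this

@[simp] theorem h_zero_right (x : V) : T.h x 0 = 0 := by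
  have := T.h_smul_right 0 x 0
  simpa using this

theorem h_neg_left (x y : V) : T.h (-x) y = -T.h x y := by
  rw [← neg_one_smul K x, T.h_smul, neg_one_mul]

theorem h_sub_left (x x' y : V) : T.h (x - x') y = T.h x y - T.h x' y := by
  rw [sub_eq_add_neg, T.h_add, T.h_neg_left, ← sub_eq_add_neg]

theorem h_smulF (c : F) (x y : V) : T.h (c • x) y = algebraMap F K c * T.h x y := by
  rw [← algebraMap_smul K c x, T.h_smul]

theorem h_smulF_right (c : F) (x y : V) : T.h x (c • y) = algebraMap F K (T.σ c) * T.h x y := by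
  rw [← algebraMap_smul K c y, T.h_smul_right, T.bar_algebraMap]

theorem bar_h_self (x : V) : T.bar (T.h x x) = T.h x x := (T.h_swap x x).symm

theorem f_add (x x' y : V) : T.f (x + x') y = T.f x y + T.f x' y := by
  rw [T.tr, T.tr, T.tr, T.h_add, map_add]

theorem f_smul (c : F) (x y : V) : T.f (c • x) y = c * T.f x y := by
  rw [T.tr, T.tr, T.h_smulF, ← Algebra.smul_def, map_smul, smul_eq_mul]

theorem f_add_right (x y y' : V) : T.f x (y + y') = T.f x y + T.f x y' := by
  rw [T.tr, T.tr, T.tr, T.h_add_right, map_add]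

theorem f_smul_right (c : F) (x y : V) : T.f x (c • y) = T.σ c * T.f x y := by
  rw [T.tr, T.tr, T.h_smulF_right, ← Algebra.smul_def, map_smul, smul_eq_mul]

theorem f_eq_zero_of_h {x y : V} (h : T.h x y = 0) : T.f x y = 0 := by rw [T.tr, h, map_zero]

/-- The `F`-linear map `x ↦ f x v`. -/
def fLeft (v : V) : V →ₗ[F] F where
  toFun x := T.f x v
  map_add' x y := T.f_add x y v
  map_smul' c x := T.f_smul c x v

@[simp] theorem fLeft_apply (v x : V) : T.fLeft v x = T.f x v := rfl

/-- `x ↦ h x v` as a linear map. -/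
def hLeft (v : V) : V →ₗ[K] K where
  toFun x := T.h x v
  map_add' x y := T.h_add x y v
  map_smul' k x := T.h_smul k x v

@[simp] theorem hLeft_apply (v x : V) : T.hLeft v x = T.h x v := rfl

/-- The real elements. -/
def real : AddSubgroup K := (T.bar.toAddMonoidHom - AddMonoidHom.id K).ker

theorem mem_real {k : K} : k ∈ T.real ↔ T.bar k = k := by
  simp [real, AddMonoidHom.mem_ker, sub_eq_zero]

/-- The fixed scalars of `F`. -/
def realF : AddSubgroup F := (T.σ.toAddMonoidHom - AddMonoidHom.id F).ker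

theorem mem_realF {c : F} : c ∈ T.realF ↔ T.σ c = c := by
  simp [realF, AddMonoidHom.mem_ker, sub_eq_zero]

/-- The real elements of trace zero. -/
noncomputable def realZero : AddSubgroup K := T.real ⊓ (Algebra.trace F K).toAddMonoidHom.ker

theorem mem_realZero {k : K} :
    k ∈ T.realZero ↔ T.bar k = k ∧ Algebra.trace F K k = 0 := by
  simp [realZero, mem_real, AddMonoidHom.mem_ker]

theorem σ_σ (c : F) : T.σ (T.σ c) = c := by
  apply (algebraMap F K).injective
  rw [← T.bar_algebraMap, ← T.bar_algebraMap, T.bar_bar]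

/-- Every element is real plus a multiple of a fixed non-real scalar. -/
theorem exists_decomp {c : F} (hc : T.σ c ≠ c) (z : K) :
    ∃ a b : K, T.bar a = a ∧ T.bar b = b ∧ z = a + algebraMap F K c * b := by
  set w := algebraMap F K c with hw
  have hwne : w - T.bar w ≠ 0 := by
    rw [sub_ne_zero, hw, T.bar_algebraMap]
    exact fun h => hc ((algebraMap F K).injective h.symm)
  refine ⟨z - w * ((z - T.bar z) / (w - T.bar w)), (z - T.bar z) / (w - T.bar w), ?_, ?_, by ring⟩
  · rw [map_sub, map_mul, map_div₀, map_sub, map_sub, T.bar_bar, T.bar_bar]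
    rw [div_eq_mul_inv, div_eq_mul_inv, ← neg_sub w (T.bar w), inv_neg]
    field_simp
    ring
  · rw [map_div₀, map_sub, map_sub, T.bar_bar, T.bar_bar, ← neg_sub z, ← neg_sub w (T.bar w),
      neg_div_neg_eq]

theorem decomp_unique {c : F} (hc : T.σ c ≠ c) {a b : K} (ha : T.bar a = a) (hb : T.bar b = b)
    (h : a + algebraMap F K c * b = 0) : a = 0 ∧ b = 0 := by
  have h' := congrArg T.bar h
  rw [map_add, map_mul, ha, hb, T.bar_algebraMap, map_zero] at h'
  have h2 : (algebraMap F K c - algebraMap F K (T.σ c)) * b = 0 := by linear_combination h - h'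
  have hb0 : b = 0 := by
    rcases mul_eq_zero.mp h2 with h3 | h3
    · exact absurd ((algebraMap F K).injective (sub_eq_zero.mp h3)).symm hc
    · exact h3
  exact ⟨by simpa [hb0] using h, hb0⟩

variable [Finite K]

theorem finite_F (_T : UOddTower F K V) : Finite F :=
  Finite.of_injective _ (algebraMap F K).injective

theorem card_real : Nat.card T.real * Nat.card T.real = Nat.card K := by
  obtain ⟨c, hc⟩ := T.moved
  rw [← Nat.card_prod]
  refine Nat.card_eq_of_bijective
    (fun x : T.real × T.real => (x.1 : K) + algebraMap F K c * (x.2 : K))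
    ⟨fun x y hxy => ?_, fun z => ?_⟩
  · simp only at hxy
    have h : ((x.1 : K) - y.1) + algebraMap F K c * ((x.2 : K) - y.2) = 0 := by
      linear_combination hxy
    obtain ⟨h1, h2⟩ := T.decomp_unique hc
      (by rw [map_sub, T.mem_real.mp x.1.2, T.mem_real.mp y.1.2])
      (by rw [map_sub, T.mem_real.mp x.2.2, T.mem_real.mp y.2.2]) h
    exact Prod.ext (Subtype.ext (sub_eq_zero.mp h1)) (Subtype.ext (sub_eq_zero.mp h2))
  · obtain ⟨a, b, ha, hb, h⟩ := T.exists_decomp hc z
    exact ⟨(⟨a, T.mem_real.mpr ha⟩, ⟨b, T.mem_real.mpr hb⟩), h.symm⟩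

theorem card_realF : Nat.card T.realF * Nat.card T.realF = Nat.card F := by
  haveI := T.finite_F
  obtain ⟨c, hc⟩ := T.moved
  rw [← Nat.card_prod]
  refine Nat.card_eq_of_bijective
    (fun x : T.realF × T.realF => (x.1 : F) + c * (x.2 : F)) ⟨fun x y hxy => ?_, fun z => ?_⟩
  · simp only at hxy
    have h1 := congrArg T.σ hxy
    rw [map_add, map_add, map_mul, map_mul, T.mem_realF.mp x.1.2, T.mem_realF.mp y.1.2,
      T.mem_realF.mp x.2.2, T.mem_realF.mp y.2.2] at h1
    have h2 : (c - T.σ c) * ((x.2 : F) - y.2) = 0 := by linear_combination hxy - h1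
    have h3 := (mul_eq_zero.mp h2).resolve_left (sub_ne_zero.mpr (Ne.symm hc))
    refine Prod.ext (Subtype.ext ?_) (Subtype.ext (sub_eq_zero.mp h3))
    linear_combination hxy - c * h3
  · have hne : c - T.σ c ≠ 0 := sub_ne_zero.mpr (Ne.symm hc)
    refine ⟨(⟨z - c * ((z - T.σ z) / (c - T.σ c)), T.mem_realF.mpr ?_⟩,
      ⟨(z - T.σ z) / (c - T.σ c), T.mem_realF.mpr ?_⟩), by simp⟩
    · rw [map_sub, map_mul, map_div₀, map_sub, map_sub, T.σ_σ, T.σ_σ, ← neg_sub c (T.σ c),
        div_neg]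
      field_simp
      ring
    · rw [map_div₀, map_sub, map_sub, T.σ_σ, T.σ_σ, ← neg_sub z, ← neg_sub c (T.σ c),
        neg_div_neg_eq]

theorem one_lt_card_realF : 1 < Nat.card T.realF := by
  haveI := T.finite_F
  exact Finite.one_lt_card_iff_nontrivial.mpr
    ⟨0, ⟨1, T.mem_realF.mpr (map_one _)⟩, fun h => zero_ne_one (congrArg Subtype.val h)⟩

variable [FiniteDimensional F K]

theorem trace_bar (k : K) : Algebra.trace F K (T.bar k) = T.σ (Algebra.trace F K k) := by
  haveI := T.finite_F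
  apply (algebraMap F K).injective
  rw [← T.bar_algebraMap, trace_eq_sum_automorphisms, trace_eq_sum_automorphisms, map_sum]
  refine Finset.sum_congr rfl fun γ _ => ?_
  haveI : Fintype F := Fintype.ofFinite F
  obtain ⟨i, rfl⟩ := (FiniteField.bijective_frobeniusAlgEquivOfAlgebraic_pow F K).surjective γ
  simp only [AlgEquiv.coe_pow, FiniteField.coe_frobeniusAlgEquivOfAlgebraic_iterate, map_pow]

theorem f_swap (x y : V) : T.f y x = T.σ (T.f x y) := by
  rw [T.tr, T.tr, T.h_swap x y, T.trace_bar]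

/-- A real element of non-zero trace. -/
theorem exists_real_trace : ∃ s : K, T.bar s = s ∧ Algebra.trace F K s ≠ 0 := by
  haveI := T.finite_F
  by_contra hcon
  push Not at hcon
  obtain ⟨c, hc⟩ := T.moved
  obtain ⟨z, hz⟩ := Algebra.trace_surjective F K 1
  obtain ⟨a, b, ha, hb, rfl⟩ := T.exists_decomp hc z
  rw [map_add, hcon a ha, ← Algebra.smul_def, map_smul, hcon b hb, smul_zero, add_zero] at hz
  exact zero_ne_one hz

theorem card_realZero : Nat.card T.realZero * Nat.card T.realF ≤ Nat.card T.real := by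
  haveI := T.finite_F
  obtain ⟨s, hs, hs0⟩ := T.exists_real_trace
  rw [← Nat.card_prod]
  refine Nat.card_le_card_of_injective
    (fun x : T.realZero × T.realF => (⟨(x.1 : K) + (x.2 : F) • s, T.mem_real.mpr (by
      rw [map_add, (T.mem_realZero.mp x.1.2).1, Algebra.smul_def, map_mul, hs, T.bar_algebraMap,
        T.mem_realF.mp x.2.2])⟩ : T.real)) fun x y hxy => ?_
  have h := congrArg Subtype.val hxy
  simp only at h
  have h1 := congrArg (Algebra.trace F K) h
  rw [map_add, map_add, map_smul, map_smul, (T.mem_realZero.mp x.1.2).2,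
    (T.mem_realZero.mp y.1.2).2, zero_add, zero_add, smul_eq_mul, smul_eq_mul] at h1
  have h2 := mul_right_cancel₀ hs0 h1
  rw [h2, add_left_inj] at h
  exact Prod.ext (Subtype.ext h) (Subtype.ext h2)

/-- The count used everywhere. -/
theorem card_realZero_sq :
    Nat.card T.realZero * Nat.card T.realZero * Nat.card F ≤ Nat.card K := by
  rw [← T.card_realF, ← T.card_real]
  calc Nat.card T.realZero * Nat.card T.realZero * (Nat.card T.realF * Nat.card T.realF)
      = (Nat.card T.realZero * Nat.card T.realF) * (Nat.card T.realZero * Nat.card T.realF) := by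
        ring
    _ ≤ _ := Nat.mul_le_mul T.card_realZero T.card_realZero

/-- Subspaces as large as a line on which `h` has real trace-zero diagonal, or planes, contain
isotropic vectors. -/
theorem exists_isotropic [Finite V] (L : AddSubgroup V) (Z : AddSubgroup K)
    (hZ : ∀ x ∈ L, T.h x x ∈ Z) (hcard : Nat.card Z * Nat.card Z < Nat.card L) :
    ∃ x ∈ L, x ≠ 0 ∧ T.h x x = 0 := by
  haveI := T.finite_F
  obtain ⟨p, hp⟩ := CharP.exists K
  haveI : Fact p.Prime := ⟨CharP.char_is_prime K p⟩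
  letI : Algebra (ZMod p) K := ZMod.algebra K p
  have hpL : ∀ x : L, p • x = 0 := fun x => Subtype.ext (by
    show p • (x : V) = 0
    rw [← Nat.cast_smul_eq_nsmul K, CharP.cast_eq_zero, zero_smul])
  letI : Module (ZMod p) L := AddCommGroup.zmodModule hpL
  let B : L →+ L →+ K := AddMonoidHom.mk' (fun x => AddMonoidHom.mk' (fun y => T.h x y)
      fun y y' => T.h_add_right _ _ _) fun x x' => AddMonoidHom.ext fun y => T.h_add _ _ _
  obtain ⟨x, hx, hxx⟩ := exists_diag_eq_zero B (Z.toZModSubmodule p) (fun x => hZ x x.2) hcard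
  exact ⟨x, x.2, fun h => hx (Subtype.ext h), hxx⟩

/-- A plane over `K` contains an isotropic vector. -/
theorem exists_isotropic_in [FiniteDimensional K V] {L : Submodule K V}
    (hL : 2 ≤ Module.finrank K L) : ∃ x ∈ L, x ≠ 0 ∧ T.h x x = 0 := by
  haveI : Finite V := Module.finite_of_finite K
  refine T.exists_isotropic L.toAddSubgroup T.real
    (fun x _ => T.mem_real.mpr (T.bar_h_self x)) ?_
  rw [T.card_real]
  show _ < Nat.card L
  rw [Module.natCard_eq_pow_finrank (K := K) (V := L)]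
  calc Nat.card K = Nat.card K ^ 1 := (pow_one _).symm
    _ < _ := Nat.pow_lt_pow_right Finite.one_lt_card (by omega)

/-- An element of relative trace one. -/
theorem exists_bar_one : ∃ t : K, t + T.bar t = 1 := by
  obtain ⟨c, hc⟩ := T.moved
  set w := algebraMap F K c with hw
  by_cases h2 : w + T.bar w = 0
  · refine ⟨(w + 1) / ((w + 1) + T.bar (w + 1)), ?_⟩
    have hne : (w + 1) + T.bar (w + 1) ≠ 0 := by
      intro h
      rw [map_add, map_one] at h
      have h' : (2 : K) = 0 := by linear_combination h - h2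
      refine hc ((algebraMap F K).injective ?_)
      rw [← T.bar_algebraMap, ← hw]
      linear_combination h2 - w * h'
    rw [map_div₀, map_add T.bar (w + 1), T.bar_bar, add_comm (T.bar (w + 1)), ← add_div,
      div_self hne]
  · refine ⟨w / (w + T.bar w), ?_⟩
    rw [map_div₀, map_add T.bar w, T.bar_bar, add_comm (T.bar w), ← add_div, div_self h2]

/-- An isotropic vector moved along itself to one pairing alike. -/
theorem isotropic_shift {z v : V} (hz : T.h z z = 0) (hzv : T.h z v ≠ 0) :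
    ∃ c : K, T.h (v + c • z) (v + c • z) = 0 ∧ T.h z (v + c • z) = T.h z v := by
  obtain ⟨t, ht⟩ := T.exists_bar_one
  refine ⟨-(T.h v v * t) / T.h z v, ?_, ?_⟩
  · simp only [T.h_add, T.h_add_right, T.h_smul, T.h_smul_right, hz, mul_zero, add_zero]
    rw [T.h_swap z v, map_div₀, map_neg, map_mul, T.bar_h_self]
    have := (map_ne_zero T.bar).mpr hzv
    field_simp
    linear_combination (-(T.h v v)) * ht
  · rw [T.h_add_right, T.h_smul_right, hz, mul_zero, add_zero]

/-- An isotropic vector pairing with a given non-zero one. -/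
theorem exists_isotropic_ne [FiniteDimensional K V] (hd : 2 ≤ Module.finrank K V) {x : V}
    (hx : x ≠ 0) : ∃ v, T.h v v = 0 ∧ T.h x v ≠ 0 := by
  obtain ⟨w, -, hw, hww⟩ := T.exists_isotropic_in (L := ⊤) (by rw [finrank_top]; omega)
  by_contra hcon
  push Not at hcon
  have hxw : T.h x w = 0 := hcon w hww
  obtain ⟨y, hy⟩ := T.nondeg x hx
  obtain ⟨z₀, hz₀⟩ := T.nondeg w hw
  have key : ∀ z, T.h w z ≠ 0 → T.h x z = 0 := by
    intro z hz
    obtain ⟨c, hc1, -⟩ := T.isotropic_shift hww hz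
    have := hcon _ hc1
    rwa [T.h_add_right, T.h_smul_right, hxw, mul_zero, add_zero] at this
  by_cases h : T.h w y = 0
  · apply hy
    have h1 := key (y + z₀) (by rwa [T.h_add_right, h, zero_add])
    rwa [T.h_add_right, key z₀ hz₀, add_zero] at h1
  · exact hy (key y h)

/-- An isotropic vector pairing with two given non-zero ones. -/
theorem exists_isotropic_ne_two [FiniteDimensional K V] (hd : 2 ≤ Module.finrank K V) {x y : V}
    (hx : x ≠ 0) (hy : y ≠ 0) : ∃ v, T.h v v = 0 ∧ T.h x v ≠ 0 ∧ T.h y v ≠ 0 := by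
  obtain ⟨v₁, h₁, hx₁⟩ := T.exists_isotropic_ne hd hx
  obtain ⟨v₂, h₂, hy₂⟩ := T.exists_isotropic_ne hd hy
  by_cases c₁ : T.h y v₁ = 0
  swap
  · exact ⟨v₁, h₁, hx₁, c₁⟩
  by_cases c₂ : T.h x v₂ = 0
  swap
  · exact ⟨v₂, h₂, c₂, hy₂⟩
  obtain ⟨k, hk0, hk⟩ : ∃ k : K, k ≠ 0 ∧
      T.bar k * T.h v₁ v₂ + T.bar (T.bar k * T.h v₁ v₂) = 0 := by
    by_cases h0 : T.h v₁ v₂ = 0
    · exact ⟨1, one_ne_zero, by simp [h0]⟩
    · obtain ⟨c, hc⟩ := T.moved
      set w := algebraMap F K c with hw
      have hwne : w - T.bar w ≠ 0 := by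
        rw [sub_ne_zero, hw, T.bar_algebraMap]
        exact fun h => hc ((algebraMap F K).injective h.symm)
      refine ⟨T.bar ((w - T.bar w) / T.h v₁ v₂),
        (map_ne_zero T.bar).mpr (div_ne_zero hwne h0), ?_⟩
      rw [T.bar_bar, div_mul_cancel₀ _ h0, map_sub, T.bar_bar]
      ring
  refine ⟨v₁ + k • v₂, ?_, ?_, ?_⟩
  · simp only [T.h_add, T.h_add_right, T.h_smul, T.h_smul_right, h₁, h₂, mul_zero, add_zero,
      zero_add]
    rw [T.h_swap v₁ v₂]
    rw [map_mul, T.bar_bar] at hk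
    linear_combination hk
  · rw [T.h_add_right, T.h_smul_right, c₂, mul_zero, add_zero]; exact hx₁
  · rw [T.h_add_right, T.h_smul_right, c₁, zero_add]
    exact mul_ne_zero ((map_ne_zero T.bar).mpr hk0) hy₂

/-- A skew element pairing non-trivially with a given non-zero real one. -/
theorem exists_skew_trace {n : K} (hn : n ≠ 0) (hnr : T.bar n = n) :
    ∃ b : K, T.bar b = -b ∧ Algebra.trace F K (b * n) ≠ 0 := by
  obtain ⟨c, hc⟩ := T.moved
  obtain ⟨s, hs, hs0⟩ := T.exists_real_trace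
  refine ⟨algebraMap F K (c - T.σ c) * (s / n), ?_, ?_⟩
  · rw [map_mul, map_div₀, T.bar_algebraMap, map_sub, T.σ_σ, hs, hnr, ← neg_mul, ← map_neg,
      neg_sub]
  · rw [mul_assoc, div_mul_cancel₀ _ hn, ← Algebra.smul_def, map_smul, smul_eq_mul]
    exact mul_ne_zero (sub_ne_zero.mpr (Ne.symm hc)) hs0

/-! ### Groups between the two unitary groups -/

/-- The elements preserving the form. -/
def Preserves (g : V ≃ₗ[F] V) : Prop := ∀ x y, T.f (g x) (g y) = T.f x y

omit [Finite K] [FiniteDimensional F K] in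
theorem Preserves.symm {g : V ≃ₗ[F] V} (h : T.Preserves g) : T.Preserves g.symm := fun x y => by
  rw [← h, g.apply_symm_apply, g.apply_symm_apply]

/-- `X` preserves `f` and contains the unitary maps over `K` of determinant norm one. -/
structure Between (X : Subgroup (V ≃ₗ[F] V)) : Prop where
  preserves : ∀ g ∈ X, T.Preserves g
  contains : ∀ g : V ≃ₗ[K] V, (∀ x y, T.h (g x) (g y) = T.h x y) →
    Algebra.norm F ((LinearEquiv.det g : Kˣ) : K) = 1 → g.restrictScalars F ∈ X

variable {X : Subgroup (V ≃ₗ[F] V)}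

/-- The root map of `u` with parameter `b`. -/
def root (b : K) (u : V) : V →ₗ[F] V := rootMap (b • T.hLeft u) u

omit [Finite K] [FiniteDimensional F K] in
@[simp] theorem root_apply (b : K) (u x : V) : T.root b u x = (b * T.h x u) • u := rfl

omit [Finite K] in
theorem root_skew {b : K} (hb : T.bar b = -b) (u x y : V) :
    T.f (T.root b u x) y = -T.f x (T.root b u y) := by
  rw [T.tr, T.tr, root_apply, root_apply, T.h_smul, T.h_smul_right, map_mul T.bar, hb,
    ← T.h_swap y u, ← map_neg]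
  congr 1
  ring

omit [Finite K] [FiniteDimensional F K] in
theorem Between.root (hX : T.Between X) [FiniteDimensional K V] {b : K} (hb : T.bar b = -b)
    {u : V} (hu : T.h u u = 0) : MemOne X (T.root b u) := by
  have h0 : (b • T.hLeft u) u = 0 := by simp [hu]
  refine ⟨_, hX.contains (LinearEquiv.transvection h0) (fun x y => ?_) ?_,
    fun x => LinearEquiv.transvection.apply h0 x⟩
  · simp only [LinearEquiv.transvection.apply, LinearMap.smul_apply, hLeft_apply, smul_eq_mul,
      T.h_add, T.h_add_right, T.h_smul, T.h_smul_right, map_mul, hb, hu, mul_zero, add_zero]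
    rw [← T.h_swap y u]
    ring
  · rw [LinearEquiv.transvection.det_eq_one, Units.val_one, map_one]

/-- The dilation of `v` by `a` along `v'`. -/
theorem exists_dil [FiniteDimensional K V] {v : V} {ψ : V →ₗ[K] K} (hψ : ψ v = 1) {a : K}
    (ha : a ≠ 0) : ∃ g : V ≃ₗ[K] V, (∀ x, g x = x + ((a - 1) * ψ x) • v) ∧
      ((LinearEquiv.det g : Kˣ) : K) = a := by
  have hval : 1 + ψ ((a - 1) • v) = a := by rw [map_smul, hψ]; simp
  have h : IsUnit (1 + ψ ((a - 1) • v)) := by rw [hval]; exact isUnit_iff_ne_zero.mpr ha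
  refine ⟨LinearEquiv.dilatransvection h, fun x => ?_, ?_⟩
  · rw [LinearEquiv.dilatransvection.apply, smul_smul, mul_comm]
  · rw [LinearEquiv.coe_det]
    exact (LinearMap.transvection.det (f := ψ) (v := (a - 1) • v)).trans hval

/-- Scaling an isotropic vector. -/
theorem Between.torus (hX : T.Between X) [FiniteDimensional K V] {v v' : V}
    (hv : T.h v v = 0) (hv' : T.h v' v' = 0) (hvv' : T.h v v' ≠ 0) {e : K} (he : e ≠ 0)
    (hn : Algebra.norm F (e / T.bar e) = 1 ∨ 3 ≤ Module.finrank K V) :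
    ∃ g ∈ X, (∀ (k : K) x, g (k • x) = k • g x) ∧ g v = e • v := by
  have hbe : T.bar e ≠ 0 := (map_ne_zero T.bar).mpr he
  have hv'v : T.h v' v ≠ 0 := by rw [T.h_swap v v']; exact (map_ne_zero T.bar).mpr hvv'
  let ψ₁ : V →ₗ[K] K := (T.h v v')⁻¹ • T.hLeft v'
  let ψ₂ : V →ₗ[K] K := (T.h v' v)⁻¹ • T.hLeft v
  have hψ₁ : ∀ x, ψ₁ x = (T.h v v')⁻¹ * T.h x v' := fun x => rfl
  have hψ₂ : ∀ x, ψ₂ x = (T.h v' v)⁻¹ * T.h x v := fun x => rfl
  obtain ⟨g₁, hg₁, hd₁⟩ := exists_dil (ψ := ψ₁) (v := v) (by rw [hψ₁, inv_mul_cancel₀ hvv']) he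
  obtain ⟨g₂, hg₂, hd₂⟩ := exists_dil (ψ := ψ₂) (v := v') (a := (T.bar e)⁻¹)
    (by rw [hψ₂, inv_mul_cancel₀ hv'v]) (inv_ne_zero hbe)
  set g₀ := g₂.trans g₁ with hg₀
  have hg₀x : ∀ x, g₀ x = x + ((e - 1) * ψ₁ x) • v + (((T.bar e)⁻¹ - 1) * ψ₂ x) • v' := by
    intro x
    have h0 : ψ₁ v' = 0 := by rw [hψ₁, hv', mul_zero]
    rw [hg₀, LinearEquiv.trans_apply, hg₁, hg₂, map_add, map_smul, h0, smul_zero, add_zero]
    abel
  have hg₀h : ∀ x y, T.h (g₀ x) (g₀ y) = T.h x y := by
    intro x y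
    simp only [hg₀x, hψ₁, hψ₂, T.h_add, T.h_add_right, T.h_smul, T.h_smul_right, hv, hv',
      mul_zero, add_zero, map_mul, map_sub, map_one, map_inv₀, T.bar_bar]
    rw [T.h_swap y v, T.h_swap y v', T.h_swap v v']
    simp only [T.bar_bar]
    have hb : T.bar (T.h v v') ≠ 0 := (map_ne_zero T.bar).mpr hvv'
    field_simp
    ring
  have hdet₀ : ((LinearEquiv.det g₀ : Kˣ) : K) = e / T.bar e := by
    rw [hg₀, ← LinearEquiv.mul_eq_trans, map_mul, Units.val_mul, hd₁, hd₂, div_eq_mul_inv]
  have hg₀v : g₀ v = e • v := by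
    rw [hg₀x, hψ₁, hψ₂, hv, mul_zero, mul_zero, zero_smul, add_zero, inv_mul_cancel₀ hvv',
      mul_one, sub_smul, one_smul]
    abel
  rcases hn with hn | hd
  · exact ⟨g₀.restrictScalars F, hX.contains g₀ hg₀h (by rw [hdet₀]; exact hn),
      fun k x => map_smul g₀ k x, hg₀v⟩
  -- compensate on an anisotropic vector orthogonal to both
  obtain ⟨z, hz, hzz⟩ : ∃ z, (T.h z v = 0 ∧ T.h z v' = 0) ∧ T.h z z ≠ 0 := by
    let L : Submodule K V := LinearMap.ker ψ₁ ⊓ LinearMap.ker ψ₂
    have hLmem : ∀ z, z ∈ L ↔ T.h z v' = 0 ∧ T.h z v = 0 := fun z => by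
      simp [L, hψ₁, hψ₂, hvv', hv'v]
    obtain ⟨w, hw⟩ := exists_notMem_span_pair (K := K) (u := v) (w := v') hd
    set z₀ := w - ψ₁ w • v - ψ₂ w • v' with hz₀def
    have hz₀L : z₀ ∈ L := by
      rw [hLmem]
      simp only [hz₀def, T.h_sub_left, T.h_smul, hv, hv', hψ₁, hψ₂]
      constructor <;> field_simp <;> ring
    have hz₀ : z₀ ≠ 0 := by
      intro h0
      apply hw
      rw [Submodule.mem_span_pair]
      exact ⟨ψ₁ w, ψ₂ w, by rw [hz₀def, sub_sub, sub_eq_zero] at h0; exact h0.symm⟩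
    by_contra hcon
    push Not at hcon
    have hiso : ∀ z ∈ L, T.h z z = 0 := fun z hz => hcon z ⟨((hLmem z).mp hz).2, ((hLmem z).mp hz).1⟩
    obtain ⟨y, hy⟩ := T.nondeg z₀ hz₀
    set y' := y - ψ₁ y • v - ψ₂ y • v' with hy'def
    have hy' : y' ∈ L := by
      rw [hLmem]
      simp only [hy'def, T.h_sub_left, T.h_smul, hv, hv', hψ₁, hψ₂]
      constructor <;> field_simp <;> ring
    obtain ⟨h1, h2⟩ := (hLmem _).mp hz₀L
    have hzy : T.h z₀ y' ≠ 0 := by
      intro h0
      apply hy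
      have : y = y' + ψ₁ y • v + ψ₂ y • v' := by rw [hy'def]; abel
      rw [this, T.h_add_right, T.h_add_right, T.h_smul_right, T.h_smul_right, h0, h1, h2]
      simp
    obtain ⟨t, ht⟩ := T.exists_bar_one
    have h3 := hiso _ (L.add_mem (L.smul_mem (t / T.h z₀ y') hz₀L) hy')
    simp only [T.h_add, T.h_add_right, T.h_smul, T.h_smul_right, hiso _ hz₀L, hiso _ hy',
      mul_zero, add_zero, zero_add] at h3
    rw [T.h_swap z₀ y', ← map_mul, div_mul_cancel₀ _ hzy, ht] at h3
    exact one_ne_zero h3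
  obtain ⟨hzv, hzv'⟩ := hz
  let ψ₃ : V →ₗ[K] K := (T.h z z)⁻¹ • T.hLeft z
  have hψ₃ : ∀ x, ψ₃ x = (T.h z z)⁻¹ * T.h x z := fun x => rfl
  obtain ⟨g₃, hg₃, hd₃⟩ := exists_dil (ψ := ψ₃) (v := z) (a := T.bar e / e)
    (by rw [hψ₃, inv_mul_cancel₀ hzz]) (div_ne_zero hbe he)
  have hg₃h : ∀ x y, T.h (g₃ x) (g₃ y) = T.h x y := by
    intro x y
    simp only [hg₃, hψ₃, T.h_add, T.h_add_right, T.h_smul, T.h_smul_right, map_mul, map_sub,
      map_one, map_div₀, map_inv₀, T.bar_bar, T.bar_h_self]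
    rw [← T.h_swap y z]
    field_simp
    ring
  refine ⟨(g₃.trans g₀).restrictScalars F, hX.contains (g₃.trans g₀) (fun x y => ?_) ?_,
    fun k x => map_smul (g₃.trans g₀) k x, ?_⟩
  · show T.h (g₀ (g₃ x)) (g₀ (g₃ y)) = _
    rw [hg₀h, hg₃h]
  · rw [← LinearEquiv.mul_eq_trans, map_mul, Units.val_mul, hdet₀, hd₃,
      div_mul_div_cancel₀ hbe, div_self he, map_one]
  · show g₀ (g₃ v) = e • v
    rw [hg₃, hψ₃, T.h_swap z v, hzv, map_zero, mul_zero, mul_zero, zero_smul, add_zero, hg₀v]

end UOddTower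

end CfsgLib.ExtField
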