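import Cfsg.Agent.ExtField.UOddLine

/-!
# All transvection centres from those of one line
-/

set_option autoImplicit false

namespace CfsgLib.ExtField

open Module

variable {F K V : Type*} [Field F] [Field K] [Algebra F K] [AddCommGroup V] [Module F V]
  [Module K V] [IsScalarTower F K V]

namespace UOddTower

variable (T : UOddTower F K V) [Finite K] [FiniteDimensional F K] [FiniteDimensional K V]
  [FiniteDimensional F V] {X : Subgroup (V ≃ₗ[F] V)}

/-- All transvections with centre `x` lie in `X`. -/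
def Centre (X : Subgroup (V ≃ₗ[F] V)) (x : V) : Prop :=
  ∀ lam : F, T.σ lam = -lam → MemOne X (lam • (T.fLeft x).smulRight x)

omit [Finite K] [FiniteDimensional F K] [FiniteDimensional K V] [FiniteDimensional F V] in
theorem Centre.map (hX : T.Between X) {x : V} (h : T.Centre X x) {g : V ≃ₗ[F] V} (hg : g ∈ X) :
    T.Centre X (g x) := by
  intro lam hlam
  convert (h lam hlam).conj hg using 1
  ext y
  have e : T.f (g.symm y) x = T.f y (g x) := by rw [← hX.preserves g hg, g.apply_symm_apply]
  simp [e]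

omit [FiniteDimensional K V] [FiniteDimensional F V] in
theorem Centre.add (hX : T.Between X) {x y : V} (hx : T.Centre X x) (hy : T.Centre X y)
    (hxx : T.f x x = 0) (hyy : T.f y y = 0) (hxy : T.f x y ≠ 0)
    (h : T.f (x + y) (x + y) = 0) : T.Centre X (x + y) := by
  rw [T.f_add, T.f_add_right, T.f_add_right, hxx, hyy, T.f_swap x y] at h
  have hc : T.σ (T.f x y)⁻¹ = -(T.f x y)⁻¹ := by
    rw [map_inv₀, ← inv_neg]
    congr 1
    linear_combination h
  obtain ⟨g, hg, hgx⟩ := hy (T.f x y)⁻¹ hc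
  have h1 := hx.map T hX hg
  rwa [hgx, LinearMap.smul_apply, LinearMap.smulRight_apply, fLeft_apply, smul_smul,
    inv_mul_cancel₀ hxy, one_smul] at h1

/-- The multiples of a neighbour of a line of centres are centres. -/
theorem centre_step (hX : T.Between X) {u v : V} (hu : T.h u u = 0) (hv : T.h v v = 0)
    (huv : T.h u v ≠ 0) (hc : ∀ k : K, T.Centre X (k • u)) (m : K) : T.Centre X (m • v) := by
  rcases eq_or_ne m 0 with rfl | hm
  · rw [zero_smul]
    intro lam _
    rw [show lam • (T.fLeft (0 : V)).smulRight (0 : V) = 0 by ext y; simp]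
    exact MemOne.zero X
  obtain ⟨b₀, hb₀, hb₀'⟩ := T.exists_skew_trace (n := m * T.bar m)
    (mul_ne_zero hm ((map_ne_zero T.bar).mpr hm)) (by rw [map_mul, T.bar_bar, mul_comm])
  have hb₀0 : b₀ ≠ 0 := fun h => hb₀' (by rw [h, zero_mul, map_zero])
  set k := m * b₀ / T.h u v with hk
  have hbs : T.bar b₀⁻¹ = -b₀⁻¹ := by rw [map_inv₀, hb₀, inv_neg]
  obtain ⟨t, ht, htN⟩ := hX.root T hbs hv
  have htu : t (k • u) = k • u + m • v := by
    rw [htN, root_apply, T.h_smul, hk, div_mul_cancel₀ _ huv,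
      show b₀⁻¹ * (m * b₀) = m by field_simp]
  have h1 := (hc k).map T hX ht
  rw [htu] at h1
  have h2 := hc (-k)
  have hiso : ∀ (i : K) (z : V), T.h z z = 0 → T.f (i • z) (i • z) = 0 := fun i z hz =>
    T.f_eq_zero_of_h (by rw [T.h_smul, T.h_smul_right, hz, mul_zero, mul_zero])
  have e : k • u + m • v + (-k) • u = m • v := by rw [neg_smul]; abel
  have h0 : T.f (k • u + m • v) (k • u + m • v) = 0 := by
    rw [← htu, hX.preserves t ht]; exact hiso k u hu
  have := h1.add T hX h2 h0 (hiso _ u hu) ?_ (by rw [e]; exact hiso m v hv)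
  · rwa [e] at this
  rw [T.f_add, neg_smul, ← neg_smul, T.f_eq_zero_of_h (x := k • u)
    (by rw [T.h_smul, T.h_smul_right, hu, mul_zero, mul_zero]), zero_add, T.tr, T.h_smul,
    T.h_smul_right, T.h_swap u v]
  intro h3
  apply hb₀'
  rw [hk, map_neg T.bar, map_div₀, map_mul T.bar, hb₀] at h3
  rw [← h3]
  congr 1
  have := (map_ne_zero T.bar).mpr huv
  field_simp

/-- Every singular vector is a centre. -/
theorem centre_all (hX : T.Between X) (hd : 2 ≤ Module.finrank K V) {u : V} (hu0 : u ≠ 0)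
    (hu : T.h u u = 0) (hc : ∀ z ∈ kline F K u, T.Centre X z) {x : V} (hx : T.f x x = 0) :
    T.Centre X x := by
  have hcu : ∀ k : K, T.Centre X (k • u) := fun k => hc _ (smul_mem_kline u k)
  have hiso : ∀ v : V, T.h v v = 0 → ∀ k : K, T.Centre X (k • v) := by
    intro v hv
    rcases eq_or_ne v 0 with rfl | hv0
    · intro k
      rw [smul_zero, ← zero_smul K u]
      exact hcu 0
    obtain ⟨z, hz, huz, hvz⟩ := T.exists_isotropic_ne_two hd hu0 hv0
    exact T.centre_step hX hz hv (by rw [T.h_swap v z]; exact (map_ne_zero T.bar).mpr hvz)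
      (T.centre_step hX hu hz huz hcu)
  by_cases hxx : T.h x x = 0
  · have := hiso x hxx 1
    rwa [one_smul] at this
  obtain ⟨v, hv, hxv⟩ := T.exists_isotropic_ne hd (x := x)
    (fun h => hxx (by subst h; exact T.h_zero_left _))
  -- a decomposition of `h x x` with non-zero trace
  obtain ⟨γ, hγ, hγ0⟩ : ∃ γ : K, γ + T.bar γ = T.h x x ∧ Algebra.trace F K (T.bar γ) ≠ 0 := by
    obtain ⟨t, ht⟩ := T.exists_bar_one
    have h0 : T.h x x * t + T.bar (T.h x x * t) = T.h x x := by
      rw [map_mul, T.bar_h_self, ← mul_add, ht, mul_one]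
    by_cases h1 : Algebra.trace F K (T.bar (T.h x x * t)) = 0
    swap
    · exact ⟨_, h0, h1⟩
    obtain ⟨b, hb, hb'⟩ := T.exists_skew_trace (n := 1) one_ne_zero (map_one _)
    rw [mul_one] at hb'
    refine ⟨T.h x x * t + b, ?_, ?_⟩
    · rw [map_add, hb]
      linear_combination h0
    · rw [map_add T.bar, map_add, h1, hb, map_neg, zero_add]
      exact neg_ne_zero.mpr hb'
  set c := -γ / T.bar (T.h x v) with hc'
  have hbxv := (map_ne_zero T.bar).mpr hxv
  have hy₁ : T.h (x + c • v) (x + c • v) = 0 := by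
    simp only [T.h_add, T.h_add_right, T.h_smul, T.h_smul_right, hv, mul_zero, add_zero]
    rw [T.h_swap x v, hc', map_div₀, map_neg, T.bar_bar]
    field_simp
    linear_combination -hγ
  have h1 := hiso _ hy₁ 1
  rw [one_smul] at h1
  have e : x + c • v + (-c) • v = x := by rw [neg_smul]; abel
  have hi2 : T.h ((-c) • v) ((-c) • v) = 0 := by
    rw [T.h_smul, T.h_smul_right, hv, mul_zero, mul_zero]
  have := h1.add T hX (hiso v hv (-c)) (T.f_eq_zero_of_h hy₁) (T.f_eq_zero_of_h hi2) ?_
    (by rw [e]; exact hx)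
  · rwa [e] at this
  rw [T.tr, T.h_add, T.h_smul, T.h_smul_right, T.h_smul_right, hv, mul_zero, mul_zero, add_zero,
    hc', map_neg, map_div₀, map_neg, T.bar_bar, neg_div, neg_neg, div_mul_cancel₀ _ hxv]
  exact hγ0

end UOddTower

end CfsgLib.ExtField
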