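import Cfsg.Agent.ExtField.UOddMeet
import Cfsg.Agent.ExtField.Bimodule
import Cfsg.Agent.ExtField.Frame

/-!
# All transvections centred on one line

From a line image meeting a line in a hyperplane we get rank two members supported on the line;
their conjugates by scalings, and the roots, give every transvection centred on the line.
-/

set_option autoImplicit false
set_option maxHeartbeats 1000000

namespace CfsgLib.ExtField

open Module

variable {F K V : Type*} [Field F] [Field K] [Algebra F K] [AddCommGroup V] [Module F V]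
  [Module K V] [IsScalarTower F K V]

namespace UOddTower

variable (T : UOddTower F K V) [Finite K] [FiniteDimensional F K] [FiniteDimensional K V]
  [FiniteDimensional F V] {X : Subgroup (V ≃ₗ[F] V)}

omit [FiniteDimensional K V] [FiniteDimensional F V] in
theorem bar_comm (γ : Gal(K/F)) (x : K) : γ (T.bar x) = T.bar (γ x) := by
  haveI := T.finite_F
  haveI : Fintype F := Fintype.ofFinite F
  obtain ⟨i, rfl⟩ := (FiniteField.bijective_frobeniusAlgEquivOfAlgebraic_pow F K).surjective γ
  simp only [AlgEquiv.coe_pow, FiniteField.coe_frobeniusAlgEquivOfAlgebraic_iterate, map_pow]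

omit [FiniteDimensional K V] [FiniteDimensional F V] [Finite K] in
theorem mem_bot_of_fixed (hprime : (Module.finrank F K).Prime) {γ : Gal(K/F)} (hγ : γ ≠ 1) {x : K}
    (hx : γ x = x) : ∃ c : F, algebraMap F K c = x := by
  haveI := Subalgebra.isSimpleOrder_of_finrank_prime F K hprime
  rcases IsSimpleOrder.eq_bot_or_eq_top (AlgHom.equalizer γ.toAlgHom (AlgHom.id F K)) with h | h
  · have hmem : x ∈ AlgHom.equalizer γ.toAlgHom (AlgHom.id F K) := hx
    rw [h, Algebra.mem_bot] at hmem
    exact hmem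
  · exfalso
    apply hγ
    ext y
    have hy : y ∈ AlgHom.equalizer γ.toAlgHom (AlgHom.id F K) := by rw [h]; exact Algebra.mem_top
    exact hy

omit [FiniteDimensional K V] [FiniteDimensional F V] in
theorem sq_ne_one (hprime : (Module.finrank F K).Prime) (hodd : Odd (Module.finrank F K))
    {γ : Gal(K/F)} (hγ : γ ≠ 1) : γ * γ ≠ 1 := by
  intro h
  haveI : Finite F := Finite.of_injective _ (algebraMap F K).injective
  apply hγ
  rw [← orderOf_eq_one_iff]
  have h1 : orderOf γ ∣ 2 := orderOf_dvd_of_pow_eq_one (by rw [pow_two, h])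
  have h2 : orderOf γ ∣ Module.finrank F K := by
    rw [← IsGalois.card_aut_eq_finrank F K]
    exact orderOf_dvd_natCard γ
  exact Nat.eq_one_of_dvd_coprimes (Nat.coprime_two_left.mpr hodd) h1 h2

/-- An endomorphism of the coordinates as a map into the line of `u`. -/
def onLine (u : V) (θ : K →ₗ[F] K) : V →ₗ[F] V :=
  lineHom u ∘ₗ θ ∘ₗ (T.hLeft u).restrictScalars F

omit [Finite K] [FiniteDimensional F K] [FiniteDimensional K V] [FiniteDimensional F V] in
@[simp] theorem onLine_apply (u : V) (θ : K →ₗ[F] K) (x : V) :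
    T.onLine u θ x = θ (T.h x u) • u := rfl

omit [Finite K] [FiniteDimensional F K] [FiniteDimensional K V] [FiniteDimensional F V] in
theorem onLine_comp {u : V} (hu : T.h u u = 0) (θ θ' : K →ₗ[F] K) :
    T.onLine u θ ∘ₗ T.onLine u θ' = 0 := by
  ext x
  simp [T.h_smul, hu]

/-- The members of the form `1 + onLine`, by their coefficients. -/
def lineGroup (X : Subgroup (V ≃ₗ[F] V)) {u : V} (hu : T.h u u = 0) :
    AddSubgroup (Gal(K/F) → K) where
  carrier := {c | MemOne X (T.onLine u (autSum F K c))}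
  add_mem' {a b} ha hb := by
    have := MemOne.add ha hb (T.onLine_comp hu _ _)
    show MemOne X _
    convert this using 1
    ext x
    simp [add_smul]
  zero_mem' := by
    show MemOne X _
    rw [map_zero, show T.onLine u 0 = 0 by ext x; simp]
    exact MemOne.zero X
  neg_mem' {a} ha := by
    have := MemOne.neg ha (T.onLine_comp hu _ _)
    show MemOne X _
    convert this using 1
    ext x
    simp [neg_smul]

omit [Finite K] [FiniteDimensional K V] [FiniteDimensional F V] in
theorem mem_lineGroup {u : V} (hu : T.h u u = 0) (c : Gal(K/F) → K) :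
    c ∈ T.lineGroup X hu ↔ MemOne X (T.onLine u (autSum F K c)) := Iff.rfl

/-- The skew-symmetric product of two vectors. -/
def cross (P Q : V) : V →ₗ[F] V := (T.fLeft P).smulRight Q - (T.fLeft Q).smulRight P

omit [Finite K] [FiniteDimensional F K] [FiniteDimensional K V] [FiniteDimensional F V] in
@[simp] theorem cross_apply (P Q x : V) : T.cross P Q x = T.f x P • Q - T.f x Q • P := rfl

omit [FiniteDimensional K V] [FiniteDimensional F V] in
theorem count_skew {E : Submodule F K} (hr : 3 ≤ Module.finrank F K)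
    (hE : Module.finrank F E + 1 = Module.finrank F K) (η : K)
    (htr : ∀ e ∈ E, Algebra.trace F K (e * T.bar η) = 0) :
    ∃ e₁ ∈ E, ∃ e₂ ∈ E, e₁ ≠ 0 ∧ e₁ * T.bar η + T.bar e₁ * η = 0 ∧
      e₂ * T.bar η + T.bar e₂ * η = 0 ∧ ∀ c ∈ T.realF, e₂ ≠ algebraMap F K c * e₁ := by
  haveI := T.finite_F
  have hN : 1 < Nat.card F := Finite.one_lt_card
  let φ : E →+ T.realZero := AddMonoidHom.mk'
    (fun e => ⟨(e : K) * T.bar η + T.bar e * η, T.pairing_mem (htr e e.2)⟩)
    (fun a a' => Subtype.ext (by simp only [AddSubgroup.coe_add, Submodule.coe_add, map_add]; ring))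
  have hker : Nat.card T.realF < Nat.card φ.ker := by
    have h3 := T.ker_bound φ
    rw [Module.natCard_eq_pow_finrank (K := F) (V := E)] at h3
    have hZ := T.card_realZero_sq
    rw [Module.natCard_eq_pow_finrank (K := F) (V := K)] at hZ
    by_contra hcon
    push Not at hcon
    have h4 := Nat.mul_le_mul h3 h3
    have h5 : Nat.card φ.ker * Nat.card φ.ker ≤ Nat.card F := by
      rw [← T.card_realF]; exact Nat.mul_le_mul hcon hcon
    have h6 : Nat.card F ^ (2 * Module.finrank F E + 1) ≤ Nat.card F ^ (1 + Module.finrank F K) := by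
      rw [pow_succ, two_mul, pow_add, pow_add, pow_one]
      calc _ ≤ (Nat.card φ.ker * Nat.card T.realZero) * (Nat.card φ.ker * Nat.card T.realZero)
            * Nat.card F := Nat.mul_le_mul_right _ h4
        _ = (Nat.card φ.ker * Nat.card φ.ker)
            * (Nat.card T.realZero * Nat.card T.realZero * Nat.card F) := by ring
        _ ≤ _ := Nat.mul_le_mul h5 hZ
    have := (Nat.pow_le_pow_iff_right hN).mp h6
    omega
  obtain ⟨⟨e₁, he₁⟩, hk₁, he₁0⟩ : ∃ e : E, e ∈ φ.ker ∧ (e : K) ≠ 0 := by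
    by_contra hcon
    push Not at hcon
    haveI : Subsingleton φ.ker :=
      ⟨fun a b => Subtype.ext (Subtype.ext ((hcon _ a.2).trans (hcon _ b.2).symm))⟩
    have := Nat.card_of_subsingleton (0 : φ.ker)
    have := T.one_lt_card_realF
    omega
  obtain ⟨⟨e₂, he₂⟩, hk₂, hnot⟩ : ∃ e : E, e ∈ φ.ker ∧
      ∀ c ∈ T.realF, (e : K) ≠ algebraMap F K c * e₁ := by
    by_contra hcon
    push Not at hcon
    choose c hc hce using hcon
    have := Nat.card_le_card_of_injective (fun e : φ.ker => (⟨c e.1 e.2, hc e.1 e.2⟩ : T.realF))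
      fun e e' h => Subtype.ext (Subtype.ext (by
        rw [hce e.1 e.2, hce e'.1 e'.2]
        exact congrArg (fun x => algebraMap F K x * e₁) (congrArg Subtype.val h)))
    omega
  exact ⟨e₁, he₁, e₂, he₂, he₁0, congrArg Subtype.val hk₁, congrArg Subtype.val hk₂, hnot⟩

/-- Skew products of enough pairs of multiples of one vector. -/
theorem exists_cross (hX : T.Between X) (hr : 3 ≤ Module.finrank F K) {g : V ≃ₗ[F] V} {w u : V}
    (hG : T.Good X g w u)
    (hD : Module.finrank F ((kline F K w).map g.toLinearMap ⊓ kline F K u : Submodule F V) + 1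
      = Module.finrank F K) :
    ∃ p₁ p₂ q : K, p₁ ≠ 0 ∧ q ≠ 0 ∧ (∀ c ∈ T.realF, p₂ ≠ algebraMap F K c * p₁) ∧
      MemOne X (T.cross (p₁ • u) (q • u)) ∧ MemOne X (T.cross (p₂ • u) (q • u)) := by
  haveI := T.finite_F
  obtain ⟨hg, hw, hww, hu, huu, ⟨k₁, hk₁⟩, h1⟩ := hG
  set B : Submodule F V := (kline F K w).map g.toLinearMap with hB
  set A : Submodule F V := kline F K u with hA
  set a' := g (k₁ • w) with ha'def
  have ha'B : a' ∈ B := ⟨_, smul_mem_kline w k₁, rfl⟩
  have hAA : ∀ x ∈ A, ∀ y ∈ A, T.f x y = 0 := fun x hx y hy => T.line_isotropic huu hx hy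
  have hBB : ∀ x ∈ B, ∀ y ∈ B, T.f x y = 0 :=
    fun x hx y hy => T.image_singular (hX.preserves g hg) hww hx hy
  have hua' : T.h u a' ≠ 0 := by rw [T.h_swap a' u]; exact (map_ne_zero T.bar).mpr hk₁
  obtain ⟨s, hs⟩ := Algebra.trace_surjective F K 1
  set a := (s / T.h u a') • u with hadef
  have haA : a ∈ A := smul_mem_kline u _
  have hfa : T.f a a' = 1 := by rw [T.tr, hadef, T.h_smul, div_mul_cancel₀ _ hua', hs]
  have hfa' : T.f a' a = 1 := by rw [T.f_swap a a', hfa, map_one]
  have hBdim : Module.finrank F B = Module.finrank F K := finrank_map_kline g hw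
  have hAle := le_sup_span_of_hyperplane (inf_le_right : B ⊓ A ≤ A)
    (by rw [hD, hA, finrank_kline hu]) haA (fun h => by
      rw [hBB a (Submodule.mem_inf.mp h).1 a' ha'B] at hfa; exact zero_ne_one hfa)
  have hBle := le_sup_span_of_hyperplane (inf_le_left : B ⊓ A ≤ B)
    (by rw [hD, hBdim]) ha'B (fun h => by
      rw [hAA a haA a' (Submodule.mem_inf.mp h).2] at hfa; exact zero_ne_one hfa)
  have decA : ∀ z ∈ A, ∃ d ∈ B ⊓ A, z = d + T.f z a' • a := by
    intro z hz
    obtain ⟨d, hd, e, he, rfl⟩ := Submodule.mem_sup.mp (hAle hz)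
    obtain ⟨c, rfl⟩ := Submodule.mem_span_singleton.mp he
    exact ⟨d, hd, by
      rw [T.f_add, hBB _ (Submodule.mem_inf.mp hd).1 _ ha'B, zero_add, T.f_smul, hfa, mul_one]⟩
  have decB : ∀ z ∈ B, ∃ d ∈ B ⊓ A, z = d + T.f z a • a' := by
    intro z hz
    obtain ⟨d, hd, e, he, rfl⟩ := Submodule.mem_sup.mp (hBle hz)
    obtain ⟨c, rfl⟩ := Submodule.mem_span_singleton.mp he
    exact ⟨d, hd, by
      rw [T.f_add, hAA _ (Submodule.mem_inf.mp hd).2 _ haA, zero_add, T.f_smul, hfa', mul_one]⟩
  set ζ := T.h (g.symm a) w with hζ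
  have hζ0 : ζ ≠ 0 := by
    intro h0
    have h : T.f (g.symm a) (k₁ • w) = 1 := by
      rw [← hX.preserves g hg, g.apply_symm_apply]; exact hfa
    rw [T.f_eq_zero_of_h (by rw [T.h_smul_right, ← hζ, h0, mul_zero])] at h
    exact zero_ne_one h
  set η := T.h a' u with hη
  -- the two sets of parameters
  let Dk : Submodule F K := (B ⊓ A).comap (lineHom u)
  have hDk : Module.finrank F Dk + 1 = Module.finrank F K := by
    have e : Dk.map (lineHom u) = B ⊓ A := by
      rw [Submodule.map_comap_eq, range_lineHom]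
      exact inf_eq_right.mpr inf_le_right
    have := (Submodule.equivMapOfInjective (lineHom u) (lineHom_injective hu) Dk).finrank_eq
    rw [e] at this
    omega
  let gw : K →ₗ[F] V := g.toLinearMap ∘ₗ lineHom w
  have hgw : Function.Injective gw := g.injective.comp (lineHom_injective hw)
  let E : Submodule F K := (B ⊓ A).comap gw
  have hE : Module.finrank F E + 1 = Module.finrank F K := by
    have e : E.map gw = B ⊓ A := by
      rw [Submodule.map_comap_eq]
      refine inf_eq_right.mpr ?_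
      rw [LinearMap.range_comp, range_lineHom]
      exact inf_le_left
    have := (Submodule.equivMapOfInjective gw hgw E).finrank_eq
    rw [e] at this
    omega
  obtain ⟨p₁, hp₁, p₂, hp₂, hp₁0, hs₁, hs₂, hnot⟩ := T.count_skew hr hDk η (fun e he => by
    have := hBB (e • u) (Submodule.mem_inf.mp he).1 a' ha'B
    rwa [T.tr, T.h_smul, T.h_swap a' u] at this)
  obtain ⟨l, hl, -, -, hl0, hls, -, -⟩ := T.count_skew hr hE ζ (fun e he => by
    have h := hAA (g (e • w)) (Submodule.mem_inf.mp he).2 a haA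
    rw [← g.apply_symm_apply a, hX.preserves g hg] at h
    rwa [T.tr, T.h_smul, T.h_swap (g.symm a) w] at h)
  obtain ⟨q, hq⟩ := mem_kline.mp (Submodule.mem_inf.mp hl).2
  have hq0 : q ≠ 0 := by
    intro h0
    rw [h0, zero_smul] at hq
    exact hl0 (hgw (by rw [map_zero]; exact hq.symm))
  obtain ⟨b', hb'⟩ : ∃ b', b' = l / ζ := ⟨_, rfl⟩
  have hb's : T.bar b' = -b' := hb' ▸ T.skew_div hζ0 hls
  let M : V →ₗ[F] V := g.toLinearMap ∘ₗ T.root b' w ∘ₗ g.symm.toLinearMap
  have hMX : MemOne X M := (hX.root T hb's hww).conj hg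
  have hMs : ∀ x y, T.f (M x) y = -T.f x (M y) := by
    intro x y
    show T.f (g (T.root b' w (g.symm x))) y = -T.f x (g (T.root b' w (g.symm y)))
    rw [← (hX.preserves g hg).symm T, g.symm_apply_apply, T.root_skew hb's]
    rw [← hX.preserves g hg (g.symm x), g.apply_symm_apply]
  have hMB : ∀ x, M x ∈ B := fun x => ⟨_, smul_mem_kline w _, rfl⟩
  have hM0 : ∀ x ∈ B, M x = 0 := by
    rintro x ⟨z, hz, rfl⟩
    obtain ⟨i, rfl⟩ := mem_kline.mp hz
    simp [M, T.h_smul, hww]
  have hMa : M a = q • u := by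
    show g ((b' * T.h (g.symm a) w) • w) = q • u
    rw [← hζ, hb', div_mul_cancel₀ _ hζ0]
    exact hq.symm
  have key : ∀ p ∈ Dk, p * T.bar η + T.bar p * η = 0 → MemOne X (T.cross (p • u) (q • u)) := by
    intro p hp hps
    set b := p / η with hb
    have hbs : T.bar b = -b := T.skew_div hk₁ hps
    have hNa : T.root b u a' = p • u := by rw [root_apply, hb, div_mul_cancel₀ _ hk₁]
    have hN0 : ∀ x ∈ A, T.root b u x = 0 := by
      intro x hx
      obtain ⟨i, rfl⟩ := mem_kline.mp hx
      simp [T.h_smul, huu]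
    have hNA : ∀ x, T.root b u x ∈ A := fun x => smul_mem_kline u _
    have hpA : p • u ∈ A := smul_mem_kline u p
    have hqB : q • u ∈ B := by rw [← hMa]; exact hMB a
    have eNM : ∀ x, T.root b u (M x) = -T.f x (q • u) • (p • u) := by
      intro x
      obtain ⟨d, hd, he⟩ := decB _ (hMB x)
      rw [he, map_add, map_smul, hNa, hN0 _ (Submodule.mem_inf.mp hd).2, zero_add, hMs, hMa]
    have eMN : ∀ x, M (T.root b u x) = -T.f x (p • u) • (q • u) := by
      intro x
      obtain ⟨d, hd, he⟩ := decA _ (hNA x)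
      rw [he, map_add, map_smul, hMa, hM0 _ (Submodule.mem_inf.mp hd).1, zero_add,
        T.root_skew hbs, hNa]
    have h := (hX.root T hbs huu).commutator hMX (LinearMap.ext fun x => hN0 _ (hNA x))
      (LinearMap.ext fun x => hM0 _ (hMB x))
      (LinearMap.ext fun x => by
        simp only [LinearMap.comp_apply, eNM, LinearMap.zero_apply]
        rw [hAA _ (hNA x) _ (smul_mem_kline u q), neg_zero, zero_smul])
      (LinearMap.ext fun x => by
        simp only [LinearMap.comp_apply, eMN, LinearMap.zero_apply]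
        rw [hBB _ (hMB x) (p • u) (Submodule.mem_inf.mp hp).1, neg_zero, zero_smul])
    convert h using 1
    ext x
    simp only [cross_apply, LinearMap.sub_apply, LinearMap.comp_apply, eNM, eMN]
    module
  exact ⟨p₁, p₂, q, hp₁0, hq0, hnot, key p₁ hp₁ hs₁, key p₂ hp₂ hs₂⟩

/-- Every transvection centred on one isotropic line. -/
theorem exists_line_centres (hX : T.Between X) (hprime : (Module.finrank F K).Prime)
    (hodd : Odd (Module.finrank F K)) (hr : Module.finrank F K ≤ 5)
    (hd : 2 ≤ Module.finrank K V)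
    (hes : ∃ es : K, es ≠ 0 ∧
      (Algebra.norm F (es / T.bar es) = 1 ∨ 3 ≤ Module.finrank K V) ∧
      ∀ c : F, algebraMap F K c ≠ es / T.bar es)
    (hmove : ∃ g ∈ X, ∃ k : K, ¬ ∃ k' : K, ∀ v, g (k • g.symm v) = k' • v) :
    ∃ u, u ≠ 0 ∧ T.h u u = 0 ∧ ∀ z ∈ kline F K u, ∀ lam : F, T.σ lam = -lam →
      MemOne X (lam • (T.fLeft z).smulRight z) := by
  classical
  haveI := T.finite_F
  have hr3 : 3 ≤ Module.finrank F K := by
    have := hprime.two_le
    obtain ⟨j, hj⟩ := hodd
    omega
  obtain ⟨g, w, u, hG, hD⟩ := T.exists_hyperplane hX hprime hr hd hmove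
  obtain ⟨p₁, p₂, q, hp₁, hq, hnot, hP₁, hP₂⟩ := T.exists_cross hX hr3 hG hD
  obtain ⟨-, -, -, hu, huu, -, -⟩ := hG
  refine ⟨u, hu, huu, fun z hz lam hlam => ?_⟩
  obtain ⟨k₀, rfl⟩ := mem_kline.mp hz
  have htr : ∀ y : K, algebraMap F K (Algebra.trace F K y) = ∑ γ : Gal(K/F), γ y :=
    fun y => trace_eq_sum_automorphisms (K := F) (L := K) y
  -- the coefficients of a skew product
  let cc : K → K → (Gal(K/F) → K) := fun P Q γ => Q * γ (T.bar P) - P * γ (T.bar Q)
  have hcc : ∀ P Q : K, T.onLine u (autSum F K (cc P Q)) = T.cross (P • u) (Q • u) := by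
    intro P Q
    ext x
    rw [onLine_apply, autSum_apply, cross_apply, T.tr x, T.tr x, T.h_smul_right, T.h_smul_right,
      ← algebraMap_smul K (Algebra.trace F K (T.bar P * T.h x u)),
      ← algebraMap_smul K (Algebra.trace F K (T.bar Q * T.h x u)), smul_smul, smul_smul, ← sub_smul,
      htr, htr, Finset.sum_mul, Finset.sum_mul, ← Finset.sum_sub_distrib]
    congr 1
    refine Finset.sum_congr rfl fun γ _ => ?_
    simp only [cc, map_mul]
    ring
  -- scalings
  obtain ⟨u', hu', huu'⟩ := T.exists_isotropic_ne hd hu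
  have hscale : ∀ e : K, e ≠ 0 → (Algebra.norm F (e / T.bar e) = 1 ∨ 3 ≤ Module.finrank K V) →
      ∀ p : K, MemOne X (T.cross (p • u) (q • u)) → cc (e * p) (e * q) ∈ T.lineGroup X huu := by
    intro e he hn p hp
    obtain ⟨t, ht, hlin, htu⟩ := hX.torus T huu hu' huu' he hn
    have := hp.conj ht
    rw [mem_lineGroup, hcc]
    convert this using 1
    ext x
    have e1 : ∀ v, T.f (t.symm x) v = T.f x (t v) := fun v => by
      rw [← hX.preserves t ht, t.apply_symm_apply]
    simp only [cross_apply, LinearMap.comp_apply, LinearEquiv.coe_coe, map_sub, map_smul, e1, hlin,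
      htu, smul_smul, mul_comm e]
  obtain ⟨pc, hpc⟩ := CharP.exists K
  haveI : Fact pc.Prime := ⟨CharP.char_is_prime K pc⟩
  letI : Algebra (ZMod pc) K := ZMod.algebra K pc
  haveI : Module.Finite (ZMod pc) K := Module.Finite.of_finite
  let Tp : K →ₗ[ZMod pc] ZMod pc := Algebra.trace (ZMod pc) K
  have hTp0 : Tp ≠ 0 := by
    obtain ⟨y, hy⟩ := Algebra.trace_surjective (ZMod pc) K 1
    exact fun h => zero_ne_one (by rw [← hy]; exact (LinearMap.congr_fun h y).symm)
  have hTeq : ∀ (φ : K ≃+* K) (x : K), Tp (φ x) = Tp x := fun φ x =>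
    Algebra.trace_eq_of_algEquiv (AlgEquiv.ofRingEquiv (f := φ)
      (fun c => RingHom.congr_fun (RingHom.ext_zmod (φ.toRingHom.comp (algebraMap (ZMod pc) K))
        (algebraMap (ZMod pc) K)) c)) x
  have hTγ : ∀ (γ : Gal(K/F)) (x : K), Tp (γ x) = Tp x := fun γ => hTeq γ.toRingEquiv
  have hTnd : ∀ Y : K, (∀ y, Tp (Y * y) = 0) → Y = 0 := by
    intro Y hY
    by_contra hY0
    exact hTp0 (LinearMap.ext fun y => by
      have := hY (y / Y)
      rwa [mul_div_cancel₀ _ hY0] at this)
  -- the target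
  set b := algebraMap F K lam * k₀ * T.bar k₀ with hb
  let cz : Gal(K/F) → K := fun γ => algebraMap F K lam * k₀ * γ (T.bar k₀)
  have hcz : T.onLine u (autSum F K cz) = lam • (T.fLeft (k₀ • u)).smulRight (k₀ • u) := by
    ext x
    rw [onLine_apply, autSum_apply, LinearMap.smul_apply, LinearMap.smulRight_apply, fLeft_apply,
      T.tr, T.h_smul_right, ← algebraMap_smul K lam,
      ← algebraMap_smul K (Algebra.trace F K (T.bar k₀ * T.h x u)), smul_smul, smul_smul, htr,
      Finset.mul_sum, Finset.sum_mul]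
    congr 1
    refine Finset.sum_congr rfl fun γ _ => ?_
    simp only [cz, map_mul]
    ring
  have hbroot : Pi.single 1 b ∈ T.lineGroup X huu := by
    rw [mem_lineGroup]
    have hbs : T.bar b = -b := by
      rw [hb, map_mul, map_mul, T.bar_bar, T.bar_algebraMap, hlam, map_neg]
      ring
    convert hX.root T hbs huu using 1
    ext x
    rw [onLine_apply, autSum_apply, root_apply, Fintype.sum_eq_single 1 (fun γ hγ => by
      rw [Pi.single_eq_of_ne hγ, zero_mul]), Pi.single_eq_same]
    rfl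
  set t := cz - Pi.single 1 b with ht
  suffices hmem : t ∈ T.lineGroup X huu by
    have := (T.lineGroup X huu).add_mem hmem hbroot
    rw [ht, sub_add_cancel, mem_lineGroup, hcz] at this
    exact this
  by_contra hnot'
  obtain ⟨Λ, hΛt, hΛ⟩ := Submodule.exists_dual_map_eq_bot_of_notMem
    (p := (T.lineGroup X huu).toZModSubmodule pc) (x := t) hnot' inferInstance
  have hμex : ∀ γ : Gal(K/F), ∃ μ : K, ∀ y, Λ (Pi.single γ y) = Tp (μ * y) := by
    intro γ
    obtain ⟨ψ, hψ⟩ := exists_dual_comp (F := ZMod pc) (K := K) (V := K) hTp0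
      (Λ ∘ₗ LinearMap.single (ZMod pc) (fun _ : Gal(K/F) => K) γ)
    refine ⟨ψ 1, fun y => ?_⟩
    have e : ψ 1 * y = ψ y := by
      conv_rhs => rw [show y = y • (1 : K) by simp]
      rw [map_smul, smul_eq_mul, mul_comm]
    rw [e, hψ]
    rfl
  choose μ hμ using hμex
  have hΛsum : ∀ c : Gal(K/F) → K, Λ c = ∑ γ, Tp (μ γ * c γ) := by
    intro c
    conv_lhs => rw [← Finset.univ_sum_single c]
    rw [map_sum]
    exact Finset.sum_congr rfl fun γ _ => hμ γ _
  have hvan : ∀ e : K, (e = 0 ∨ Algebra.norm F (e / T.bar e) = 1 ∨ 3 ≤ Module.finrank K V) →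
      ∀ p : K, MemOne X (T.cross (p • u) (q • u)) →
      ∑ γ : Gal(K/F), Tp (μ γ * (q * γ (T.bar p) - p * γ (T.bar q)) * (e * γ (T.bar e))) = 0 := by
    intro e hn p hp
    rcases eq_or_ne e 0 with rfl | he
    · exact Finset.sum_eq_zero fun γ _ => by simp
    have h1 := hscale e he (hn.resolve_left he) p hp
    have h2 : Λ (cc (e * p) (e * q)) = 0 := by
      have : Λ (cc (e * p) (e * q)) ∈ ((T.lineGroup X huu).toZModSubmodule pc).map Λ :=
        Submodule.mem_map_of_mem h1
      rwa [hΛ, Submodule.mem_bot] at this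
    rw [hΛsum] at h2
    rw [← h2]
    refine Finset.sum_congr rfl fun γ _ => ?_
    congr 1
    simp only [cc, map_mul]
    ring
  obtain ⟨c, hc⟩ := T.moved
  -- the conditions on `μ`
  have hW : ∀ g₀ : K, (Algebra.norm F (g₀ / T.bar g₀) = 1 ∨ 3 ≤ Module.finrank K V) →
      ∀ p : K, MemOne X (T.cross (p • u) (q • u)) → ∀ γ : Gal(K/F),
      μ γ * (q * γ (T.bar p) - p * γ (T.bar q)) * (g₀ * γ (T.bar g₀))
        + γ (μ γ⁻¹ * (q * γ⁻¹ (T.bar p) - p * γ⁻¹ (T.bar q)) * (g₀ * γ⁻¹ (T.bar g₀)))
        + T.bar (μ γ * (q * γ (T.bar p) - p * γ (T.bar q)) * (g₀ * γ (T.bar g₀))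
        + γ (μ γ⁻¹ * (q * γ⁻¹ (T.bar p) - p * γ⁻¹ (T.bar q)) * (g₀ * γ⁻¹ (T.bar g₀)))) = 0 := by
    intro g₀ hg₀ p hp
    obtain ⟨ν, hν⟩ : ∃ ν : Gal(K/F) → K, ∀ γ, ν γ
        = μ γ * (q * γ (T.bar p) - p * γ (T.bar q)) * (g₀ * γ (T.bar g₀)) :=
      ⟨fun γ => _, fun γ => rfl⟩
    simp only [← hν]
    have hreal : ∀ k : K, T.bar k = k →
        ∑ γ : Gal(K/F), Tp (ν γ * (k * γ k)) = 0 := by
      intro k hk
      have := hvan (g₀ * k) (by
        rcases eq_or_ne k 0 with rfl | hk0
        · exact Or.inl (mul_zero _)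
        · refine Or.inr ?_
          rwa [map_mul T.bar, hk, mul_div_mul_right _ _ hk0]) p hp
      rw [← this]
      refine Finset.sum_congr rfl fun γ _ => ?_
      rw [hν, map_mul T.bar, hk, map_mul γ]
      congr 1
      ring
    have hY : ∀ k' : K, T.bar k' = k' →
        ∑ γ : Gal(K/F), (ν γ + γ (ν γ⁻¹) + T.bar (ν γ + γ (ν γ⁻¹))) * γ k' = 0 := by
      intro k' hk'
      set Y := ∑ γ : Gal(K/F), (ν γ + γ (ν γ⁻¹)) * γ k' with hYdef
      have hbarY : T.bar Y = ∑ γ : Gal(K/F), T.bar (ν γ + γ (ν γ⁻¹)) * γ k' := by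
        rw [hYdef, map_sum]
        exact Finset.sum_congr rfl fun γ _ => by rw [map_mul, ← T.bar_comm, hk']
      have hkY : ∀ k : K, T.bar k = k → Tp (Y * k) = 0 := by
        intro k hk
        have h3 := hreal (k + k') (by rw [map_add, hk, hk'])
        have e1 : ∀ γ : Gal(K/F), Tp (ν γ * ((k + k') * γ (k + k')))
            = Tp (ν γ * (k * γ k)) + Tp (ν γ * (k' * γ k'))
              + (Tp (ν γ * γ k' * k) + Tp (ν γ * (k' * γ k))) := fun γ => by
          simp only [← map_add Tp]
          congr 1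
          rw [map_add γ]
          ring
        simp only [e1, Finset.sum_add_distrib, hreal k hk, hreal k' hk', zero_add] at h3
        have e2 : ∑ γ : Gal(K/F), Tp (ν γ * (k' * γ k))
            = ∑ γ : Gal(K/F), Tp (γ (ν γ⁻¹) * γ k' * k) := by
          refine Fintype.sum_equiv (Equiv.inv Gal(K/F)) _ _ fun γ => ?_
          have hinv : ∀ y, γ⁻¹ (γ y) = y := fun y => γ.symm_apply_apply y
          rw [Equiv.inv_apply, inv_inv, ← hTγ γ⁻¹, map_mul γ⁻¹, map_mul γ⁻¹, hinv]
          congr 1
          ring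
        rw [e2] at h3
        rw [hYdef, Finset.sum_mul, map_sum, ← h3, ← Finset.sum_add_distrib]
        refine Finset.sum_congr rfl fun γ _ => ?_
        rw [← map_add Tp]
        congr 1
        ring
      have hY0 : Y + T.bar Y = 0 := by
        refine hTnd _ fun y => ?_
        have h4 := hkY (y + T.bar y) (by rw [map_add, T.bar_bar, add_comm])
        have e3 : Tp (Y * T.bar y) = Tp (T.bar Y * y) := by
          rw [← hTeq T.bar (Y * T.bar y), map_mul, T.bar_bar]
        rw [mul_add, map_add, e3, ← map_add] at h4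
        rw [add_mul]
        exact h4
      rw [← hY0, hbarY, hYdef, ← Finset.sum_add_distrib]
      exact Finset.sum_congr rfl fun γ _ => add_mul _ _ _
    -- independence on the real elements
    intro γ
    let M : Submonoid K :=
      { carrier := {k | T.bar k = k}
        mul_mem' := fun {a b} ha hb => by
          show T.bar (a * b) = a * b
          rw [map_mul]
          exact congrArg₂ (· * ·) ha hb
        one_mem' := map_one T.bar }
    have hli : LinearIndependent K
        (fun γ : Gal(K/F) => (((γ : K →* K).comp M.subtype : M →* K) : M → K)) := by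
      apply (linearIndependent_monoidHom M K).comp (fun γ : Gal(K/F) => (γ : K →* K).comp M.subtype)
      intro γ₁ γ₂ h
      ext x
      obtain ⟨x₁, x₂, hx₁, hx₂, rfl⟩ := T.exists_decomp hc x
      have h₁ := DFunLike.congr_fun h ⟨x₁, hx₁⟩
      have h₂ := DFunLike.congr_fun h ⟨x₂, hx₂⟩
      simp only [MonoidHom.comp_apply, Submonoid.coe_subtype] at h₁ h₂
      rw [map_add, map_add, map_mul, map_mul, AlgEquiv.commutes, AlgEquiv.commutes]
      exact congrArg₂ (fun a b => a + algebraMap F K c * b) h₁ h₂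
    refine Fintype.linearIndependent_iff.mp hli
      (fun γ => ν γ + γ (ν γ⁻¹) + T.bar (ν γ + γ (ν γ⁻¹))) ?_ γ
    funext k
    simpa [Finset.sum_apply] using hY k.1 k.2
  have hμrel : ∀ γ : Gal(K/F), γ ≠ 1 → T.bar (γ (μ γ⁻¹)) = μ γ := by
    intro γ hγ
    have hinv : ∀ y, γ (γ⁻¹ y) = y := fun y => γ.apply_symm_apply y
    have hstep : ∀ p : K, MemOne X (T.cross (p • u) (q • u)) →
        (μ γ - T.bar (γ (μ γ⁻¹))) * (q * γ (T.bar p) - p * γ (T.bar q)) = 0 := by
      intro p hp
      obtain ⟨es, hes0, hesn, hesF⟩ := hes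
      have h1 := hW 1 (Or.inl (by rw [map_one, div_one, map_one])) p hp γ
      have h2 := hW es hesn p hp γ
      simp only [map_add, map_sub, map_mul, map_one, mul_one, hinv, ← T.bar_comm, T.bar_bar]
        at h1 h2
      simp only [T.bar_comm] at h1 h2 ⊢
      have hG : es * T.bar (γ es) - T.bar es * γ es ≠ 0 := by
        intro h0
        have hfix : γ (es / T.bar es) = es / T.bar es := by
          rw [map_div₀, T.bar_comm,
            div_eq_div_iff ((map_ne_zero T.bar).mpr (by simpa using hes0))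
              ((map_ne_zero T.bar).mpr hes0)]
          linear_combination -h0
        obtain ⟨c', hc'⟩ := mem_bot_of_fixed hprime hγ hfix
        exact hesF c' hc'
      refine (mul_eq_zero.mp ?_).resolve_right hG
      linear_combination h2 - (T.bar es * γ es) * h1
    by_contra hne
    have hne' : μ γ - T.bar (γ (μ γ⁻¹)) ≠ 0 := sub_ne_zero.mpr (Ne.symm hne)
    have hd₁ := (mul_eq_zero.mp (hstep p₁ hP₁)).resolve_left hne'
    have hd₂ := (mul_eq_zero.mp (hstep p₂ hP₂)).resolve_left hne'
    obtain ⟨tt, htt⟩ : ∃ tt, tt = p₂ / p₁ := ⟨_, rfl⟩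
    have hbar1 : γ (T.bar p₁) ≠ 0 := by simpa using (map_ne_zero T.bar).mpr hp₁
    have hfix : γ (T.bar tt) = tt := by
      rw [htt, map_div₀, map_div₀, div_eq_div_iff hbar1 hp₁]
      have h3 : q * (γ (T.bar p₂) * p₁ - p₂ * γ (T.bar p₁)) = 0 := by
        linear_combination p₁ * hd₂ - p₂ * hd₁
      exact sub_eq_zero.mp ((mul_eq_zero.mp h3).resolve_left hq)
    have hfix2 : (γ * γ) tt = tt := by
      show γ (γ tt) = tt
      have h4 : γ tt = T.bar tt := by
        have h5 := congrArg T.bar hfix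
        rwa [← T.bar_comm, T.bar_bar] at h5
      rw [h4, hfix]
    obtain ⟨c', hc'⟩ := mem_bot_of_fixed hprime (sq_ne_one hprime hodd hγ) hfix2
    rw [← hc', T.bar_algebraMap, AlgEquiv.commutes] at hfix
    refine hnot c' (T.mem_realF.mpr ((algebraMap F K).injective hfix)) ?_
    rw [hc', htt, div_mul_cancel₀ _ hp₁]
  apply hΛt
  rw [hΛsum]
  refine Finset.sum_ninvolution (fun γ : Gal(K/F) => γ⁻¹) (fun γ => ?_) (fun γ hne => ?_)
    (fun γ => Finset.mem_univ _) (fun γ => inv_inv γ)
  · rcases eq_or_ne γ 1 with rfl | hγ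
    · rw [inv_one, ht, Pi.sub_apply, Pi.single_eq_same]
      simp [cz, hb]
    · have e : μ γ * t γ = -T.bar (γ (μ γ⁻¹ * t γ⁻¹)) := by
        rw [map_mul, map_mul, hμrel γ hγ, ht, Pi.sub_apply, Pi.sub_apply,
          Pi.single_eq_of_ne hγ, Pi.single_eq_of_ne (inv_ne_one.mpr hγ)]
        simp only [cz, sub_zero, map_mul, AlgEquiv.commutes, T.bar_algebraMap, hlam, map_neg,
          show γ (γ⁻¹ (T.bar k₀)) = T.bar k₀ from γ.apply_symm_apply _, T.bar_bar, ← T.bar_comm]
        ring
      rw [e, map_neg, hTeq, hTγ, neg_add_cancel]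
  · intro h
    rcases eq_or_ne γ 1 with rfl | hγ
    · apply hne
      rw [ht, Pi.sub_apply, Pi.single_eq_same]
      simp [cz, hb]
    · exact sq_ne_one hprime hodd hγ (by nth_rewrite 1 [← h]; exact inv_mul_cancel γ)

end UOddTower

end CfsgLib.ExtField
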