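import Cfsg.Agent.ExtField.UOddExpand
import Cfsg.Agent.ExtField.Bridge
import Cfsg.Agent.MaxSub.UnitaryCentres
import Cfsg.Agent.MaxSub.HermStandard

/-!
# Normalisers of fields of degree three or five are maximal in special unitary groups
-/

set_option autoImplicit false
set_option maxHeartbeats 1000000

namespace CfsgLib.ExtField

open Cfsg.Geo CfsgLib.MaxSub CfsgLib.MaxSub.UC
open scoped Matrix MatrixGroups

variable {F : Type*} [Field F] [Fintype F] {n q : ℕ}

/-- A circle element whose Frobenius quotient avoids the ground field. -/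
theorem exists_scaling {K V : Type*} [Field K] [Algebra F K] [Finite K] [FiniteDimensional F K]
    [AddCommGroup V] [Module F V] [Module K V] [IsScalarTower F K V] (T : UOddTower F K V)
    (hσ : ∀ a, T.σ a = a ^ q) (hF : Fintype.card F = q ^ 2)
    (hprime : (Module.finrank F K).Prime)
    (hex : Module.finrank F K * (q + 1) < q ^ Module.finrank F K + 1 ∨ 3 ≤ Module.finrank K V) :
    ∃ es : K, es ≠ 0 ∧
      (Algebra.norm F (es / T.bar es) = 1 ∨ 3 ≤ Module.finrank K V) ∧
      ∀ c : F, algebraMap F K c ≠ es / T.bar es := by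
  classical
  set r := Module.finrank F K
  have hq : 1 < q := by
    have h1 : 1 < Fintype.card F := Fintype.one_lt_card
    rw [hF] at h1
    by_contra hle
    interval_cases q <;> simp at h1
  have hreal : Nat.card T.real = q ^ r := by
    have h := T.card_real
    rw [Module.natCard_eq_pow_finrank (K := F) (V := K), Nat.card_eq_fintype_card (α := F), hF,
      ← pow_mul, pow_mul', ← pow_two] at h
    exact Nat.pow_left_injective two_ne_zero h
  haveI : Fintype K := Fintype.ofFinite K
  let φ : Kˣ →* Kˣ := MonoidHom.id _ * (Units.map T.bar.toRingHom.toMonoidHom)⁻¹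
  have hφ : ∀ k : Kˣ, (φ k : K) = k / T.bar k := fun k => by
    simp [φ, div_eq_mul_inv]
  -- the circle is large
  have hcirc : ∀ b : ℕ, 0 < b → (∀ k : Kˣ, ((φ k : Kˣ) : K) ^ b = 1) → q ^ r + 1 ≤ b := by
    intro b hb h
    have h1 : Nat.card φ.range ≤ b := by
      rw [Nat.card_eq_fintype_card]
      calc Fintype.card φ.range ≤ (Polynomial.nthRootsFinset b (1 : K)).card := by
            rw [← Finset.card_univ]
            refine Finset.card_le_card_of_injOn (fun x => ((x : Kˣ) : K)) (fun x _ => ?_)
              fun x _ y _ hxy => Subtype.ext (Units.ext hxy)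
            obtain ⟨k, hk⟩ := x.2
            rw [Finset.mem_coe, Polynomial.mem_nthRootsFinset hb]
            show (((x : Kˣ)) : K) ^ b = 1
            rw [← hk]
            exact h k
        _ ≤ b := by
            rw [Polynomial.nthRootsFinset_def]
            exact (Multiset.toFinset_card_le _).trans (Polynomial.card_nthRoots b 1)
    have h2 : Nat.card φ.ker + 1 ≤ Nat.card T.real := by
      let i : Option φ.ker → T.real := fun o => o.elim 0 fun k => ⟨((k : Kˣ) : K), T.mem_real.mpr (by
        have := congrArg Units.val (k.2 : φ k = 1)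
        rw [hφ, Units.val_one, div_eq_one_iff_eq ((map_ne_zero T.bar).mpr (k : Kˣ).ne_zero)] at this
        exact this.symm)⟩
      have hi : Function.Injective i := by
        rintro (_ | a) (_ | c) h
        · rfl
        · exact absurd (congrArg Subtype.val h).symm (c : Kˣ).ne_zero
        · exact absurd (congrArg Subtype.val h) (a : Kˣ).ne_zero
        · exact congrArg some (Subtype.ext (Units.ext (congrArg Subtype.val h :)))
      have := Nat.card_le_card_of_injective i hi
      rwa [Finite.card_option] at this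
    have h3 := φ.ker.card_mul_index
    rw [Subgroup.index_ker, Nat.card_units, Module.natCard_eq_pow_finrank (K := F) (V := K),
      Nat.card_eq_fintype_card (α := F), hF, ← pow_mul, mul_comm 2, pow_mul, ← hreal] at h3
    set R := Nat.card T.real
    rw [← hreal]
    have h4 : Nat.card φ.ker * Nat.card φ.range ≤ (R - 1) * b :=
      Nat.mul_le_mul (by omega) h1
    rw [h3] at h4
    have hR : 1 < R := by rw [hreal]; exact Nat.one_lt_pow hprime.ne_zero hq
    by_contra hlt
    push Not at hlt
    obtain ⟨R', hR'⟩ : ∃ R', R = R' + 1 := ⟨R - 1, by omega⟩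
    rw [hR'] at h4 hlt hR
    have h6 : (R' + 1) ^ 2 - 1 = R' * (R' + 2) := by
      rw [Nat.sub_eq_iff_eq_add (Nat.one_le_pow _ _ (by omega))]
      ring
    rw [h6, Nat.add_sub_cancel] at h4
    nlinarith
  have hcircle : ∀ k : Kˣ, (φ k : K) * T.bar (φ k : K) = 1 := fun k => by
    rw [hφ, map_div₀, T.bar_bar, div_mul_div_cancel₀ ((map_ne_zero T.bar).mpr k.ne_zero),
      div_self k.ne_zero]
  have hFpow : ∀ (c : F), algebraMap F K c * T.bar (algebraMap F K c) = 1 → c ^ (q + 1) = 1 := by
    intro c hc
    rw [T.bar_algebraMap, ← map_mul, hσ, ← map_one (algebraMap F K)] at hc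
    rw [pow_succ, mul_comm]
    exact (algebraMap F K).injective hc
  rcases hex with hex | hd
  · -- an element of the form `φ v / v`
    obtain ⟨γ, hγ⟩ : ∃ γ : Gal(K/F), γ ≠ 1 := by
      haveI := T.finite_F
      by_contra hcon
      push Not at hcon
      haveI : Subsingleton Gal(K/F) := ⟨fun a b => (hcon a).trans (hcon b).symm⟩
      have h := IsGalois.card_aut_eq_finrank F K
      rw [Nat.card_of_subsingleton (1 : Gal(K/F))] at h
      exact hprime.one_lt.ne h
    by_contra hcon
    push Not at hcon
    have hall : ∀ k : Kˣ, ((φ k : Kˣ) : K) ^ (r * (q + 1)) = 1 := by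
      intro k
      set es := γ (k : K) / (k : K) with hes
      have hes0 : es ≠ 0 := div_ne_zero (by simpa using k.ne_zero) k.ne_zero
      set v := ((φ k : Kˣ) : K) with hv
      have hv0 : v ≠ 0 := (φ k).ne_zero
      have hes' : es / T.bar es = γ v / v := by
        rw [hes, hv, hφ, map_div₀, map_div₀, ← T.bar_comm]
        field_simp
      have hnorm' : Algebra.norm F (γ v / v) = 1 := by
        refine mul_right_cancel₀ (Algebra.norm_ne_zero_iff.mpr hv0) ?_
        rw [← map_mul, div_mul_cancel₀ _ hv0, Algebra.norm_eq_of_algEquiv γ, one_mul]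
      have hnorm : Algebra.norm F (es / T.bar es) = 1 := by rw [hes', hnorm']
      obtain ⟨c, hc⟩ := hcon es hes0 (Or.inl hnorm)
      rw [hes'] at hc
      have hcr : c ^ r = 1 := by
        have h := congrArg (Algebra.norm F) hc
        rwa [Algebra.norm_algebraMap, hnorm'] at h
      have hfix : γ (v ^ r) = v ^ r := by
        rw [map_pow, show γ v = algebraMap F K c * v by rw [hc, div_mul_cancel₀ _ hv0], mul_pow,
          ← map_pow, hcr, map_one, one_mul]
      obtain ⟨c', hc'⟩ := UOddTower.mem_bot_of_fixed hprime hγ hfix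
      have h1 : algebraMap F K c' * T.bar (algebraMap F K c') = 1 := by
        rw [hc', map_pow, ← mul_pow, hv, hcircle, one_pow]
      rw [pow_mul, ← hc', ← map_pow, hFpow c' h1, map_one]
    have := hcirc _ (by have := hprime.pos; positivity) hall
    omega
  · -- any element off the ground field
    by_contra hcon
    push Not at hcon
    have hall : ∀ k : Kˣ, ((φ k : Kˣ) : K) ^ (q + 1) = 1 := by
      intro k
      obtain ⟨c, hc⟩ := hcon (k : K) k.ne_zero (Or.inr hd)
      have h1 := hcircle k
      rw [hφ, ← hc] at h1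
      rw [hφ, ← hc, ← map_pow, hFpow c h1, map_one]
    have := hcirc _ (by omega) hall
    have : q < q ^ r := by
      calc q = q ^ 1 := (pow_one q).symm
        _ < _ := Nat.pow_lt_pow_right hq hprime.one_lt
    omega

variable {σ : F ≃+* F}

local notation "η" => Cfsg.hermForm n F q
local notation "SU" => Cfsg.GU n F q ⊓ specialLinear (Fin n) F
local notation "Mat" => Matrix (Fin n) (Fin n) F

/-- A subgroup of `SU` above the normaliser of an adjoint closed field and not inside it is
`SU`. -/
theorem su_le_of_not_mem (hf : IsUnitaryForm σ (Cfsg.hermForm n F q)) (hσ : ∀ a, σ a = a ^ q)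
    (hF : Fintype.card F = q ^ 2) (hn : 4 ≤ n) {r : ℕ} (hr : r.Prime) (hro : Odd r) (hr5 : r ≤ 5)
    (hrn : r < n) (hex : r * (q + 1) < q ^ r + 1 ∨ 3 * r ≤ n)
    {K : Subalgebra F (Matrix (Fin n) (Fin n) F)} (hK : IsFieldSubalgebra r K)
    (hac : IsAdjointClosedFor (Cfsg.hermForm n F q) K)
    {M : Subgroup (GL (Fin n) F)} (hM : subalgebraNormalizer K ⊓ (SU) ≤ M) (hMle : M ≤ SU)
    {g : GL (Fin n) F} (hg : g ∈ M) (hgN : g ∉ subalgebraNormalizer K) : SU ≤ M := by
  classical
  haveI : Nonempty (Fin n) := ⟨⟨0, by omega⟩⟩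
  letI : Field K := (isField_subalgebra hK).toField
  letI : Module K (Fin n → F) := mulVecModule K
  have hsmul : ∀ (a : K) (v : Fin n → F), a • v = (a : Mat) *ᵥ v := fun _ _ => rfl
  haveI : IsScalarTower F K (Fin n → F) := ⟨fun c a v => by
    rw [hsmul, hsmul]; exact Matrix.smul_mulVec c _ v⟩
  haveI : Finite K := Subtype.finite
  haveI : FiniteDimensional K (Fin n → F) := Module.Finite.of_finite
  have hfin : Module.finrank F K = r := hK.finrank_eq
  have hrn' : r * Module.finrank K (Fin n → F) = n := by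
    rw [← hfin, Module.finrank_mul_finrank, Module.finrank_pi, Fintype.card_fin]
  have hs := sesqForm_of_unitary hf
  have hzero : ∀ {x y : Fin n → F}, (∀ z, η z x = η z y) → x = y := by
    intro x y h
    by_contra hne
    obtain ⟨z, hz⟩ := hs.exists_left_ne_zero (sub_ne_zero.mpr hne)
    apply hz
    rw [sub_eq_add_neg, hs.add_right, ← neg_one_smul F y, hs.smul_right, map_neg, map_one, h z]
    ring
  -- the adjoint
  choose adj hadjK hadj using hac
  have hadj_unique : ∀ (k : K) (k' : K), (∀ u v, η ((k : Mat) *ᵥ u) v = η u ((k' : Mat) *ᵥ v)) →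
      k' = ⟨adj k k.2, hadjK k k.2⟩ := by
    intro k k' h
    apply Subtype.ext
    refine Matrix.ext_iff_mulVec.mpr fun v => hzero fun z => ?_
    rw [← h, hadj k k.2]
  let bar₀ : K → K := fun k => ⟨adj k k.2, hadjK k k.2⟩
  have hb : ∀ (k : K) u v, η (k • u) v = η u (bar₀ k • v) := fun k u v => hadj k k.2 u v
  have hbb : ∀ k, bar₀ (bar₀ k) = k := fun k => (hadj_unique (bar₀ k) k fun u v => by
    rw [← hsmul, ← hsmul, hf.herm, ← hb, ← hf.herm]).symm
  let bar : K ≃+* K :=
    { toFun := bar₀
      invFun := bar₀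
      left_inv := hbb
      right_inv := hbb
      map_mul' := fun a b => (hadj_unique (a * b) (bar₀ a * bar₀ b) fun u v => by
        rw [← hsmul, ← hsmul, mul_comm (bar₀ a), mul_smul, mul_smul, hb, hb]).symm
      map_add' := fun a b => (hadj_unique (a + b) (bar₀ a + bar₀ b) fun u v => by
        rw [← hsmul, ← hsmul, add_smul, add_smul, hs.add_left, hs.add_right, hb, hb]).symm }
  have hbalg : ∀ c, bar (algebraMap F K c) = algebraMap F K (σ c) := fun c =>
    (hadj_unique (algebraMap F K c) (algebraMap F K (σ c)) fun u v => by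
      rw [← hsmul, ← hsmul, algebraMap_smul, algebraMap_smul, hs.smul_left, hs.smul_right, hf.involutive]).symm
  have htrbar : ∀ k : K, Algebra.trace F K (bar k) = σ (Algebra.trace F K k) := by
    intro k
    apply (algebraMap F K).injective
    rw [← hbalg, trace_eq_sum_automorphisms, trace_eq_sum_automorphisms, map_sum]
    refine Finset.sum_congr rfl fun γ _ => ?_
    obtain ⟨i, rfl⟩ := (FiniteField.bijective_frobeniusAlgEquivOfAlgebraic_pow F K).surjective γ
    simp only [AlgEquiv.coe_pow, FiniteField.coe_frobeniusAlgEquivOfAlgebraic_iterate, map_pow]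
  -- the form over `K`
  have htr0 : Algebra.trace F K ≠ 0 := by
    obtain ⟨z, hz⟩ := Algebra.trace_surjective F K 1
    exact fun h => zero_ne_one (by rw [← hz, h]; rfl)
  let χ : (Fin n → F) → (Fin n → F) →ₗ[F] F := fun y =>
    { toFun := fun x => η x y
      map_add' := fun a b => hs.add_left a b y
      map_smul' := fun c a => hs.smul_left c a y }
  choose ψ hψ using fun y => exists_dual_comp (K := K) htr0 (χ y)
  have hψl : ∀ (x y : Fin n → F) (l : K), Algebra.trace F K (l * ψ y x) = η (l • x) y :=
    fun x y l => by rw [← smul_eq_mul, ← map_smul, hψ]; rfl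
  have huniq : ∀ a b : K, (∀ l : K, Algebra.trace F K (l * a) = Algebra.trace F K (l * b)) →
      a = b := by
    intro a b h
    by_contra hne
    obtain ⟨s, hs'⟩ := Algebra.trace_surjective F K 1
    have := h (s / (a - b))
    rw [← sub_eq_zero, ← map_sub, ← mul_sub, div_mul_cancel₀ _ (sub_ne_zero.mpr hne), hs'] at this
    exact one_ne_zero this
  let T : UOddTower F K (Fin n → F) :=
    { f := Cfsg.hermForm n F q
      h := fun x y => ψ y x
      bar := bar
      σ := σ
      bar_bar := hbb
      bar_algebraMap := hbalg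
      moved := exists_moved hf.ne_refl
      h_add := fun x x' y => map_add (ψ y) x x'
      h_smul := fun k x y => map_smul (ψ y) k x
      h_swap := fun x y => huniq _ _ fun l => by
        rw [hψl, hf.herm, show l * bar (ψ y x) = bar (bar₀ l * ψ y x) by
          rw [map_mul]; exact congrArg (· * bar (ψ y x)) (hbb l).symm, htrbar, hψl, hb, hbb]
      tr := fun x y => by rw [hψ]; rfl
      nondeg := fun x hx => by
        obtain ⟨y, hy⟩ := (hs.nondegenerate x hx).2
        refine ⟨y, fun h0 => hy ?_⟩
        show χ y x = 0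
        rw [← hψ, show ψ y x = 0 from h0, map_zero] }
  have hd2 : 2 ≤ Module.finrank K (Fin n → F) := by
    by_contra hlt
    have : r * Module.finrank K (Fin n → F) ≤ r * 1 := Nat.mul_le_mul_left _ (by omega)
    omega
  set X := M.map (glAut : GL (Fin n) F ≃* _).toMonoidHom with hXdef
  have hX : T.Between X := by
    refine ⟨?_, fun e he hdet => ?_⟩
    · rintro _ ⟨y, hy, rfl⟩ a b
      show η ((y : Mat) *ᵥ a) ((y : Mat) *ᵥ b) = η a b
      exact mem_GU_iff_forall.mp (hMle hy).1 a b
    · obtain ⟨y, hy⟩ := (glAut : GL (Fin n) F ≃* _).surjective (e.restrictScalars F)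
      have hye : ∀ v, (y : Mat) *ᵥ v = e v := fun v => by rw [← glAut_apply, hy]; rfl
      refine ⟨y, hM ⟨mem_normalizer_of_commute fun k hk => ?_, ?_, (su_det hf).mpr ?_⟩, hy⟩
      · apply Matrix.ext_of_mulVec_single
        intro i
        rw [← Matrix.mulVec_mulVec, ← Matrix.mulVec_mulVec, hye, hye]
        exact map_smul e (⟨k, hk⟩ : K) _
      · refine mem_GU_iff_forall.mpr fun a b => ?_
        rw [hye, hye]
        show χ (e b) (e a) = χ b a
        rw [← hψ, ← hψ]
        exact congrArg _ (he a b)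
      · rw [← LinearMap.det_toLin', show Matrix.toLin' (y : Mat)
          = (e.toLinearMap).restrictScalars F from LinearMap.ext fun v => by
            rw [Matrix.toLin'_apply, hye]; rfl,
          LinearMap.det_restrictScalars, ← LinearEquiv.coe_det]
        exact hdet
  obtain ⟨k, hk, hkg⟩ : ∃ k ∈ K, (g : Mat) * k * ((g⁻¹ : GL (Fin n) F) : Mat) ∉ K := by
    by_contra hc
    push Not at hc
    exact hgN (mem_normalizer_of_conj_mem hc)
  have hmove : ∃ x ∈ X, ∃ k : K, ¬ ∃ k' : K, ∀ v, x (k • x.symm v) = k' • v := by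
    refine ⟨glAut g, ⟨g, hg, rfl⟩, ⟨k, hk⟩, ?_⟩
    rintro ⟨k', hk'⟩
    apply hkg
    have : (g : Mat) * k * ((g⁻¹ : GL (Fin n) F) : Mat) = k' := by
      apply Matrix.ext_of_mulVec_single
      intro i
      have h := hk' (Pi.single i 1)
      rw [hsmul, hsmul, glAut_apply, glAut_symm_apply] at h
      rw [← Matrix.mulVec_mulVec, ← Matrix.mulVec_mulVec]
      exact h
    rw [this]
    exact k'.2
  have hes := exists_scaling T hσ hF (by rw [hfin]; exact hr) (by
    rcases hex with h | h
    · exact Or.inl (by rw [hfin]; exact h)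
    · refine Or.inr ?_
      rw [← hrn', mul_comm 3] at h
      exact Nat.le_of_mul_le_mul_left h hr.pos)
  obtain ⟨u, hu, huu, hline⟩ := T.exists_line_centres hX (by rw [hfin]; exact hr)
    (by rw [hfin]; exact hro) (by rw [hfin]; exact hr5) hd2 hes hmove
  refine su_le_of_forall_uTv hf hσ hF hn fun v hv c hc => ?_
  obtain ⟨x, ⟨y, hy, rfl⟩, hyx⟩ := T.centre_all hX hd2 hu huu hline hv c hc
  suffices e : uTv q v c = y by rw [e]; exact hy
  apply Units.ext
  apply Matrix.ext_of_mulVec_single
  intro i
  rw [uTv_mulVec hf hv, ← smul_smul]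
  exact (hyx _).symm

/-- The normaliser of an adjoint closed field of degree three or five is maximal in `SU`. -/
theorem isMaximalIn_suGL (hF : Fintype.card F = q ^ 2) (hn : 4 ≤ n) {r : ℕ} (hr : r.Prime)
    (hro : Odd r) (hr5 : r ≤ 5) (hrn : r < n) (hex : r * (q + 1) < q ^ r + 1 ∨ 3 * r ≤ n)
    {K : Subalgebra F (Matrix (Fin n) (Fin n) F)} (hK : IsFieldSubalgebra r K)
    (hac : IsAdjointClosedFor (Cfsg.hermForm n F q) K) :
    IsMaximalIn (SU) (subalgebraNormalizer K ⊓ (SU)) := by
  classical
  obtain ⟨σ, hne, hinv, hσ⟩ := exists_conjEquiv hF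
  have hf := isUnitaryForm_hermForm (n := n) hne hinv hσ
  have hs := sesqForm_of_unitary hf
  obtain ⟨δ, hδ0, hδ⟩ := exists_traceZero hne hinv
  obtain ⟨v, -, hv0, hv⟩ := exists_iso_mem hf (⊤ : Submodule F (Fin n → F))
    (by rw [finrank_top, Module.finrank_pi, Fintype.card_fin]; omega)
  refine isMaximalIn_of inf_le_right ⟨uTv q v δ, uTv_mem hf hv hδ, fun h => ?_⟩
    fun M hHM hMK g hg hgH => ?_
  swap
  · exact su_le_of_not_mem hf hσ hF hn hr hro hr5 hrn hex hK hac hHM hMK hg
      fun hgN => hgH ⟨hgN, hMK hg⟩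
  -- a transvection normalising the field would make it scalar
  obtain ⟨x₁, hx₁⟩ := hs.exists_left_ne_zero hv0
  have hscal : ∀ k ∈ K, ∃ c : F, (k : Mat) *ᵥ v = c • v := by
    intro k hk
    set k' := (uTv q v δ : Mat) * k * ((uTv q v δ)⁻¹ : GL (Fin n) F) with hk'
    have hk'K : k' ∈ K := (h.1 k).mp hk
    have e : ∀ x, (k : Mat) *ᵥ x + (δ * η ((k : Mat) *ᵥ x) v) • v
        = k' *ᵥ x + (δ * η x v) • (k' *ᵥ v) := by
      intro x
      rw [← uTv_mulVec hf hv, ← Matrix.mulVec_smul, ← Matrix.mulVec_add, ← uTv_mulVec hf hv,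
        Matrix.mulVec_mulVec, Matrix.mulVec_mulVec, hk', mul_assoc _ _ (uTv q v δ : Mat),
        Units.inv_mul, mul_one]
    have hkk : (k : Mat) = k' := by
      by_contra hne'
      obtain ⟨y, -, hy⟩ := hK.inv (k - k') (K.sub_mem hk hk'K) (sub_ne_zero.mpr hne')
      let φ₁ : (Fin n → F) →ₗ[F] F :=
        { toFun := fun x => η x v
          map_add' := fun a b => hs.add_left a b v
          map_smul' := fun c a => hs.smul_left c a v }
      let φ := φ₁.prod (φ₁ ∘ₗ Matrix.toLin' k)
      have hrk := φ.finrank_range_add_finrank_ker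
      have hle := Submodule.finrank_le (LinearMap.range φ)
      rw [Module.finrank_prod, Module.finrank_self] at hle
      rw [Module.finrank_pi, Fintype.card_fin] at hrk
      obtain ⟨x, hx, hx0⟩ := (LinearMap.ker φ).exists_mem_ne_zero_of_ne_bot (fun hbot => by
        rw [hbot, finrank_bot] at hrk; omega)
      rw [LinearMap.mem_ker, LinearMap.prod_apply] at hx
      obtain ⟨hx1, hx2⟩ := Prod.ext_iff.mp hx
      have hx1' : η x v = 0 := hx1
      have hx2' : η ((k : Mat) *ᵥ x) v = 0 := hx2
      have h0 := e x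
      rw [hx1', hx2', mul_zero, zero_smul, zero_smul, add_zero, add_zero] at h0
      have hz : ((k : Mat) - k') *ᵥ x = 0 := by rw [Matrix.sub_mulVec, h0, sub_self]
      have hyl := congrArg (y *ᵥ ·) hz
      rw [Matrix.mulVec_mulVec, Matrix.mulVec_zero, mul_eq_one_comm.mp hy, Matrix.one_mulVec]
        at hyl
      exact hx0 hyl
    refine ⟨η ((k : Mat) *ᵥ x₁) v / η x₁ v, ?_⟩
    have h0 := e x₁
    rw [← hkk, add_right_inj] at h0
    rw [div_eq_inv_mul, ← smul_smul, eq_inv_smul_iff₀ hx₁]
    rw [← smul_smul, ← smul_smul] at h0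
    exact ((smul_right_injective (Fin n → F) hδ0) h0).symm
  have hle : Subalgebra.toSubmodule K ≤ Submodule.span F {(1 : Mat)} := by
    intro k hk
    obtain ⟨c, hc⟩ := hscal k hk
    refine Submodule.mem_span_singleton.mpr ⟨c, ?_⟩
    by_contra hne'
    obtain ⟨y, -, hy⟩ := hK.inv (k - c • 1) (K.sub_mem hk (K.smul_mem K.one_mem c))
      (sub_ne_zero.mpr (Ne.symm hne'))
    have hz : ((k : Mat) - c • 1) *ᵥ v = 0 := by
      rw [Matrix.sub_mulVec, hc, Matrix.smul_mulVec, Matrix.one_mulVec, sub_self]
    have hyl := congrArg (y *ᵥ ·) hz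
    rw [Matrix.mulVec_mulVec, Matrix.mulVec_zero, mul_eq_one_comm.mp hy, Matrix.one_mulVec] at hyl
    exact hv0 hyl
  have h3 := Submodule.finrank_mono hle
  have h4 : Module.finrank F (Submodule.span F ({(1 : Mat)} : Set Mat)) ≤ 1 := by
    simpa using finrank_span_le_card ({(1 : Mat)} : Set Mat)
  rw [show Module.finrank F (Subalgebra.toSubmodule K) = r from hK.finrank_eq] at h3
  have := hr.two_le
  omega

end CfsgLib.ExtField
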