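import Cfsg.Agent.ExtField.UOddBasic

/-!
# A line image meeting a line in a hyperplane, unitary case of degree three or five
-/

set_option autoImplicit false
set_option maxHeartbeats 1000000

namespace CfsgLib.ExtField

open Module

variable {F K V : Type*} [Field F] [Field K] [Algebra F K] [AddCommGroup V] [Module F V]
  [Module K V] [IsScalarTower F K V]

namespace UOddTower

variable (T : UOddTower F K V) [Finite K] [FiniteDimensional F K] [FiniteDimensional K V]
  [FiniteDimensional F V]

/-- The data of a line and a line image meeting it, not orthogonal over `K`. -/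
def Good (X : Subgroup (V ≃ₗ[F] V)) (g : V ≃ₗ[F] V) (w u : V) : Prop :=
  g ∈ X ∧ w ≠ 0 ∧ T.h w w = 0 ∧ u ≠ 0 ∧ T.h u u = 0 ∧ (∃ k : K, T.h (g (k • w)) u ≠ 0) ∧
    1 ≤ Module.finrank F ((kline F K w).map g.toLinearMap ⊓ kline F K u : Submodule F V)

variable {X : Subgroup (V ≃ₗ[F] V)}

omit [FiniteDimensional K V] [FiniteDimensional F V] in
theorem line_isotropic {w : V} (hw : T.h w w = 0) {x y : V} (hx : x ∈ kline F K w)
    (hy : y ∈ kline F K w) : T.f x y = 0 := by
  obtain ⟨k, rfl⟩ := mem_kline.mp hx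
  obtain ⟨l, rfl⟩ := mem_kline.mp hy
  exact T.f_eq_zero_of_h (by rw [T.h_smul, T.h_smul_right, hw, mul_zero, mul_zero])

omit [FiniteDimensional K V] [FiniteDimensional F V] in
theorem image_singular {g : V ≃ₗ[F] V} (hg : T.Preserves g) {w : V} (hw : T.h w w = 0) {x y : V}
    (hx : x ∈ (kline F K w).map g.toLinearMap) (hy : y ∈ (kline F K w).map g.toLinearMap) :
    T.f x y = 0 := by
  obtain ⟨x', hx', rfl⟩ := hx
  obtain ⟨y', hy', rfl⟩ := hy
  show T.f (g x') (g y') = 0
  rw [hg]
  exact T.line_isotropic hw hx' hy'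

omit [FiniteDimensional K V] [FiniteDimensional F V] in
/-- The map pairing two multiples into the real trace-zero elements. -/
theorem pairing_mem {e p : K} (h : Algebra.trace F K (e * T.bar p) = 0) :
    e * T.bar p + T.bar e * p ∈ T.realZero := by
  rw [T.mem_realZero]
  have hc : T.bar e * p = T.bar (e * T.bar p) := by rw [map_mul, T.bar_bar]
  refine ⟨?_, ?_⟩
  · rw [map_add, map_mul, map_mul, T.bar_bar, T.bar_bar, add_comm]
  · rw [map_add, hc, T.trace_bar, h, map_zero, add_zero]

omit [FiniteDimensional K V] [FiniteDimensional F V] [FiniteDimensional F K] [Finite K] in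
/-- A vanishing pairing gives a skew ratio. -/
theorem skew_div {e p : K} (hp : p ≠ 0) (h : e * T.bar p + T.bar e * p = 0) :
    T.bar (e / p) = -(e / p) := by
  have hbp : T.bar p ≠ 0 := (map_ne_zero T.bar).mpr hp
  rw [map_div₀, eq_neg_iff_add_eq_zero, div_add_div _ _ hbp hp]
  rw [show T.bar e * p + T.bar p * e = 0 by linear_combination h, zero_div]

omit [FiniteDimensional K V] [FiniteDimensional F V] in
/-- A kernel into the real trace-zero elements is large. -/
theorem ker_bound {A : Type*} [AddCommGroup A] [Finite A] (φ : A →+ T.realZero) :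
    Nat.card A ≤ Nat.card φ.ker * Nat.card T.realZero := by
  rw [← AddSubgroup.card_mul_index φ.ker, AddSubgroup.index_ker]
  exact Nat.mul_le_mul_left _ (Nat.card_le_card_of_injective _ Subtype.val_injective)

/-- The root at `u` with parameter `b` improves `g, w`. -/
theorem step (hX : T.Between X) {g : V ≃ₗ[F] V} (hg : g ∈ X) {w : V} (hw : w ≠ 0)
    (hww : T.h w w = 0) {u : V} (huu : T.h u u = 0) {b : K} (hb : T.bar b = -b)
    {D : Submodule F V} (hDB : D ≤ (kline F K w).map g.toLinearMap)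
    (hDu : ∀ x ∈ D, T.h x u = 0) {a0 : V} (ha0 : a0 ∈ (kline F K w).map g.toLinearMap)
    (ha0D : a0 ∉ D) (hb0 : (b * T.h a0 u) • u ∈ D) {a2 a3 : V}
    (ha2 : a2 ∈ (kline F K w).map g.toLinearMap) (ha3 : a3 ∈ (kline F K w).map g.toLinearMap)
    (hne : Algebra.trace F K (b * T.h a2 u * T.bar (T.h a3 u)) ≠ 0) :
    ∃ g', T.Good X g' w w ∧ Module.finrank F D
      < Module.finrank F ((kline F K w).map g'.toLinearMap ⊓ kline F K w : Submodule F V) := by
  obtain ⟨t, ht, htN⟩ := hX.root T hb huu
  simp only [root_apply] at htN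
  set B : Submodule F V := (kline F K w).map g.toLinearMap with hB
  have htD : ∀ x ∈ D, t x = x := fun x hx => by
    rw [htN, hDu x hx, mul_zero, zero_smul, add_zero]
  have hlt : D < B.map t.toLinearMap ⊓ B := by
    refine lt_of_le_of_ne (fun x hx => ⟨⟨x, hDB hx, htD x hx⟩, hDB hx⟩) fun he => ?_
    have h3 : t a0 ∈ B.map t.toLinearMap ⊓ B := by
      refine ⟨⟨a0, ha0, rfl⟩, ?_⟩
      rw [htN]
      exact B.add_mem ha0 (hDB hb0)
    rw [← he, htN] at h3
    exact ha0D (by simpa using D.sub_mem h3 hb0)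
  have e1 : ((kline F K w).map (g⁻¹ * t * g).toLinearMap ⊓ kline F K w).map g.toLinearMap
      = B.map t.toLinearMap ⊓ B := by
    rw [Submodule.map_inf _ g.injective]
    congr 1
    rw [hB, ← Submodule.map_comp, ← Submodule.map_comp]
    congr 1
    ext x
    show g (g.symm (t (g x))) = t (g x)
    rw [g.apply_symm_apply]
  have e2 : Module.finrank F
      ((kline F K w).map (g⁻¹ * t * g).toLinearMap ⊓ kline F K w : Submodule F V)
      = Module.finrank F (B.map t.toLinearMap ⊓ B : Submodule F V) := by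
    rw [← e1]
    exact (LinearEquiv.finrank_map_eq g _).symm
  have hlt' := Submodule.finrank_lt_finrank_of_lt hlt
  refine ⟨g⁻¹ * t * g, ⟨X.mul_mem (X.mul_mem (X.inv_mem hg) ht) hg, hw, hww, hw, hww, ?_,
    by rw [e2]; omega⟩, by rw [e2]; exact hlt'⟩
  obtain ⟨_, hx, hx'⟩ := ha2
  obtain ⟨k, rfl⟩ := mem_kline.mp hx
  obtain ⟨_, hy, hy'⟩ := ha3
  obtain ⟨l, rfl⟩ := mem_kline.mp hy
  refine ⟨k, fun h0 => hne ?_⟩
  have h4 : T.f (t a2) a3 = 0 := by
    rw [← hx', ← hy', ← (hX.preserves g hg).symm T]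
    show T.f (g.symm (t (g (k • w)))) (g.symm (g (l • w))) = 0
    rw [g.symm_apply_apply]
    refine T.f_eq_zero_of_h ?_
    rw [T.h_smul_right, show T.h (g.symm (t (g (k • w)))) w = 0 from h0, mul_zero]
  rw [htN, T.f_add, T.image_singular (hX.preserves g hg) hww ⟨_, smul_mem_kline w k, hx'⟩
    ⟨_, smul_mem_kline w l, hy'⟩, zero_add, T.tr, T.h_smul, T.h_swap a3 u] at h4
  exact h4

/-- Enlarging the intersection. -/
theorem improve (hX : T.Between X) (hprime : (Module.finrank F K).Prime)
    (hr : Module.finrank F K ≤ 5) {g : V ≃ₗ[F] V} {w u : V} (hG : T.Good X g w u)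
    (h2 : Module.finrank F ((kline F K w).map g.toLinearMap ⊓ kline F K u : Submodule F V) + 2
      ≤ Module.finrank F K) :
    ∃ g' w' u', T.Good X g' w' u' ∧
      Module.finrank F ((kline F K w).map g.toLinearMap ⊓ kline F K u : Submodule F V) <
        Module.finrank F
          ((kline F K w').map g'.toLinearMap ⊓ kline F K u' : Submodule F V) := by
  haveI := T.finite_F
  haveI : Finite V := Module.finite_of_finite K
  obtain ⟨hg, hw, hww, hu, huu, ⟨k₁, hk₁⟩, h1⟩ := hG
  set B : Submodule F V := (kline F K w).map g.toLinearMap with hB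
  set D : Submodule F V := B ⊓ kline F K u with hD
  set a1 := g (k₁ • w) with ha1def
  have ha1 : a1 ∈ B := ⟨_, smul_mem_kline w k₁, rfl⟩
  have hBiso : ∀ x ∈ B, ∀ y ∈ B, T.f x y = 0 := fun x hx y hy =>
    T.image_singular (hX.preserves g hg) hww hx hy
  have hDu : ∀ x ∈ D, T.h x u = 0 := by
    intro x hx
    obtain ⟨k, hk⟩ := mem_kline.mp hx.2
    rw [← hk, T.h_smul, huu, mul_zero]
  let Dk : Submodule F K := D.comap (lineHom u)
  suffices h : ∃ b : K, T.bar b = -b ∧ (∃ a ∈ B, a ∉ D ∧ b * T.h a u ∈ Dk) ∧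
      (∃ a ∈ B, ∃ a' ∈ B, Algebra.trace F K (b * T.h a u * T.bar (T.h a' u)) ≠ 0) by
    obtain ⟨b, hb, ⟨a0, ha0, ha0D, hb0⟩, a2, ha2, a3, ha3, hb2⟩ := h
    obtain ⟨g', hG', hlt⟩ :=
      T.step hX hg hw hww huu hb inf_le_left hDu ha0 ha0D hb0 ha2 ha3 hb2
    exact ⟨g', w, w, hG', hlt⟩
  by_contra hc
  push Not at hc
  have hψa1 : T.h a1 u ≠ 0 := hk₁
  have hinj : ∀ a ∈ B, T.h a u = 0 → a ∈ D := by
    intro a ha h0
    by_contra had
    obtain ⟨b, hb, hb'⟩ := T.exists_skew_trace (n := T.h a1 u * T.bar (T.h a1 u))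
      (mul_ne_zero hψa1 ((map_ne_zero T.bar).mpr hψa1))
      (by rw [map_mul, T.bar_bar, mul_comm])
    rw [← mul_assoc] at hb'
    exact hb' (hc b hb ⟨a, ha, had, by rw [h0, mul_zero]; exact Dk.zero_mem⟩ a1 ha1 a1 ha1)
  -- the image of `B`
  let P : Submodule F K := B.map ((T.hLeft u).restrictScalars F)
  have hmemP : ∀ p : K, p ∈ P ↔ ∃ a ∈ B, T.h a u = p := fun p => Iff.rfl
  let W : Submodule F K :=
    { carrier := {y | T.bar y ∈ P}
      add_mem' := fun {a b} ha hb => by
        show T.bar (a + b) ∈ P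
        rw [map_add]; exact P.add_mem ha hb
      zero_mem' := by
        show T.bar 0 ∈ P
        rw [map_zero]; exact P.zero_mem
      smul_mem' := fun c a ha => by
        show T.bar (c • a) ∈ P
        rw [Algebra.smul_def, map_mul, T.bar_algebraMap, ← Algebra.smul_def]
        exact P.smul_mem _ ha }
  have hN : 1 < Nat.card F := Finite.one_lt_card
  have hDkdim : Module.finrank F Dk = Module.finrank F D := by
    have e : Dk.map (lineHom u) = D := by
      rw [Submodule.map_comap_eq, range_lineHom]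
      exact inf_eq_right.mpr inf_le_right
    have := (Submodule.equivMapOfInjective (lineHom u) (lineHom_injective hu) Dk).finrank_eq
    rw [e] at this
    exact this
  have hBdim : Module.finrank F B = Module.finrank F K := finrank_map_kline g hw
  have hPdim : Module.finrank F P + Module.finrank F D = Module.finrank F K := by
    let f : B →ₗ[F] K := (T.hLeft u).restrictScalars F ∘ₗ B.subtype
    have hrk := f.finrank_range_add_finrank_ker
    rw [hBdim] at hrk
    have h3 : Module.finrank F (LinearMap.range f) = Module.finrank F P := by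
      rw [LinearMap.range_comp, Submodule.range_subtype]
    have h4 : (LinearMap.ker f).map B.subtype = D := by
      ext x
      constructor
      · rintro ⟨y, hy, rfl⟩
        exact hinj _ y.2 hy
      · intro hx
        exact ⟨⟨x, hx.1⟩, hDu x hx, rfl⟩
    have h5 := (Submodule.equivMapOfInjective B.subtype B.injective_subtype
      (LinearMap.ker f)).finrank_eq
    rw [h4] at h5
    omega
  have hWdim : Module.finrank F W = Module.finrank F P := by
    have h3 : Nat.card W = Nat.card P := Nat.card_congr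
      { toFun := fun y => ⟨T.bar y, y.2⟩
        invFun := fun p => ⟨T.bar p, by show T.bar (T.bar (p : K)) ∈ P; rw [T.bar_bar]; exact p.2⟩
        left_inv := fun y => Subtype.ext (T.bar_bar _)
        right_inv := fun p => Subtype.ext (T.bar_bar _) }
    rw [Module.natCard_eq_pow_finrank (K := F) (V := W),
      Module.natCard_eq_pow_finrank (K := F) (V := P)] at h3
    exact Nat.pow_right_injective hN h3
  let Pperp : Submodule F K := LinearMap.BilinForm.orthogonal (Algebra.traceForm F K) W
  have hmemPp : ∀ x : K, x ∈ Pperp ↔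
      ∀ a ∈ B, Algebra.trace F K (x * T.bar (T.h a u)) = 0 := by
    intro x
    constructor
    · intro h a ha
      have := h (T.bar (T.h a u)) (show T.bar (T.bar (T.h a u)) ∈ P from by
        rw [T.bar_bar]; exact ⟨a, ha, rfl⟩)
      rw [Algebra.traceForm_apply, mul_comm] at this
      exact this
    · intro h y hy
      obtain ⟨a, ha, hay⟩ := (hmemP _).mp (show T.bar y ∈ P from hy)
      have := h a ha
      rw [hay, T.bar_bar, mul_comm] at this
      exact this
  have hDkP : Dk ≤ Pperp := by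
    intro e he
    rw [hmemPp]
    intro a ha
    have := hBiso (e • u) (Submodule.mem_inf.mp he).1 a ha
    rwa [T.tr, T.h_smul, T.h_swap a u] at this
  have hPeq : Dk = Pperp := by
    refine Submodule.eq_of_le_of_finrank_le hDkP ?_
    have h3 := LinearMap.BilinForm.finrank_orthogonal (traceForm_nondegenerate F K) (W := W)
    change Module.finrank F Pperp = _ at h3
    omega
  -- all allowed parameters map `P` into `Dk`
  have hbad : ∀ b, T.bar b = -b → (∃ p ∈ P, p ≠ 0 ∧ b * p ∈ Dk) → ∀ p ∈ P, b * p ∈ Dk := by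
    intro b hb ⟨p, hp, hp0, hbp⟩ p' hp'
    obtain ⟨a, ha, rfl⟩ := (hmemP p).mp hp
    obtain ⟨a', ha', rfl⟩ := (hmemP p').mp hp'
    rw [hPeq, hmemPp]
    exact fun a'' ha'' => hc b hb ⟨a, ha, fun h => hp0 (hDu a h), hbp⟩ a' ha' a'' ha''
  have hmap : ∀ b : K, b ≠ 0 → Module.finrank F (P.map (LinearMap.mulLeft F b))
      = Module.finrank F P := fun b hb =>
    ((Submodule.equivMapOfInjective _ (mul_right_injective₀ hb) P).finrank_eq).symm
  have hKcard : Nat.card K = Nat.card F ^ Module.finrank F K := Module.natCard_eq_pow_finrank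
  have hZ := T.card_realZero_sq
  rw [hKcard] at hZ
  have htr0 : ∀ e ∈ Dk, ∀ a ∈ B, Algebra.trace F K (e * T.bar (T.h a u)) = 0 :=
    fun e he => (hmemPp e).mp (hDkP he)
  rcases Nat.lt_or_ge (2 * Module.finrank F D) (Module.finrank F K) with hlow | hhigh
  · -- small intersections
    obtain ⟨e, he, he0⟩ := Dk.exists_mem_ne_zero_of_ne_bot (fun h => by
      rw [h, finrank_bot] at hDkdim; omega)
    let φ : B →+ T.realZero := AddMonoidHom.mk'
      (fun a => ⟨e * T.bar (T.h (a : V) u) + T.bar e * T.h (a : V) u,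
        T.pairing_mem (htr0 e he a a.2)⟩)
      (fun a a' => Subtype.ext (by
        simp only [AddSubgroup.coe_add, Submodule.coe_add, T.h_add, map_add]; ring))
    obtain ⟨a, haker, haD⟩ : ∃ a : B, a ∈ φ.ker ∧ (a : V) ∉ D := by
      by_contra hcon
      push Not at hcon
      have hle : Nat.card φ.ker ≤ Nat.card D := Nat.card_le_card_of_injective
        (fun a => ⟨((a : B) : V), hcon a.1 a.2⟩)
        fun a a' h => Subtype.ext (Subtype.ext (congrArg Subtype.val h :))
      have h3 := T.ker_bound φ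
      rw [Module.natCard_eq_pow_finrank (K := F) (V := B), hBdim] at h3
      rw [Module.natCard_eq_pow_finrank (K := F) (V := D)] at hle
      have h4 := Nat.mul_le_mul h3 h3
      have h5 := Nat.mul_le_mul hle hle
      have h6 : Nat.card F ^ (2 * Module.finrank F K + 1)
          ≤ Nat.card F ^ (2 * Module.finrank F D + Module.finrank F K) := by
        rw [pow_succ, two_mul, two_mul, pow_add, pow_add, pow_add]
        calc _ ≤ (Nat.card φ.ker * Nat.card T.realZero) * (Nat.card φ.ker * Nat.card T.realZero)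
              * Nat.card F := Nat.mul_le_mul_right _ h4
          _ = (Nat.card φ.ker * Nat.card φ.ker)
              * (Nat.card T.realZero * Nat.card T.realZero * Nat.card F) := by ring
          _ ≤ _ := Nat.mul_le_mul h5 hZ
      have := (Nat.pow_le_pow_iff_right hN).mp h6
      omega
    have hp0 : T.h (a : V) u ≠ 0 := fun h => haD (hinj _ a.2 h)
    set b := e / T.h (a : V) u with hbdef
    have hbskew : T.bar b = -b := T.skew_div hp0 (congrArg Subtype.val haker :)
    have hb0 : b ≠ 0 := div_ne_zero he0 hp0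
    have hle : P.map (LinearMap.mulLeft F b) ≤ Dk := by
      rintro _ ⟨p, hp, rfl⟩
      exact hbad b hbskew ⟨_, ⟨a, a.2, rfl⟩, hp0, by
        rw [hbdef, ← T.hLeft_apply u (a : V)]; simpa [hp0] using he⟩ p hp
    have h4 := Submodule.finrank_mono hle
    rw [hmap b hb0] at h4
    omega
  -- degree five, intersection three
  obtain ⟨hr5, he3⟩ : Module.finrank F K = 5 ∧ Module.finrank F D = 3 := by
    have h4 := hprime.two_le
    interval_cases hK : Module.finrank F K <;> first
      | exact ⟨rfl, by omega⟩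
      | omega
      | exact absurd hprime (by norm_num)
  set p₀ := T.h a1 u with hp₀
  let φ : Dk →+ T.realZero := AddMonoidHom.mk'
    (fun e => ⟨(e : K) * T.bar p₀ + T.bar e * p₀, T.pairing_mem (htr0 e e.2 a1 ha1)⟩)
    (fun a a' => Subtype.ext (by simp only [AddSubgroup.coe_add, Submodule.coe_add, map_add]; ring))
  have hker : Nat.card T.realF < Nat.card φ.ker := by
    have h3 := T.ker_bound φ
    rw [Module.natCard_eq_pow_finrank (K := F) (V := Dk), hDkdim, he3] at h3
    rw [hr5] at hZ
    by_contra hcon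
    push Not at hcon
    have h4 := Nat.mul_le_mul h3 h3
    have h5 : Nat.card φ.ker * Nat.card φ.ker ≤ Nat.card F := by
      rw [← T.card_realF]; exact Nat.mul_le_mul hcon hcon
    have h6 : Nat.card F ^ 7 ≤ Nat.card F ^ 6 := by
      calc Nat.card F ^ 7 = Nat.card F ^ 3 * Nat.card F ^ 3 * Nat.card F := by ring
        _ ≤ (Nat.card φ.ker * Nat.card T.realZero) * (Nat.card φ.ker * Nat.card T.realZero)
            * Nat.card F := Nat.mul_le_mul_right _ h4
        _ = (Nat.card φ.ker * Nat.card φ.ker)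
            * (Nat.card T.realZero * Nat.card T.realZero * Nat.card F) := by ring
        _ ≤ Nat.card F * Nat.card F ^ 5 := Nat.mul_le_mul h5 hZ
        _ = Nat.card F ^ 6 := by ring
    have := (Nat.pow_le_pow_iff_right hN).mp h6
    omega
  obtain ⟨⟨e₁, he₁⟩, hk₁', he₁0⟩ : ∃ e : Dk, e ∈ φ.ker ∧ (e : K) ≠ 0 := by
    by_contra hcon
    push Not at hcon
    haveI : Subsingleton φ.ker :=
      ⟨fun a b => Subtype.ext (Subtype.ext ((hcon _ a.2).trans (hcon _ b.2).symm))⟩
    have := Nat.card_of_subsingleton (0 : φ.ker)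
    have := T.one_lt_card_realF
    omega
  obtain ⟨⟨e₂, he₂⟩, hk₂', hnot⟩ : ∃ e : Dk, e ∈ φ.ker ∧
      ∀ c ∈ T.realF, (e : K) ≠ algebraMap F K c * e₁ := by
    by_contra hcon
    push Not at hcon
    choose c hc hce using hcon
    have := Nat.card_le_card_of_injective (fun e : φ.ker => (⟨c e.1 e.2, hc e.1 e.2⟩ : T.realF))
      fun e e' h => Subtype.ext (Subtype.ext (by
        rw [hce e.1 e.2, hce e'.1 e'.2]
        exact congrArg (fun x => algebraMap F K x * e₁) (congrArg Subtype.val h)))
    omega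
  have hp0 : p₀ ≠ 0 := hψa1
  set b₁ := e₁ / p₀ with hb₁
  set b₂ := e₂ / p₀ with hb₂
  have hb₁s : T.bar b₁ = -b₁ := T.skew_div hp0 (congrArg Subtype.val hk₁' :)
  have hb₂s : T.bar b₂ = -b₂ := T.skew_div hp0 (congrArg Subtype.val hk₂' :)
  have hb₁0 : b₁ ≠ 0 := div_ne_zero he₁0 hp0
  have hP0 : p₀ ∈ P := ⟨a1, ha1, rfl⟩
  have hP₁ := hbad b₁ hb₁s ⟨p₀, hP0, hp0, by rw [hb₁, div_mul_cancel₀ _ hp0]; exact he₁⟩
  have hP₂ := hbad b₂ hb₂s ⟨p₀, hP0, hp0, by rw [hb₂, div_mul_cancel₀ _ hp0]; exact he₂⟩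
  set t := b₂ / b₁ with ht
  have hb₂t : b₂ = t * b₁ := (div_mul_cancel₀ _ hb₁0).symm
  have htr : T.bar t = t := by rw [ht, map_div₀, hb₁s, hb₂s, neg_div_neg_eq]
  have htF : ∀ c : F, t ≠ algebraMap F K c := by
    intro c hc'
    refine hnot c (T.mem_realF.mpr ((algebraMap F K).injective ?_)) ?_
    · rw [← T.bar_algebraMap, ← hc', htr]
    · show e₂ = _
      rw [← hc', ht, hb₁, hb₂]
      field_simp
  have ht0 : t ≠ 0 := fun h => htF 0 (by rw [h, map_zero])
  obtain ⟨c, hc1, hc2, hc0⟩ : ∃ c, c ∈ P ∧ t * c ∈ P ∧ c ≠ 0 := by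
    have h3 := Submodule.finrank_sup_add_finrank_inf_eq (P.map (LinearMap.mulLeft F b₁))
      (P.map (LinearMap.mulLeft F b₂))
    rw [hmap b₁ hb₁0, hmap b₂ (by rw [hb₂t]; exact mul_ne_zero ht0 hb₁0)] at h3
    have h4 : P.map (LinearMap.mulLeft F b₁) ⊔ P.map (LinearMap.mulLeft F b₂) ≤ Dk :=
      sup_le (by rintro _ ⟨p, hp, rfl⟩; exact hP₁ p hp) (by rintro _ ⟨p, hp, rfl⟩; exact hP₂ p hp)
    have h5 := Submodule.finrank_mono h4
    obtain ⟨x, hx, hx0⟩ := Submodule.exists_mem_ne_zero_of_ne_bot (p :=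
      P.map (LinearMap.mulLeft F b₁) ⊓ P.map (LinearMap.mulLeft F b₂)) (fun h => by
        rw [h, finrank_bot] at h3; omega)
    obtain ⟨⟨p₁, hp₁, h1⟩, p₂, hp₂, h2'⟩ := hx
    simp only [LinearMap.mulLeft_apply] at h1 h2'
    have e : p₁ = t * p₂ := mul_left_cancel₀ hb₁0 (by rw [h1, ← h2', hb₂t]; ring)
    exact ⟨p₂, hp₂, e ▸ hp₁, fun h => hx0 (by rw [← h2', h, mul_zero])⟩
  have hb : T.bar (b₁ / t) = -(b₁ / t) := by rw [map_div₀, hb₁s, htr, neg_div]
  have hP₃ := hbad _ hb ⟨t * c, hc2, mul_ne_zero ht0 hc0, by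
    rw [← mul_assoc, div_mul_cancel₀ _ ht0]; exact hP₁ c hc1⟩
  set m := b₁ / t * c with hm
  have hm0 : m ≠ 0 := mul_ne_zero (div_ne_zero hb₁0 ht0) hc0
  have hpow : ∀ i : Fin 4, m * t ^ (i : ℕ) ∈ Dk := by
    intro i
    fin_cases i
    · simpa using hP₃ c hc1
    · have := hP₁ c hc1
      convert this using 1
      simp only [hm]; field_simp
    · have := hP₁ (t * c) hc2
      convert this using 1
      simp only [hm]; field_simp
    · have := hP₂ (t * c) hc2
      convert this using 1
      simp only [hm, hb₂t]; field_simp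
  have hint : IsIntegral F t := IsIntegral.of_finite F t
  have hdeg : 4 ≤ (minpoly F t).natDegree := by
    have h3 := minpoly.degree_dvd hint
    rw [hr5] at h3
    rcases (Nat.dvd_prime Nat.prime_five).mp h3 with h4 | h4
    · exfalso
      obtain ⟨c', hc'⟩ := minpoly.natDegree_eq_one_iff.mp h4
      exact htF c' hc'.symm
    · omega
  have hli : LinearIndependent F (fun i : Fin 4 => (⟨_, hpow i⟩ : Dk)) := by
    apply LinearIndependent.of_comp Dk.subtype
    have h4 := ((linearIndependent_pow (K := F) t).comp (Fin.castLE hdeg)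
      (Fin.castLE_injective hdeg)).map' (LinearMap.mulLeft F m)
      (LinearMap.ker_eq_bot.mpr (mul_right_injective₀ hm0))
    exact h4
  have := hli.fintype_card_le_finrank
  rw [hDkdim, he3, Fintype.card_fin] at this
  omega

/-- Some image of an isotropic line is not orthogonal to a line it meets, unless `K` is
normalised. -/
theorem exists_good (hX : T.Between X) (hd : 2 ≤ Module.finrank K V)
    (hmove : ∃ g ∈ X, ∃ k : K, ¬ ∃ k' : K, ∀ v, g (k • g.symm v) = k' • v) :
    ∃ g w u, T.Good X g w u := by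
  haveI := T.finite_F
  haveI : Finite V := Module.finite_of_finite K
  obtain ⟨g, hg, k, hk⟩ := hmove
  -- some image of an isotropic line is not a line
  obtain ⟨w, hw, hww, hline⟩ : ∃ w, w ≠ 0 ∧ T.h w w = 0 ∧
      ¬ ∀ l : K, ∃ c : K, g (l • w) = c • g w := by
    by_contra hcon
    push Not at hcon
    apply hk
    choose φ hφ using hcon
    have hgne : ∀ v, v ≠ 0 → g v ≠ 0 := fun v hv => by simpa using hv
    have hind : ∀ v v' (hv : v ≠ 0) (hvv : T.h v v = 0), T.h v v' ≠ 0 →
        ∀ a b : K, a • g v + b • g v' = 0 → a = 0 ∧ b = 0 := by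
      intro v v' hv hvv hne a b hab
      by_cases hb : b = 0
      · subst hb
        rw [zero_smul, add_zero] at hab
        exact ⟨(smul_eq_zero.mp hab).resolve_right (hgne v hv), rfl⟩
      exfalso
      have hmem : g v' ∈ kline F K (g v) := mem_kline.mpr ⟨-(a / b), by
        rw [add_comm, add_eq_zero_iff_eq_neg, ← neg_smul] at hab
        rw [show -(a / b) = b⁻¹ * (-a) by ring, mul_smul, ← hab, inv_smul_smul₀ hb]⟩
      have hle : (kline F K v).map g.toLinearMap ≤ kline F K (g v) := by
        rintro _ ⟨x, hx, rfl⟩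
        obtain ⟨l, rfl⟩ := mem_kline.mp hx
        exact mem_kline.mpr ⟨_, (hφ v hv hvv l).symm⟩
      have heq := Submodule.eq_of_le_of_finrank_eq hle
        (by rw [finrank_map_kline g hv, finrank_kline (hgne v hv)])
      rw [← heq] at hmem
      obtain ⟨x, hx, hx'⟩ := hmem
      obtain ⟨l, rfl⟩ := mem_kline.mp hx
      rw [← g.injective hx', T.h_smul_right, hvv, mul_zero] at hne
      exact hne rfl
    have hφ1 : ∀ v (hv : v ≠ 0) (hvv : T.h v v = 0), φ v hv hvv 1 = 1 := by
      intro v hv hvv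
      have := hφ v hv hvv 1
      rw [one_smul] at this
      exact (smul_left_injective K (hgne v hv) (this.symm.trans (one_smul K _).symm) :)
    have hφlin : ∀ v (hv : v ≠ 0) (hvv : T.h v v = 0) (c : F) (a b : K),
        φ v hv hvv (a + algebraMap F K c * b)
          = φ v hv hvv a + algebraMap F K c * φ v hv hvv b := by
      intro v hv hvv c a b
      apply smul_left_injective K (hgne v hv)
      show _ • g v = _ • g v
      rw [← hφ, add_smul, mul_smul, algebraMap_smul, map_add, map_smul g c, hφ v hv hvv a,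
        hφ v hv hvv b, add_smul, mul_smul, algebraMap_smul]
    obtain ⟨c, hc⟩ := T.moved
    set δ := algebraMap F K (c - T.σ c) with hδ
    have hδ0 : δ ≠ 0 := by
      rw [hδ, map_ne_zero_iff _ (algebraMap F K).injective, sub_ne_zero]; exact Ne.symm hc
    have hδs : T.bar δ = -δ := by
      rw [hδ, T.bar_algebraMap, map_sub, T.σ_σ, ← map_neg, neg_sub]
    -- a normalised pair
    have hnorm : ∀ v v' (hv : v ≠ 0) (hvv : T.h v v = 0) (hv' : v' ≠ 0) (hvv' : T.h v' v' = 0),
        T.h v v' = δ → φ v hv hvv = φ v' hv' hvv' ∧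
          ∀ a b, φ v hv hvv (a * b) = φ v hv hvv a * φ v hv hvv b := by
      intro v v' hv hvv hv' hvv' hpair
      have hne : T.h v v' ≠ 0 := by rw [hpair]; exact hδ0
      have key : ∀ s : K, T.bar s = s → ∀ l, φ v' hv' hvv' (l * s)
          = φ v hv hvv l * φ v' hv' hvv' s := by
        intro s hs l
        set z := v + s • v' with hz
        have hz0 : z ≠ 0 := by
          intro h0
          have := congrArg (fun x => T.h x v') h0
          simp [hz, T.h_add, T.h_smul, hvv', hne] at this
        have hzz : T.h z z = 0 := by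
          simp only [hz, T.h_add, T.h_add_right, T.h_smul, T.h_smul_right, hvv, hvv', hpair,
            T.h_swap v v', hδs, hs]
          ring
        obtain ⟨cz, h1⟩ : ∃ cz, g (l • (v + s • v')) = cz • g (v + s • v') :=
          ⟨_, hφ z hz0 hzz l⟩
        rw [smul_add, map_add, smul_smul, hφ v hv hvv, hφ v' hv' hvv', map_add,
          hφ v' hv' hvv' s, smul_add, smul_smul] at h1
        have h2 := hind v v' hv hvv hne (φ v hv hvv l - cz)
          (φ v' hv' hvv' (l * s) - cz * φ v' hv' hvv' s) (by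
            rw [sub_smul, sub_smul]
            linear_combination (norm := module) h1)
        rw [sub_eq_zero, sub_eq_zero] at h2
        rw [h2.2, ← h2.1]
      have heq : φ v hv hvv = φ v' hv' hvv' := funext fun l => by
        have := key 1 (map_one _) l
        rw [mul_one, hφ1, mul_one] at this
        exact this.symm
      refine ⟨heq, fun a b => ?_⟩
      obtain ⟨b₁, b₂, hb₁, hb₂, rfl⟩ := T.exists_decomp hc b
      have k1 := key b₁ hb₁ a
      have k2 := key b₂ hb₂ a
      rw [← heq] at k1 k2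
      rw [mul_add, mul_left_comm a, hφlin, hφlin, k1, k2]
      ring
    have hscale : ∀ v v' (hv : v ≠ 0) (hvv : T.h v v = 0) (hv' : v' ≠ 0)
        (hvv' : T.h v' v' = 0), T.h v v' ≠ 0 → φ v hv hvv = φ v' hv' hvv' ∧
          ∀ a b, φ v hv hvv (a * b) = φ v hv hvv a * φ v hv hvv b := by
      intro v v' hv hvv hv' hvv' hne
      set l := T.bar (δ / T.h v v') with hl
      have hl0 : l ≠ 0 := (map_ne_zero T.bar).mpr (div_ne_zero hδ0 hne)
      have hlv : l • v' ≠ 0 := smul_ne_zero hl0 hv'
      have hlvv : T.h (l • v') (l • v') = 0 := by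
        rw [T.h_smul, T.h_smul_right, hvv', mul_zero, mul_zero]
      obtain ⟨h1, h2⟩ := hnorm v (l • v') hv hvv hlv hlvv (by
        rw [T.h_smul_right, hl, T.bar_bar, div_mul_cancel₀ _ hne])
      refine ⟨funext fun a => ?_, h2⟩
      -- `v' = l⁻¹ • (l • v')`
      have e1 : g (a • v') = φ v hv hvv a • g v' := by
        have e2 := hφ (l • v') hlv hlvv (a * l⁻¹)
        have e3 := hφ (l • v') hlv hlvv l⁻¹
        rw [smul_smul, mul_assoc, inv_mul_cancel₀ hl0, mul_one, ← h1] at e2
        rw [inv_smul_smul₀ hl0, ← h1] at e3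
        rw [e2, e3, smul_smul, h2]
      exact smul_left_injective K (hgne v' hv') (e1.symm.trans (hφ v' hv' hvv' a))
    obtain ⟨w₀, -, hw₀, hw₀w⟩ := T.exists_isotropic_in (L := ⊤) (by rw [finrank_top]; omega)
    refine ⟨φ w₀ hw₀ hw₀w k, fun y => ?_⟩
    obtain ⟨x, rfl⟩ := g.surjective y
    rw [g.symm_apply_apply]
    have hiso : ∀ v, T.h v v = 0 → g (k • v) = φ w₀ hw₀ hw₀w k • g v := by
      intro v hvv
      rcases eq_or_ne v 0 with rfl | hv
      · simp
      obtain ⟨z, hz, hzw, hzv⟩ := T.exists_isotropic_ne_two hd hw₀ hv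
      have hz0 : z ≠ 0 := fun h => hzw (by rw [h, T.h_zero_right])
      rw [hφ v hv hvv, (hscale w₀ z hw₀ hw₀w hz0 hz hzw).1,
        ← (hscale v z hv hvv hz0 hz hzv).1]
    rcases eq_or_ne x 0 with rfl | hx
    · simp
    obtain ⟨u, hu, hxu⟩ := T.exists_isotropic_ne hd hx
    obtain ⟨c', hc', -⟩ := T.isotropic_shift hu
      (show T.h u x ≠ 0 by rw [T.h_swap x u]; exact (map_ne_zero T.bar).mpr hxu)
    have h1 := hiso _ hc'
    have h2 := hiso (c' • u) (by rw [T.h_smul, T.h_smul_right, hu, mul_zero, mul_zero])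
    rw [smul_add, map_add, map_add, smul_add, h2] at h1
    exact add_right_cancel h1
  set B : Submodule F V := (kline F K w).map g.toLinearMap with hB
  have hBdim : Module.finrank F B = Module.finrank F K := finrank_map_kline g hw
  obtain ⟨u, huB, hu, huu⟩ : ∃ u ∈ B.toAddSubgroup, u ≠ 0 ∧ T.h u u = 0 := by
    refine T.exists_isotropic B.toAddSubgroup T.realZero (fun x hx => T.mem_realZero.mpr
      ⟨T.bar_h_self x, ?_⟩) ?_
    · rw [← T.tr]
      exact T.image_singular (hX.preserves g hg) hww hx hx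
    · show _ < Nat.card B
      rw [Module.natCard_eq_pow_finrank (K := F) (V := B), hBdim, ← Module.natCard_eq_pow_finrank]
      have h1 := T.card_realZero_sq
      have h2 : 1 < Nat.card F := Finite.one_lt_card
      have h3 : 0 < Nat.card T.realZero := Nat.card_pos
      nlinarith
  have hne : B ≠ kline F K u := by
    intro he
    apply hline
    intro l
    obtain ⟨i, hi⟩ := mem_kline.mp (he ▸ ⟨_, smul_mem_kline w l, rfl⟩ : g (l • w) ∈ kline F K u)
    obtain ⟨j, hj⟩ := mem_kline.mp (he ▸ ⟨_, self_mem_kline w, rfl⟩ : g w ∈ kline F K u)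
    have hj0 : j ≠ 0 := fun h => by
      rw [h, zero_smul] at hj; exact hw (by simpa using hj.symm)
    exact ⟨i / j, by rw [← hi, ← hj, smul_smul, div_mul_cancel₀ _ hj0]⟩
  obtain ⟨a, haB, hau⟩ : ∃ a ∈ B, a ∉ kline F K u := by
    by_contra hcon
    push Not at hcon
    exact hne (Submodule.eq_of_le_of_finrank_eq hcon (by rw [hBdim, finrank_kline hu]))
  by_cases hau' : T.h a u = 0
  swap
  · obtain ⟨_, hx, hxa⟩ := haB
    obtain ⟨l, rfl⟩ := mem_kline.mp hx
    refine ⟨g, w, u, hg, hw, hww, hu, huu, ⟨l, by rw [← hxa] at hau'; exact hau'⟩, ?_⟩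
    rw [Nat.one_le_iff_ne_zero]
    intro h0
    rw [Submodule.finrank_eq_zero] at h0
    have : u ∈ B ⊓ kline F K u := ⟨huB, self_mem_kline u⟩
    rw [h0] at this
    exact hu this
  -- a root fixing one vector of `B` and moving another
  obtain ⟨x₀, hx₀, hx₀0, x₁, hx₁, u', hu', hx₀u, hx₁u⟩ : ∃ x₀ ∈ B, x₀ ≠ 0 ∧ ∃ x₁ ∈ B, ∃ u',
      T.h u' u' = 0 ∧ T.h x₀ u' = 0 ∧ T.h x₁ u' ≠ 0 := by
    have ha0 : a ≠ 0 := fun h => hau (by rw [h]; exact Submodule.zero_mem _)
    have hua : T.h u a = 0 := by rw [T.h_swap a u, hau', map_zero]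
    by_cases haa : T.h a a = 0
    · obtain ⟨y, hy, hay⟩ : ∃ y, T.h u y = 0 ∧ T.h a y ≠ 0 := by
        by_contra hcon
        push Not at hcon
        apply hau
        obtain ⟨y₁, hy₁⟩ := T.nondeg u hu
        rw [mem_kline]
        set l := T.h a y₁ / T.h u y₁ with hl
        refine ⟨l, ?_⟩
        by_contra hne'
        obtain ⟨y₂, hy₂⟩ := T.nondeg _ (sub_ne_zero.mpr hne')
        have h1 := hcon (y₂ - T.bar (T.h u y₂ / T.h u y₁) • y₁) (by
          rw [sub_eq_add_neg, T.h_add_right, ← neg_smul, T.h_smul_right, map_neg, T.bar_bar,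
            neg_mul, div_mul_cancel₀ _ hy₁, add_neg_cancel])
        rw [sub_eq_add_neg, T.h_add_right, ← neg_smul, T.h_smul_right, map_neg, T.bar_bar,
          neg_mul, ← sub_eq_add_neg, sub_eq_zero] at h1
        apply hy₂
        rw [T.h_sub_left, T.h_smul, h1, hl]
        field_simp
        ring
      obtain ⟨c, hc1, hc2⟩ := T.isotropic_shift haa hay
      exact ⟨u, huB, hu, a, haB, _, hc1, by rw [T.h_add_right, T.h_smul_right, hy, hua, mul_zero,
        add_zero], by rw [hc2]; exact hay⟩
    · obtain ⟨y, hy⟩ := T.nondeg u hu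
      set y₀ := y - (T.h y a / T.h a a) • a with hy₀
      have hy₀a : T.h y₀ a = 0 := by
        rw [hy₀, T.h_sub_left, T.h_smul, div_mul_cancel₀ _ haa, sub_self]
      have hy₀u : T.h u y₀ ≠ 0 := by
        rw [hy₀, sub_eq_add_neg, T.h_add_right, ← neg_smul, T.h_smul_right, hua, mul_zero,
          add_zero]
        exact hy
      obtain ⟨c, hc1, hc2⟩ := T.isotropic_shift huu hy₀u
      refine ⟨a, haB, ha0, u, huB, _, hc1, ?_, by rw [hc2]; exact hy₀u⟩
      rw [T.h_add_right, T.h_smul_right, T.h_swap y₀ a, hy₀a, map_zero, hau', mul_zero, add_zero]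
  obtain ⟨b, hb, hb'⟩ := T.exists_skew_trace (n := T.h x₁ u' * T.bar (T.h x₁ u'))
    (mul_ne_zero hx₁u ((map_ne_zero T.bar).mpr hx₁u)) (by rw [map_mul, T.bar_bar, mul_comm])
  rw [← mul_assoc] at hb'
  obtain ⟨g', hG', -⟩ := T.step hX hg hw hww hu' hb (D := ⊥) bot_le
    (fun x hx => by rw [(Submodule.mem_bot F).mp hx, T.h_zero_left]) hx₀
    (fun h => hx₀0 ((Submodule.mem_bot F).mp h))
    (by rw [hx₀u, mul_zero, zero_smul]; exact Submodule.zero_mem _) hx₁ hx₁ hb'
  exact ⟨g', w, w, hG'⟩

/-- Some image of a line meets a line, not orthogonal to it, in a hyperplane. -/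
theorem exists_hyperplane (hX : T.Between X) (hprime : (Module.finrank F K).Prime)
    (hr : Module.finrank F K ≤ 5) (hd : 2 ≤ Module.finrank K V)
    (hmove : ∃ g ∈ X, ∃ k : K, ¬ ∃ k' : K, ∀ v, g (k • g.symm v) = k' • v) :
    ∃ g w u, T.Good X g w u ∧
      Module.finrank F ((kline F K w).map g.toLinearMap ⊓ kline F K u : Submodule F V) + 1
        = Module.finrank F K := by
  obtain ⟨g, w, u, hgood⟩ := T.exists_good hX hd hmove
  have hlt : ∀ g w u, T.Good X g w u →
      Module.finrank F ((kline F K w).map g.toLinearMap ⊓ kline F K u : Submodule F V)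
        < Module.finrank F K := by
    rintro g w u ⟨-, hw, -, hu, huu, ⟨k, hk⟩, -⟩
    have hlt' : (kline F K w).map g.toLinearMap ⊓ kline F K u < kline F K u := by
      refine lt_of_le_of_ne inf_le_right fun he => hk ?_
      have := (Submodule.eq_of_le_of_finrank_eq (inf_eq_right.mp he)
        (by rw [finrank_map_kline g hw, finrank_kline hu])).symm
      have hmem : g (k • w) ∈ kline F K u := this ▸ ⟨_, smul_mem_kline w k, rfl⟩
      obtain ⟨l, hl⟩ := mem_kline.mp hmem
      rw [← hl, T.h_smul, huu, mul_zero]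
    have := Submodule.finrank_lt_finrank_of_lt hlt'
    rwa [finrank_kline hu] at this
  suffices h : ∀ j, ∀ g w u, T.Good X g w u →
      Module.finrank F K ≤ j + Module.finrank F
        ((kline F K w).map g.toLinearMap ⊓ kline F K u : Submodule F V) →
      ∃ g w u, T.Good X g w u ∧
        Module.finrank F ((kline F K w).map g.toLinearMap ⊓ kline F K u : Submodule F V) + 1
          = Module.finrank F K from h _ g w u hgood (Nat.le_add_right _ _)
  intro j
  induction j with
  | zero =>
    intro g w u hG hj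
    have := hlt g w u hG
    omega
  | succ j ih =>
    intro g w u hG hj
    have h2 := hlt g w u hG
    rcases Nat.lt_or_ge (Module.finrank F
      ((kline F K w).map g.toLinearMap ⊓ kline F K u : Submodule F V) + 1)
      (Module.finrank F K) with h3 | h3
    · obtain ⟨g', w', u', hG', h4⟩ := T.improve hX hprime hr hG (by omega)
      exact ih g' w' u' hG' (by omega)
    · exact ⟨g, w, u, hG, by omega⟩

end UOddTower

end CfsgLib.ExtField
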